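import Mathlib.Algebra.IsPrimePow
import Mathlib.Data.Nat.Prime.Basic
import Mathlib.Tactic.Linarith
import Mathlib.Tactic.Ring

/-!
The numerical inequalities behind the bound on the index.
-/

set_option autoImplicit false

namespace CfsgLib.PGroup.OrthIndex

theorem squares_seven {q s : ℕ} (hq : 4 ≤ q) (hs : q - 1 ≤ 2 * s) (h4 : q = 4 → s = 3) :
    (q + 1) ^ 2 * q ^ 2 ≤ s * (q - 1) ^ 5 := by
  obtain ⟨t, rfl⟩ : ∃ t, q = 4 + t := ⟨q - 4, by omega⟩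
  rcases Nat.eq_zero_or_pos t with rfl | ht
  · rw [h4 rfl]; norm_num
  rw [show 4 + t - 1 = t + 3 by omega] at hs ⊢
  have h1 : 3 * ((4 + t + 1) * (4 + t)) ≤ 2 * (t + 3) ^ 3 := by nlinarith [Nat.one_le_pow 3 t ht]
  have h2 : (3 * ((4 + t + 1) * (4 + t))) ^ 2 ≤ (2 * (t + 3) ^ 3) ^ 2 := Nat.pow_le_pow_left h1 2
  have h3 : (t + 3) * (t + 3) ^ 5 ≤ 2 * s * (t + 3) ^ 5 := Nat.mul_le_mul_right _ hs
  nlinarith [h2, h3]

theorem squares_six {q s : ℕ} (hq : 4 ≤ q) (hs : q - 1 ≤ 2 * s) (h4 : q = 4 → s = 3) :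
    q * (q ^ 3 + 1) ≤ s * (q - 1) ^ 3 * (q + 1) := by
  obtain ⟨t, rfl⟩ : ∃ t, q = 4 + t := ⟨q - 4, by omega⟩
  rcases Nat.eq_zero_or_pos t with rfl | ht
  · rw [h4 rfl]; norm_num
  rw [show 4 + t - 1 = t + 3 by omega] at hs ⊢
  have h3 : (t + 3) * ((t + 3) ^ 3 * (4 + t + 1)) ≤ 2 * s * ((t + 3) ^ 3 * (4 + t + 1)) :=
    Nat.mul_le_mul_right _ hs
  nlinarith [h3, Nat.one_le_pow 2 t ht, Nat.one_le_pow 3 t ht, Nat.one_le_pow 4 t ht, Nat.one_le_pow 5 t ht]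

theorem ts_six {q : ℕ} (hq : 4 ≤ q) : q * (q ^ 3 + 1) ≤ 2 * (q - 1) ^ 3 * (q + 1) := by
  obtain ⟨t, rfl⟩ : ∃ t, q = 4 + t := ⟨q - 4, by omega⟩
  rw [show 4 + t - 1 = t + 3 by omega]
  nlinarith [Nat.zero_le t, sq_nonneg t]

/-- Dimension at least seven, with a nonsingular vector. -/
theorem no_pairs_seven {q j X U s : ℕ} (hq : 4 ≤ q) (hs : q - 1 ≤ 2 * s) (h4 : q = 4 → s = 3)
    (hX : X * (q - 1) < q ^ (j + 8) + q ^ (j + 7)) (hK : (q - 1) * q ^ (j + 3) * U ≤ X)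
    (hP : s * ((q - 1) * q ^ (j + 5)) * ((q - 1) * q ^ (j + 4)) ≤ X * (U - 1)) : False := by
  have key := squares_seven hq hs h4
  obtain ⟨r, rfl⟩ : ∃ r, q = r + 1 := ⟨q - 1, by omega⟩
  rw [Nat.add_sub_cancel] at hX hK hP key hs
  have hqj : 0 < (r + 1) ^ j := by positivity
  have hU : U * r ^ 2 < (r + 2) * (r + 1) ^ 4 := by
    refine Nat.lt_of_mul_lt_mul_left (a := (r + 1) ^ (j + 3)) ?_
    calc (r + 1) ^ (j + 3) * (U * r ^ 2) = r * (r + 1) ^ (j + 3) * U * r := by ring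
      _ ≤ X * r := Nat.mul_le_mul_right _ hK
      _ < _ := hX
      _ = _ := by ring
  have h1 : s * r ^ 3 * (r + 1) ^ (2 * j + 9) ≤ (r + 2) * (r + 1) ^ (j + 7) * U := by
    calc s * r ^ 3 * (r + 1) ^ (2 * j + 9)
        = s * (r * (r + 1) ^ (j + 5)) * (r * (r + 1) ^ (j + 4)) * r := by ring
      _ ≤ X * (U - 1) * r := Nat.mul_le_mul_right _ hP
      _ ≤ X * U * r := by gcongr; omega
      _ = X * r * U := by ring
      _ ≤ _ := Nat.mul_le_mul_right _ (le_of_lt (by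
        calc X * r < _ := hX
          _ = (r + 2) * (r + 1) ^ (j + 7) := by ring))
  have h2 : s * r ^ 5 * (r + 1) ^ (2 * j + 9) < (r + 2) ^ 2 * (r + 1) ^ (j + 11) := by
    calc s * r ^ 5 * (r + 1) ^ (2 * j + 9) = s * r ^ 3 * (r + 1) ^ (2 * j + 9) * r ^ 2 := by ring
      _ ≤ (r + 2) * (r + 1) ^ (j + 7) * U * r ^ 2 := Nat.mul_le_mul_right _ h1
      _ = (r + 2) * (r + 1) ^ (j + 7) * (U * r ^ 2) := by ring
      _ < (r + 2) * (r + 1) ^ (j + 7) * ((r + 2) * (r + 1) ^ 4) :=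
        Nat.mul_lt_mul_of_pos_left hU (by positivity)
      _ = _ := by ring
  have h3 : (r + 2) ^ 2 * (r + 1) ^ (j + 11) ≤ s * r ^ 5 * (r + 1) ^ (2 * j + 9) := by
    calc (r + 2) ^ 2 * (r + 1) ^ (j + 11) = (r + 1 + 1) ^ 2 * (r + 1) ^ 2 * (r + 1) ^ (j + 9) := by ring
      _ ≤ s * r ^ 5 * (r + 1) ^ (j + 9) := Nat.mul_le_mul_right _ key
      _ ≤ _ := by gcongr <;> omega
  omega

/-- Dimension at least seven, totally singular. -/
theorem no_ts_seven {q j k X U : ℕ} (hq : 4 ≤ q) (hk : k ≤ j + 3) (hU : U ≤ q ^ k)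
    (hX : X * (q - 1) < q ^ (j + 8) + q ^ (j + 7))
    (hP : (q - 1) * q ^ (j + 5) * ((q - 1) * q ^ (j + 4)) ≤ X * (U - 1)) : False := by
  obtain ⟨r, rfl⟩ : ∃ r, q = r + 1 := ⟨q - 1, by omega⟩
  rw [Nat.add_sub_cancel] at hX hP
  have h1 : r ^ 3 * (r + 1) ^ (2 * j + 9) < (r + 2) * (r + 1) * (r + 1) ^ (2 * j + 9) := by
    calc r ^ 3 * (r + 1) ^ (2 * j + 9) = r * (r + 1) ^ (j + 5) * (r * (r + 1) ^ (j + 4)) * r := by ring
      _ ≤ X * (U - 1) * r := Nat.mul_le_mul_right _ hP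
      _ ≤ X * (r + 1) ^ k * r := by gcongr; omega
      _ ≤ X * (r + 1) ^ (j + 3) * r := by gcongr; omega
      _ = X * r * (r + 1) ^ (j + 3) := by ring
      _ < ((r + 1) ^ (j + 8) + (r + 1) ^ (j + 7)) * (r + 1) ^ (j + 3) :=
        Nat.mul_lt_mul_of_pos_right hX (by positivity)
      _ = _ := by ring
  have h2 : (r + 2) * (r + 1) ≤ r ^ 3 := by nlinarith [Nat.mul_le_mul_right (r * r) (show 3 ≤ r by omega)]
  exact absurd h1 (not_lt.2 (Nat.mul_le_mul_right _ h2))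

theorem eq_or_double {q U e : ℕ} (hq : IsPrimePow q) (hU : U ∣ q ^ e) (m : ℕ) :
    U < q ^ m → 2 * U ≤ q ^ m := by
  obtain ⟨p, k, hp, hk, rfl⟩ := (isPrimePow_nat_iff _).1 hq
  rw [← pow_mul] at hU
  obtain ⟨i, -, rfl⟩ := (Nat.dvd_prime_pow hp).1 hU
  intro h
  rw [← pow_mul] at h ⊢
  have hi : i < k * m := (Nat.pow_lt_pow_iff_right hp.one_lt).1 h
  calc 2 * p ^ i ≤ p * p ^ i := Nat.mul_le_mul_right _ hp.two_le
    _ = p ^ (i + 1) := by ring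
    _ ≤ p ^ (k * m) := Nat.pow_le_pow_right hp.pos hi

theorem le_of_lt_double {q U e : ℕ} (hq : IsPrimePow q) (hU : U ∣ q ^ e) (m : ℕ) :
    U < 2 * q ^ m → U ≤ q ^ m := by
  obtain ⟨p, k, hp, hk, rfl⟩ := (isPrimePow_nat_iff _).1 hq
  rw [← pow_mul] at hU
  obtain ⟨i, -, rfl⟩ := (Nat.dvd_prime_pow hp).1 hU
  intro h
  rw [← pow_mul] at h ⊢
  rcases le_or_gt i (k * m) with hi | hi
  · exact Nat.pow_le_pow_right hp.pos hi
  · have h1 : p * p ^ (k * m) ≤ p ^ i := by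
      rw [← pow_succ']; exact Nat.pow_le_pow_right hp.pos hi
    have h2 := Nat.mul_le_mul_right (p ^ (k * m)) hp.two_le
    omega

/-- Dimension six, with a nonsingular vector. -/
theorem no_pairs_six {q e X U s : ℕ} (hq : 4 ≤ q) (hqp : IsPrimePow q) (hU : U ∣ q ^ e)
    (hs : q - 1 ≤ 2 * s) (h4 : q = 4 → s = 3) (hX : X * (q - 1) < q ^ 7 + q ^ 4)
    (hK : ((q - 1) * q ^ 2 + q) * U ≤ X)
    (hP : s * (q ^ 3 * ((q - 1) * (q + 1))) * ((q - 1) * q ^ 3) ≤ X * (U - 1)) : False := by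
  have key := squares_six hq hs h4
  have hU3 : U ≤ q ^ 3 := le_of_lt_double hqp hU 3 (by
    obtain ⟨r, rfl⟩ : ∃ r, q = r + 1 := ⟨q - 1, by omega⟩
    rw [Nat.add_sub_cancel] at hX hK
    by_contra hcon
    have h1 : (r * (r + 1) ^ 2 + (r + 1)) * (2 * (r + 1) ^ 3) * r ≤ X * r :=
      Nat.mul_le_mul_right _ ((Nat.mul_le_mul_left _ (not_lt.1 hcon)).trans hK)
    have h2 : (r + 1) ^ 7 + (r + 1) ^ 4 ≤ (r * (r + 1) ^ 2 + (r + 1)) * (2 * (r + 1) ^ 3) * r := by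
      calc (r + 1) ^ 7 + (r + 1) ^ 4 = (r + 1) ^ 4 * ((r + 2) * (r * (r + 1) + 1)) := by ring
        _ ≤ (r + 1) ^ 4 * ((2 * r) * (r * (r + 1) + 1)) := by gcongr; omega
        _ = _ := by ring
    omega)
  obtain ⟨r, rfl⟩ : ∃ r, q = r + 1 := ⟨q - 1, by omega⟩
  rw [Nat.add_sub_cancel] at hX hP key
  have h1 : s * r ^ 3 * (r + 2) * (r + 1) ^ 6 < (r + 1) * ((r + 1) ^ 3 + 1) * (r + 1) ^ 6 := by
    calc s * r ^ 3 * (r + 2) * (r + 1) ^ 6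
        = s * ((r + 1) ^ 3 * (r * (r + 2))) * (r * (r + 1) ^ 3) * r := by ring
      _ ≤ X * (U - 1) * r := Nat.mul_le_mul_right _ hP
      _ ≤ X * (r + 1) ^ 3 * r := by gcongr; omega
      _ = X * r * (r + 1) ^ 3 := by ring
      _ < ((r + 1) ^ 7 + (r + 1) ^ 4) * (r + 1) ^ 3 := Nat.mul_lt_mul_of_pos_right hX (by positivity)
      _ = _ := by ring
  exact absurd h1 (not_lt.2 (Nat.mul_le_mul_right _ key))

/-- Dimension six, totally singular and small. -/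
theorem no_ts_six {q X U : ℕ} (hq : 4 ≤ q) (hU : 2 * U ≤ q ^ 3) (hX : X * (q - 1) < q ^ 7 + q ^ 4)
    (hP : q ^ 3 * ((q - 1) * (q + 1)) * ((q - 1) * q ^ 3) ≤ X * (U - 1)) : False := by
  have key := ts_six hq
  obtain ⟨r, rfl⟩ : ∃ r, q = r + 1 := ⟨q - 1, by omega⟩
  rw [Nat.add_sub_cancel] at hX hP key
  have h1 : 2 * r ^ 3 * (r + 2) * (r + 1) ^ 6 < (r + 1) * ((r + 1) ^ 3 + 1) * (r + 1) ^ 6 := by
    calc 2 * r ^ 3 * (r + 2) * (r + 1) ^ 6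
        = 2 * ((r + 1) ^ 3 * (r * (r + 2)) * (r * (r + 1) ^ 3)) * r := by ring
      _ ≤ 2 * (X * (U - 1)) * r := by gcongr
      _ = X * (2 * (U - 1)) * r := by ring
      _ ≤ X * (r + 1) ^ 3 * r := by gcongr; omega
      _ = X * r * (r + 1) ^ 3 := by ring
      _ < ((r + 1) ^ 7 + (r + 1) ^ 4) * (r + 1) ^ 3 := Nat.mul_lt_mul_of_pos_right hX (by positivity)
      _ = _ := by ring
  exact absurd h1 (not_lt.2 (Nat.mul_le_mul_right _ key))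

end CfsgLib.PGroup.OrthIndex
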