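import Cfsg.Agent.Lib.Perm.Trans.QuadSiegel
import Cfsg.Agent.Lib.Perm.Trans.QuadNondeg

/-!
Eichler transformations as elements of the group they generate, with the basic rules for
stabilisers of a point in an action of that group.
-/

set_option autoImplicit false
set_option linter.unusedSectionVars false

namespace CfsgLib.PGroup.OrthIndex

open scoped Matrix
open Matrix Cfsg.Geo CfsgLib.Perm.Asch CfsgLib.Perm.Trans CfsgLib.Perm.Trans.Quad

variable {ι : Type} [Fintype ι] [DecidableEq ι] {F : Type*} [Field F] [Fintype F]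
variable {Q : (ι → F) → F}

local notation "pol" => QuadraticMap.polar

/-- The group generated by the Eichler transformations, applied to a vector. -/
def act (g : ↥(eGroup Q)) (v : ι → F) : ι → F := ((g : GL ι F) : Matrix ι ι F) *ᵥ v

theorem act_one (v : ι → F) : act (1 : ↥(eGroup Q)) v = v := one_mulVec v

theorem act_mul (g h : ↥(eGroup Q)) (v : ι → F) : act (g * h) v = act g (act h v) :=
  gl_mul_mulVec _ _ _

theorem act_add (g : ↥(eGroup Q)) (v w : ι → F) : act g (v + w) = act g v + act g w :=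
  mulVec_add _ _ _

theorem act_sub (g : ↥(eGroup Q)) (v w : ι → F) : act g (v - w) = act g v - act g w :=
  mulVec_sub _ _ _

theorem act_smul (g : ↥(eGroup Q)) (c : F) (v : ι → F) : act g (c • v) = c • act g v :=
  mulVec_smul _ _ _

theorem act_zero (g : ↥(eGroup Q)) : act g (0 : ι → F) = 0 := mulVec_zero _

theorem act_inv_act (g : ↥(eGroup Q)) (v : ι → F) : act g⁻¹ (act g v) = v := by
  rw [← act_mul, inv_mul_cancel, act_one]

theorem act_act_inv (g : ↥(eGroup Q)) (v : ι → F) : act g (act g⁻¹ v) = v := by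
  rw [← act_mul, mul_inv_cancel, act_one]

theorem act_injective (g : ↥(eGroup Q)) : Function.Injective (act g) :=
  Function.LeftInverse.injective (act_inv_act g)

theorem ext_act {g h : ↥(eGroup Q)} (e : ∀ v, act g v = act h v) : g = h :=
  Subtype.ext (gl_ext_vec e)

theorem Q_act (g : ↥(eGroup Q)) (v : ι → F) : Q (act g v) = Q v :=
  mem_iso.1 (eGroup_le_iso g.2) v

theorem pol_act (g : ↥(eGroup Q)) (v w : ι → F) : pol Q (act g v) (act g w) = pol Q v w :=
  iso_pol (eGroup_le_iso g.2) v w

variable (hQ : IsNondegenerateQuadraticForm Q)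
include hQ

open scoped _root_.Classical in
/-- The Eichler transformation of `u` and `a` in the group they generate. -/
noncomputable def el (u a : ι → F) : ↥(eGroup Q) :=
  if h : Q u = 0 ∧ pol Q u a = 0 then
    ⟨(ein_eGroup hQ h.1 h.2).choose, (ein_eGroup hQ h.1 h.2).choose_spec.1⟩
  else 1

theorem act_el {u a : ι → F} (hu : Q u = 0) (hua : pol Q u a = 0) (x : ι → F) :
    act (el hQ u a) x = x + pol Q x u • a - pol Q x a • u - (Q a * pol Q x u) • u := by
  simp only [act, el, dif_pos (And.intro hu hua)]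
  exact (ein_eGroup hQ hu hua).choose_spec.2 x

theorem el_of_not {u a : ι → F} (h : ¬ (Q u = 0 ∧ pol Q u a = 0)) : el hQ u a = 1 := by
  simp only [el, dif_neg h]

theorem el_eq_of {u a : ι → F} (hu : Q u = 0) (hua : pol Q u a = 0) {g : ↥(eGroup Q)}
    (hg : ∀ x, act g x = x + pol Q x u • a - pol Q x a • u - (Q a * pol Q x u) • u) :
    g = el hQ u a :=
  ext_act fun x => by rw [hg, act_el hQ hu hua]

theorem pol_self_singular {u : ι → F} (hu : Q u = 0) : pol Q u u = 0 := by
  rw [pself hQ, hu, mul_zero]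

theorem el_self {u : ι → F} (hu : Q u = 0) (c : F) : el hQ u (c • u) = 1 :=
  (el_eq_of hQ hu (by rw [psmul_right hQ, pol_self_singular hQ hu, mul_zero]) fun x => by
    rw [act_one, qsmul hQ, psmul_right hQ, hu]; module).symm

theorem el_zero {u : ι → F} (hu : Q u = 0) : el hQ u 0 = 1 := by
  have := el_self hQ hu 0
  rwa [zero_smul] at this

theorem el_zero_left (a : ι → F) : el hQ 0 a = 1 :=
  (el_eq_of hQ (qzero hQ) (pzero_left hQ a) fun x => by
    rw [act_one, pzero_right hQ]; simp).symm

theorem el_add {u a b : ι → F} (hu : Q u = 0) (ha : pol Q u a = 0) (hb : pol Q u b = 0) :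
    el hQ u (a + b) = el hQ u a * el hQ u b :=
  (el_eq_of hQ hu (by rw [padd_right hQ, ha, hb, add_zero]) fun x => by
    rw [act_mul, act_el hQ hu hb, act_el hQ hu ha]
    simp only [psub_left hQ, padd_left hQ, psmul_left hQ, padd_right hQ, pcomm b u, ha, hb,
      pself hQ u, hu, qadd hQ, pcomm b a]
    module).symm

theorem el_neg {u a : ι → F} (hu : Q u = 0) (ha : pol Q u a = 0) :
    el hQ u (-a) = (el hQ u a)⁻¹ := by
  refine eq_inv_of_mul_eq_one_left ?_
  rw [← el_add hQ hu (by rw [pneg_right hQ, ha, neg_zero]) ha, neg_add_cancel, el_zero hQ hu]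

theorem el_smul_left {u a : ι → F} (hu : Q u = 0) (c : F) (ha : pol Q u a = 0) :
    el hQ (c • u) a = el hQ u (c • a) :=
  el_eq_of hQ hu (by rw [psmul_right hQ, ha, mul_zero]) fun x => by
    rw [act_el hQ (by rw [qsmul hQ, hu, mul_zero]) (by rw [psmul_left hQ, ha, mul_zero]), qsmul hQ,
      psmul_right hQ, psmul_right hQ]
    module

theorem el_swap {u a : ι → F} (hu : Q u = 0) (hQa : Q a = 0) (ha : pol Q u a = 0) :
    el hQ a u = el hQ u (-a) :=
  el_eq_of hQ hu (by rw [pneg_right hQ, ha, neg_zero]) fun x => by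
    rw [act_el hQ hQa (by rw [pcomm, ha]), qneg hQ, hQa, hu, pneg_right hQ]
    module

theorem el_conj (g : ↥(eGroup Q)) {u a : ι → F} (hu : Q u = 0) (ha : pol Q u a = 0) :
    g * el hQ u a * g⁻¹ = el hQ (act g u) (act g a) :=
  el_eq_of hQ (by rw [Q_act (Q := Q), hu]) (by rw [pol_act, ha]) fun x => by
    have key : ∀ c, pol Q x (act g c) = pol Q (act g⁻¹ x) c := fun c => by
      conv_lhs => rw [← act_act_inv g x]
      rw [pol_act]
    rw [act_mul, act_mul, act_el hQ hu ha, act_sub, act_sub, act_add, act_smul, act_smul, act_smul,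
      act_act_inv, key, key, Q_act (Q := Q)]

theorem closure_el : Subgroup.closure {g : ↥(eGroup Q) | ∃ u a, Q u = 0 ∧ pol Q u a = 0 ∧ g = el hQ u a} = ⊤ := by
  refine eq_top_iff.2 fun g _ => ?_
  obtain ⟨g, hg⟩ := g
  suffices ∀ h (hh : h ∈ eGroup Q), (⟨h, hh⟩ : ↥(eGroup Q)) ∈
      Subgroup.closure {g : ↥(eGroup Q) | ∃ u a, Q u = 0 ∧ pol Q u a = 0 ∧ g = el hQ u a} from this g hg
  intro h hh
  induction hh using Subgroup.closure_induction with
  | mem y hy =>
    obtain ⟨-, u, a, hu, hua, hE⟩ := hy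
    exact Subgroup.subset_closure ⟨u, a, hu, hua, el_eq_of hQ hu hua hE⟩
  | one => exact one_mem _
  | mul a b ha hb iha ihb => exact mul_mem iha ihb
  | inv a ha iha => exact inv_mem iha

section Star

variable {X : Type*} [MulAction ↥(eGroup Q) X]

/-- The vectors `a` whose Eichler transformation with centre `z` fixes `x`. -/
def Star (x : X) (z a : ι → F) : Prop := pol Q z a = 0 ∧ el hQ z a • x = x

variable {hQ} {x : X} {z a b : ι → F}

theorem Star.pol (h : Star hQ x z a) : QuadraticMap.polar Q z a = 0 := h.1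

theorem Star.fix (h : Star hQ x z a) : el hQ z a • x = x := h.2

theorem Star.add (hz : Q z = 0) (ha : Star hQ x z a) (hb : Star hQ x z b) : Star hQ x z (a + b) :=
  ⟨by rw [padd_right hQ, ha.1, hb.1, add_zero], by rw [el_add hQ hz ha.1 hb.1, mul_smul, hb.2, ha.2]⟩

theorem Star.self (hz : Q z = 0) (x : X) (c : F) : Star hQ x z (c • z) :=
  ⟨by rw [psmul_right hQ, pol_self_singular hQ hz, mul_zero], by rw [el_self hQ hz, one_smul]⟩

theorem Star.zero (hz : Q z = 0) (x : X) : Star hQ x z 0 := by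
  have := Star.self (hQ := hQ) hz x 0
  rwa [zero_smul] at this

theorem Star.neg (hz : Q z = 0) (ha : Star hQ x z a) : Star hQ x z (-a) :=
  ⟨by rw [pneg_right hQ, ha.1, neg_zero], by rw [el_neg hQ hz ha.1, inv_smul_eq_iff, ha.2]⟩

theorem Star.sub (hz : Q z = 0) (ha : Star hQ x z a) (hb : Star hQ x z b) : Star hQ x z (a - b) := by
  rw [sub_eq_add_neg]
  exact ha.add hz (hb.neg hz)

theorem Star.swap (hz : Q z = 0) (hQa : Q a = 0) (ha : Star hQ x z a) : Star hQ x a z :=
  ⟨by rw [pcomm, ha.1], by rw [el_swap hQ hz hQa ha.1]; exact (ha.neg hz).2⟩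

theorem Star.smul_left {c : F} (hz : Q z = 0) (ha : Star hQ x z (c • a))
    (hza : QuadraticMap.polar Q z a = 0) : Star hQ x (c • z) a :=
  ⟨by rw [psmul_left hQ, hza, mul_zero], by rw [el_smul_left hQ hz c hza]; exact ha.2⟩

theorem Star.of_smul_left {c : F} (hz : Q z = 0) (ha : Star hQ x (c • z) a)
    (hza : QuadraticMap.polar Q z a = 0) : Star hQ x z (c • a) :=
  ⟨by rw [psmul_right hQ, hza, mul_zero], by rw [← el_smul_left hQ hz c hza]; exact ha.2⟩

theorem Star.map (g : ↥(eGroup Q)) (hz : Q z = 0) (ha : Star hQ x z a) :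
    Star hQ (g • x) (act g z) (act g a) :=
  ⟨by rw [pol_act, ha.1], by rw [← el_conj hQ g hz ha.1, mul_smul, mul_smul, inv_smul_smul, ha.2]⟩

theorem Star.map_of_fix {g : ↥(eGroup Q)} (hg : g • x = x) (hz : Q z = 0) (ha : Star hQ x z a) :
    Star hQ x (act g z) (act g a) := by
  have := ha.map g hz
  rwa [hg] at this

/-- Transfer along a conjugation: from stars at a hyperbolic pair to a star at a third vector. -/
theorem Star.split {e f a c : ι → F} (he : Q e = 0) (hf : Q f = 0)
    (hef : QuadraticMap.polar Q e f = 1) (hfa : QuadraticMap.polar Q f a = 0)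
    (hec : QuadraticMap.polar Q e c = 0) (hac : QuadraticMap.polar Q a c = 0) (hQc : Q c = 0)
    (ha : Star hQ x e a) (hc : Star hQ x f c) :
    Star hQ x c (f + a - Q a • e) := by
  have h1 := hc.map_of_fix ha.2 hf
  have e1 : act (el hQ e a) f = f + a - Q a • e := by
    rw [act_el hQ he ha.1, pcomm f e, hef, hfa]
    module
  have e2 : act (el hQ e a) c = c := by
    rw [act_el hQ he ha.1, pcomm c e, hec, pcomm c a, hac]
    module
  rw [e1, e2] at h1
  exact h1.swap (by rw [← e1, Q_act (Q := Q), hf]) hQc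

end Star

end CfsgLib.PGroup.OrthIndex
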