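import Cfsg.Agent.Lib.PGroup.OrthIndex.Types

/-!
Propagation of full stars.
-/

set_option autoImplicit false
set_option linter.unusedSectionVars false

namespace CfsgLib.PGroup.OrthIndex

open scoped Matrix
open Matrix Cfsg.Geo CfsgLib.Perm.Asch CfsgLib.Perm.Trans CfsgLib.Perm.Trans.Quad

variable {ι : Type} [Fintype ι] [DecidableEq ι] {F : Type*} [Field F] [Fintype F]
variable {Q : (ι → F) → F}

local notation "pol" => QuadraticMap.polar

variable (hQ : IsNondegenerateQuadraticForm Q)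
include hQ
variable {X : Type*} [MulAction ↥(eGroup Q) X]

namespace Frame

variable (Φ : Frame Q)

/-- The hyperplane of a Hyp star, seen in the orthogonal of the pair. -/
theorem hyp_W (hP : Φ.P = ⊤) {x : X} (h : Hyp hQ x Φ.e) :
    ∃ u ∈ Φ.W hQ, u ≠ 0 ∧ ∀ a ∈ Φ.W hQ, pol Q a u = 0 → Star hQ x Φ.e a := by
  obtain ⟨u, heu, hun, hu⟩ := h
  refine ⟨Φ.proj u, Φ.proj_mem hQ (by rw [hP]; exact Submodule.mem_top) (by rw [pcomm]; exact heu),
    fun h0 => hun (pol Q u Φ.f) ?_, fun a ha hau => ⟨Φ.pol_e hQ ha, hu a (Φ.pol_e hQ ha) ?_⟩⟩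
  · rw [Frame.proj, sub_eq_zero] at h0
    exact h0
  · rwa [Φ.pol_proj hQ (Φ.pol_e' hQ ha)] at hau

/-- A Hyp partner of a full vector is full. -/
theorem full_of_full_hyp (hP : Φ.P = ⊤) {x : X} (he : Full hQ x Φ.e) (hW : 6 ≤ Module.finrank F (Φ.W hQ))
    (hf : Hyp hQ x Φ.f) : Full hQ x Φ.f := by
  obtain ⟨u, hu', hu0, hu⟩ := (Φ.symm (Φ.hfe hQ)).hyp_W hQ hP hf
  have huW : u ∈ Φ.W hQ := (Φ.mem_W_symm hQ).1 hu'
  have hK : ∀ a ∈ Φ.W hQ, pol Q a u = 0 → Star hQ x Φ.f a := fun a ha => hu a ((Φ.mem_W_symm hQ).2 ha)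
  have hmid : ∀ c ∈ Φ.W hQ, Q c = 0 → pol Q c u = 0 → Full hQ x c := fun c hc hQc hcu =>
    Φ.full_mid hQ hP hc hQc (fun t => he.star (by rw [psmul_right hQ, Φ.pol_e hQ hc, mul_zero]))
      (fun t => hK _ ((Φ.W hQ).smul_mem t hc) (by rw [psmul_left hQ, hcu, mul_zero]))
      fun a ha hac => Φ.star_mid hQ hc hQc ha hac (he.star (Φ.pol_e hQ ha))
        (fun t => he.star (by rw [psmul_right hQ, Φ.pol_e hQ hc, mul_zero])) (hK c hc hcu)
  obtain ⟨s, s', hs, hs', hQs, hQs', hss, hsu, hsu'⟩ := exists_pair_orth hQ (Φ.W_nd hQ) (by omega) huW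
  obtain ⟨t, ht, htu⟩ := ((Φ.W_nd hQ) u huW hu0).1
  set t' := t - pol Q t s' • s with ht'
  have ht'W : t' ∈ Φ.W hQ := (Φ.W hQ).sub_mem ht ((Φ.W hQ).smul_mem _ hs)
  have hs't' : pol Q s' t' = 0 := by
    rw [ht', psub_right hQ, psmul_right hQ, pcomm s' s, hss, pcomm s' t]; ring
  have ht'u : pol Q t' u = pol Q t u := by rw [ht', psub_left hQ, psmul_left hQ, hsu]; ring
  set g := el hQ s' t' with hg
  have hgx : g • x = x := hmid s' hs' hQs' hsu' t' hs't'
  have hgf : act g Φ.f = Φ.f := by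
    rw [hg, act_el hQ hQs' hs't', pcomm Φ.f s', Φ.pol_f hQ hs', pcomm Φ.f t', Φ.pol_f hQ ht'W]
    module
  have hgs : pol Q (act g s) u = pol Q t u := by
    rw [hg, act_el hQ hQs' hs't', psub_left hQ, psub_left hQ, padd_left hQ, psmul_left hQ, psmul_left hQ,
      psmul_left hQ, hsu, hsu', hss, ht'u]
    ring
  refine (Φ.symm (Φ.hfe hQ)).full_of_W hQ hP fun a ha => ?_
  have haW : a ∈ Φ.W hQ := (Φ.mem_W_symm hQ).1 ha
  set k := pol Q a u / pol Q t u with hk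
  have h1 := (hK (k • s) ((Φ.W hQ).smul_mem k hs) (by rw [psmul_left hQ, hsu, mul_zero])).map_of_fix hgx Φ.hQf
  rw [hgf, act_smul] at h1
  have h2 := hK (a - k • act g s) ((Φ.W hQ).sub_mem haW ((Φ.W hQ).smul_mem k
      (inner_maps hQ (el_mem_inner hQ hs' ht'W hQs' hs't') hs)))
    (by rw [psub_left hQ, psmul_left hQ, hgs, hk, div_mul_cancel₀ _ htu, sub_self])
  have h3 := h1.add Φ.hQf h2
  rw [add_sub_cancel] at h3
  exact h3.2

/-- Two Hyp partners produce a full vector. -/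
theorem full_of_hyp_hyp (hP : Φ.P = ⊤) {x : X} (he : Hyp hQ x Φ.e) (hf : Hyp hQ x Φ.f)
    (hW : 6 ≤ Module.finrank F (Φ.W hQ))
    (hcl : ∀ z, Q z = 0 → z ≠ 0 → Hyp hQ x z ∨ Ts hQ x z ∨ Full hQ x z) :
    ∃ c, Q c = 0 ∧ c ≠ 0 ∧ Full hQ x c := by
  classical
  obtain ⟨u₁, hu₁, hu₁0, hK₁⟩ := Φ.hyp_W hQ hP he
  obtain ⟨u₂, hu₂', hu₂0, hK₂'⟩ := (Φ.symm (Φ.hfe hQ)).hyp_W hQ hP hf
  have hu₂ : u₂ ∈ Φ.W hQ := (Φ.mem_W_symm hQ).1 hu₂'
  have hK₂ : ∀ a ∈ Φ.W hQ, pol Q a u₂ = 0 → Star hQ x Φ.f a := fun a ha => hK₂' a ((Φ.mem_W_symm hQ).2 ha)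
  have hmid : ∀ c ∈ Φ.W hQ, Q c = 0 → pol Q c u₁ = 0 → pol Q c u₂ = 0 →
      ∀ a ∈ Φ.W hQ, pol Q a c = 0 → (pol Q a u₁ = 0 ∨ pol Q a u₂ = 0) → Star hQ x c a :=
    fun c hc hQc h1 h2 a ha hac hor => hor.elim
      (fun hau => Φ.star_mid hQ hc hQc ha hac (hK₁ a ha hau)
        (fun t => hK₁ _ ((Φ.W hQ).smul_mem t hc) (by rw [psmul_left hQ, h1, mul_zero])) (hK₂ c hc h2))
      (fun hau => Φ.star_mid' hQ hc hQc ha hac (hK₂ a ha hau)
        (fun t => hK₂ _ ((Φ.W hQ).smul_mem t hc) (by rw [psmul_left hQ, h2, mul_zero])) (hK₁ c hc h1))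
  have hfull : ∀ c ∈ Φ.W hQ, Q c = 0 → pol Q c u₁ = 0 → pol Q c u₂ = 0 →
      (∀ a ∈ Φ.W hQ, pol Q a c = 0 → Star hQ x c a) → Full hQ x c := fun c hc hQc h1 h2 h =>
    Φ.full_mid hQ hP hc hQc (fun t => hK₁ _ ((Φ.W hQ).smul_mem t hc) (by rw [psmul_left hQ, h1, mul_zero]))
      (fun t => hK₂ _ ((Φ.W hQ).smul_mem t hc) (by rw [psmul_left hQ, h2, mul_zero])) h
  by_cases hdep : ∃ k : F, u₂ = k • u₁
  · obtain ⟨k, hk⟩ := hdep
    rcases eq_or_ne (Q u₁) 0 with hQu | hQu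
    · refine ⟨u₁, hQu, hu₁0, hfull u₁ hu₁ hQu (pol_self_singular hQ hQu) ?_ fun a ha hac => ?_⟩
      · rw [hk, psmul_right hQ, pol_self_singular hQ hQu, mul_zero]
      · exact hmid u₁ hu₁ hQu (pol_self_singular hQ hQu)
          (by rw [hk, psmul_right hQ, pol_self_singular hQ hQu, mul_zero]) a ha hac (Or.inl hac)
    · obtain ⟨z, hz, hQz, hzu⟩ : ∃ z ∈ Φ.W hQ, Q z = 0 ∧ pol Q z u₁ ≠ 0 := by
        by_contra hcon
        simp only [not_exists, not_and, not_not, ne_eq] at hcon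
        obtain ⟨y, hy, hyu⟩ := ((Φ.W_nd hQ) u₁ hu₁ hu₁0).1
        exact hyu (mem_of_singular hQ (Φ.W_nd hQ) (by omega) (S := {w | pol Q w u₁ = 0})
          (fun p hp r hr => by
            show pol Q (p + r) u₁ = 0
            rw [padd_left hQ, hp, hr, add_zero]) hcon y hy)
      have hz0 : z ≠ 0 := fun h => hzu (by rw [h, pzero_left hQ])
      -- a singular vector of the hyperplane in the star of `z`
      obtain ⟨s, hs, hs0, hQs, hsu, hzs, hstar⟩ : ∃ s ∈ Φ.W hQ, s ≠ 0 ∧ Q s = 0 ∧ pol Q s u₁ = 0 ∧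
          pol Q z s = 0 ∧ ∀ k : F, Star hQ x z (k • s) := by
        rcases hcl z hQz hz0 with hz' | hz' | hz'
        · obtain ⟨v, -, -, hv⟩ := hz'
          have hd1 := finrank_orthIn hQ (Φ.W hQ) u₁
          have hd2 := finrank_orthIn hQ (orthIn hQ (Φ.W hQ) u₁) z
          have hd3 := finrank_orthIn hQ (orthIn hQ (orthIn hQ (Φ.W hQ) u₁) z) v
          obtain ⟨s, hs, hs0, hQs⟩ := exists_singular_mem hQ
            (orthIn hQ (orthIn hQ (orthIn hQ (Φ.W hQ) u₁) z) v) (by omega)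
          obtain ⟨hs', hsv⟩ := (mem_orthIn hQ).1 hs
          obtain ⟨hs'', hsz⟩ := (mem_orthIn hQ).1 hs'
          obtain ⟨hsW, hsu⟩ := (mem_orthIn hQ).1 hs''
          refine ⟨s, hsW, hs0, hQs, hsu, by rw [pcomm, hsz], fun k => ?_⟩
          have hzk : pol Q z (k • s) = 0 := by rw [psmul_right hQ, pcomm, hsz, mul_zero]
          exact ⟨hzk, hv _ hzk (by rw [psmul_left hQ, hsv, mul_zero])⟩
        · obtain ⟨M, hM4, hM, hzM, hiff⟩ := hz'
          have hd1 := finrank_orthIn hQ M Φ.e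
          have hd2 := finrank_orthIn hQ (orthIn hQ M Φ.e) Φ.f
          have hd3 := finrank_orthIn hQ (orthIn hQ (orthIn hQ M Φ.e) Φ.f) u₁
          obtain ⟨s, hs, hs0⟩ := Submodule.exists_mem_ne_zero_of_ne_bot
            (p := orthIn hQ (orthIn hQ (orthIn hQ M Φ.e) Φ.f) u₁) (fun h => by rw [h, finrank_bot] at hd3; omega)
          obtain ⟨hs', hsu⟩ := (mem_orthIn hQ).1 hs
          obtain ⟨hs'', hsf⟩ := (mem_orthIn hQ).1 hs'
          obtain ⟨hsM, hse⟩ := (mem_orthIn hQ).1 hs''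
          exact ⟨s, (mem_pairPerp hQ).2 ⟨by rw [hP]; exact Submodule.mem_top, hse, hsf⟩, hs0, hM s hsM, hsu,
            pol_eq_zero_of_ts hQ hM hzM hsM, fun k => (hiff _).2 (M.smul_mem k hsM)⟩
        · obtain ⟨s, hs, hs0, hQs⟩ := exists_singular_mem hQ (orthIn hQ (orthIn hQ (Φ.W hQ) u₁) z) (by
            have hd1 := finrank_orthIn hQ (Φ.W hQ) u₁
            have hd2 := finrank_orthIn hQ (orthIn hQ (Φ.W hQ) u₁) z
            omega)
          obtain ⟨hs', hsz⟩ := (mem_orthIn hQ).1 hs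
          obtain ⟨hsW, hsu⟩ := (mem_orthIn hQ).1 hs'
          exact ⟨s, hsW, hs0, hQs, hsu, by rw [pcomm, hsz],
            fun k => hz'.star (by rw [psmul_right hQ, pcomm, hsz, mul_zero])⟩
      have hsu₂ : pol Q s u₂ = 0 := by rw [hk, psmul_right hQ, hsu, mul_zero]
      refine ⟨s, hQs, hs0, hfull s hs hQs hsu hsu₂ fun a ha hac => ?_⟩
      set l := pol Q a u₁ / pol Q z u₁ with hl
      have h1 := hmid s hs hQs hsu hsu₂ (a - l • z) ((Φ.W hQ).sub_mem ha ((Φ.W hQ).smul_mem l hz))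
        (by rw [psub_left hQ, psmul_left hQ, hac, hzs]; ring)
        (Or.inl (by rw [psub_left hQ, psmul_left hQ, hl, div_mul_cancel₀ _ hzu, sub_self]))
      have h2 := h1.add hQs ((hstar l).swap_smul hQ hQz hQs)
      rwa [sub_add_cancel] at h2
  -- independent hyperplanes
  have hli : LinearIndependent F ![u₁, u₂] := by
    rw [LinearIndependent.pair_iff' hu₁0]
    exact fun k hk => hdep ⟨k, hk.symm⟩
  set D := orthIn hQ (orthIn hQ (Φ.W hQ) u₁) u₂ with hD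
  have hDd : 4 ≤ Module.finrank F D := by
    have := finrank_orthIn hQ (Φ.W hQ) u₁
    have := finrank_orthIn hQ (orthIn hQ (Φ.W hQ) u₁) u₂
    rw [hD]
    omega
  have hDmem : ∀ c ∈ D, c ∈ Φ.W hQ ∧ pol Q c u₁ = 0 ∧ pol Q c u₂ = 0 := fun c hc =>
    ⟨hc.1.1, hc.1.2, hc.2⟩
  have hout : ∀ c ∈ D, Q c = 0 → c ∉ Submodule.span F {u₁, u₂} → Full hQ x c := fun c hc hQc hcn => by
    obtain ⟨hcW, hc1, hc2⟩ := hDmem c hc
    refine hfull c hcW hQc hc1 hc2 fun a ha hac => ?_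
    have hli3 : LinearIndependent F ![c, u₁, u₂] := by
      refine linearIndependent_fin_cons.2 ⟨hli, ?_⟩
      simpa [Matrix.range_cons, Matrix.range_empty, Set.pair_comm] using hcn
    obtain ⟨y, hy, hyc, hy1, hy2⟩ := exists_dual_two hQ (Φ.W_nd hQ) hcW hu₁ hu₂ hli3
    set l := pol Q a u₂ with hl
    have h1 := hmid c hcW hQc hc1 hc2 (l • y) ((Φ.W hQ).smul_mem l hy)
      (by rw [psmul_left hQ, hyc, mul_zero]) (Or.inl (by rw [psmul_left hQ, hy1, mul_zero]))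
    have h2 := hmid c hcW hQc hc1 hc2 (a - l • y) ((Φ.W hQ).sub_mem ha ((Φ.W hQ).smul_mem l hy))
      (by rw [psub_left hQ, psmul_left hQ, hac, hyc]; ring)
      (Or.inr (by rw [psub_left hQ, psmul_left hQ, hy2, hl]; ring))
    have h3 := h1.add hQc h2
    rwa [add_sub_cancel] at h3
  set S := Submodule.span F {u₁, u₂} with hS
  have hS2 : Module.finrank F S = 2 := by
    have := finrank_span_eq_card hli
    rwa [Fintype.card_fin, Matrix.range_cons, Matrix.range_cons, Matrix.range_empty, Set.union_empty,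
      Set.singleton_union, ← hS] at this
  by_cases hsub : S ≤ D
  · have h11 : u₁ ∈ D := hsub (Submodule.subset_span (by simp))
    obtain ⟨hu₁W, h111, h112⟩ := hDmem u₁ h11
    rcases eq_or_ne (Q u₁) 0 with hQu | hQu
    · exact ⟨u₁, hQu, hu₁0, hfull u₁ hu₁W hQu h111 h112 fun a ha hac =>
        hmid u₁ hu₁W hQu h111 h112 a ha hac (Or.inl hac)⟩
    have h2 : (2 : F) = 0 := by
      rw [pself hQ, mul_eq_zero] at h111
      exact h111.resolve_right hQu
    obtain ⟨y, hy, hyn⟩ := SetLike.not_le_iff_exists.1 (show ¬ D ≤ S from fun h => by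
      have := Submodule.finrank_mono h
      omega)
    obtain ⟨t, ht⟩ : ∃ t : F, t ^ 2 = Q y / Q u₁ := by
      refine (Finite.injective_iff_surjective.1 (show Function.Injective fun t : F => t ^ 2 from
        fun a b hab => ?_)) _
      rcases sq_eq_sq_iff_eq_or_eq_neg.1 hab with h | h
      · exact h
      · rw [h]; linear_combination (-b) * h2
    obtain ⟨hyW, hy1, hy2⟩ := hDmem y hy
    have hcn : y + t • u₁ ∉ S := fun h => hyn (by
      have := S.sub_mem h (S.smul_mem t (Submodule.subset_span (Set.mem_insert u₁ {u₂})))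
      rwa [add_sub_cancel_right] at this)
    have hQc : Q (y + t • u₁) = 0 := by
      rw [qadd hQ, qsmul hQ, psmul_right hQ, hy1, ht, div_mul_cancel₀ _ hQu]
      linear_combination (Q y) * h2
    exact ⟨_, hQc, fun h => hcn (by rw [h]; exact S.zero_mem),
      hout _ (D.add_mem hy (D.smul_mem t h11)) hQc hcn⟩
  · obtain ⟨C, hC⟩ := Submodule.exists_isCompl (S.comap D.subtype)
    have h1 : Module.finrank F (S.comap D.subtype) ≤ 1 := by
      have he : Submodule.map D.subtype (S.comap D.subtype) = D ⊓ S := Submodule.map_comap_subtype D S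
      rw [(Submodule.equivMapOfInjective D.subtype D.injective_subtype _).finrank_eq, he]
      have hlt : Module.finrank F ↥(D ⊓ S) < Module.finrank F S := Submodule.finrank_lt_finrank_of_lt
        (lt_of_le_of_ne inf_le_right fun h => hsub (by rw [← h]; exact inf_le_left))
      omega
    have h2 := Submodule.finrank_add_eq_of_isCompl hC
    have h3 : 3 ≤ Module.finrank F (C.map D.subtype) := by
      rw [← (Submodule.equivMapOfInjective D.subtype D.injective_subtype C).finrank_eq]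
      omega
    obtain ⟨c, hc, hc0, hQc⟩ := exists_singular_mem hQ (C.map D.subtype) h3
    obtain ⟨⟨c', hc'D⟩, hc'C, rfl⟩ := hc
    refine ⟨_, hQc, hc0, hout _ hc'D hQc fun hcS => hc0 ?_⟩
    have := Submodule.disjoint_def.1 hC.disjoint (⟨c', hc'D⟩ : D) (Submodule.mem_comap.2 hcS) hc'C
    exact congrArg Subtype.val this

/-- A Hyp and a Ts partner produce a full vector. -/
theorem full_of_hyp_ts (hP : Φ.P = ⊤) {x : X} (he : Hyp hQ x Φ.e) (hf : Ts hQ x Φ.f)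
    (hW : Module.finrank F (Φ.W hQ) = 6) : ∃ c, Q c = 0 ∧ c ≠ 0 ∧ Full hQ x c := by
  classical
  obtain ⟨u, hu, hu0, hK⟩ := Φ.hyp_W hQ hP he
  obtain ⟨M, hM4, hM, hfM, hiff⟩ := hf
  set M' := orthIn hQ M Φ.e with hM'
  have hM'W : M' ≤ Φ.W hQ := fun m hm => (mem_pairPerp hQ).2
    ⟨by rw [hP]; exact Submodule.mem_top, hm.2, pol_eq_zero_of_ts hQ hM hm.1 hfM⟩
  have hM'd : 3 ≤ Module.finrank F M' := by
    have := finrank_orthIn hQ M Φ.e
    rw [← hM'] at this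
    omega
  have hstar : ∀ m ∈ M', Star hQ x Φ.f m := fun m hm => (hiff m).2 hm.1
  have hfull : ∀ c ∈ M', pol Q c u = 0 → c ≠ 0 →
      (∀ a ∈ Φ.W hQ, pol Q a c = 0 → Star hQ x c a) → ∃ c, Q c = 0 ∧ c ≠ 0 ∧ Full hQ x c :=
    fun c hc hcu hc0 h => ⟨c, hM c hc.1, hc0, Φ.full_mid hQ hP (hM'W hc) (hM c hc.1)
      (fun t => hK _ ((Φ.W hQ).smul_mem t (hM'W hc)) (by rw [psmul_left hQ, hcu, mul_zero]))
      (fun t => hstar _ (M'.smul_mem t hc)) h⟩
  have hmid : ∀ c ∈ M', pol Q c u = 0 → ∀ a ∈ Φ.W hQ, pol Q a c = 0 → pol Q a u = 0 → Star hQ x c a :=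
    fun c hc hcu a ha hac hau => Φ.star_mid hQ (hM'W hc) (hM c hc.1) ha hac (hK a ha hau)
      (fun t => hK _ ((Φ.W hQ).smul_mem t (hM'W hc)) (by rw [psmul_left hQ, hcu, mul_zero])) (hstar c hc)
  by_cases hsub : ∀ m ∈ M', pol Q m u = 0
  · have huM : u ∈ M' := by
      have hle := finrank_orth_le hQ (Φ.W_nd hQ) hM'W (L := M' ⊔ Submodule.span F {u})
        (sup_le hM'W ((Submodule.span_singleton_le_iff_mem _ _).2 hu)) fun v hv m hm => by
          obtain ⟨m', hm', w, hw, rfl⟩ := Submodule.mem_sup.1 hv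
          obtain ⟨k, rfl⟩ := Submodule.mem_span_singleton.1 hw
          rw [padd_left hQ, pol_eq_zero_of_ts hQ hM hm'.1 hm.1, psmul_left hQ, pcomm u m, hsub m hm]
          ring
      have heq : M' = M' ⊔ Submodule.span F {u} := Submodule.eq_of_le_of_finrank_le le_sup_left (by omega)
      rw [heq]
      exact Submodule.mem_sup_right (Submodule.mem_span_singleton_self _)
    exact hfull u huM (hsub u huM) hu0 fun a ha hac => hmid u huM (hsub u huM) a ha hac hac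
  · simp only [not_forall] at hsub
    obtain ⟨m, hm, hmu⟩ := hsub
    obtain ⟨c, hc, hc0⟩ := Submodule.exists_mem_ne_zero_of_ne_bot (p := orthIn hQ M' u) (fun h => by
      have := finrank_orthIn hQ M' u
      rw [h, finrank_bot] at this
      omega)
    obtain ⟨hcM, hcu⟩ := (mem_orthIn hQ).1 hc
    refine hfull c hcM hcu hc0 fun a ha hac => ?_
    set l := pol Q a u / pol Q m u with hl
    have hlm : l • m ∈ M' := M'.smul_mem l hm
    have hmc : pol Q (l • m) c = 0 := pol_eq_zero_of_ts hQ hM hlm.1 hcM.1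
    have h1 := Φ.star_mid' hQ (hM'W hcM) (hM c hcM.1) (hM'W hlm) hmc (hstar _ hlm)
      (fun t => hstar _ (M'.smul_mem t hcM)) (hK c (hM'W hcM) hcu)
    have h2 := hmid c hcM hcu (a - l • m) ((Φ.W hQ).sub_mem ha (hM'W hlm))
      (by rw [psub_left hQ, hac, hmc, sub_zero])
      (by rw [psub_left hQ, psmul_left hQ, hl, div_mul_cancel₀ _ hmu, sub_self])
    have h3 := h1.add (hM c hcM.1) h2
    rwa [add_sub_cancel] at h3

end Frame

end CfsgLib.PGroup.OrthIndex
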