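import Cfsg.Agent.Lib.PGroup.OrthIndex.Move

/-!
Bounds for the numbers of vectors of given value.
-/

set_option autoImplicit false
set_option linter.unusedSectionVars false

namespace CfsgLib.PGroup.OrthIndex

open scoped Matrix
open Matrix Cfsg.Geo CfsgLib.Perm.Asch CfsgLib.Perm.Trans CfsgLib.Perm.Trans.Quad

variable {ι : Type} [Fintype ι] [DecidableEq ι] {F : Type*} [Field F] [Fintype F]
variable {Q : (ι → F) → F}

local notation "pol" => QuadraticMap.polar

variable (hQ : IsNondegenerateQuadraticForm Q)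
include hQ

/-- A singular vector of a nondegenerate subspace lies in a hyperbolic pair. -/
theorem exists_partner {P : Submodule F (ι → F)} (hP : NdOn Q P) {e : ι → F} (he : e ∈ P) (he0 : e ≠ 0)
    (hQe : Q e = 0) : ∃ f ∈ P, Q f = 0 ∧ pol Q e f = 1 := by
  obtain ⟨z, hz, hze⟩ := (hP e he he0).1
  have hez : pol Q e z ≠ 0 := by rwa [pcomm]
  refine ⟨(pol Q e z)⁻¹ • z - (Q ((pol Q e z)⁻¹ • z)) • e, P.sub_mem (P.smul_mem _ hz) (P.smul_mem _ he),
    ?_, ?_⟩
  · rw [qsub hQ, qsmul hQ _ e, hQe, psmul_right hQ, psmul_left hQ, pcomm z e, inv_mul_cancel₀ hez]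
    ring
  · rw [psub_right hQ, psmul_right hQ, psmul_right hQ, pol_self_singular hQ hQe, inv_mul_cancel₀ hez]
    ring

theorem sphere_finite (P : Submodule F (ι → F)) (c : F) : (sphere Q P c).Finite := Set.toFinite _

theorem sphere_pos {P : Submodule F (ι → F)} (hP : NdOn Q P) (hd : 2 ≤ Module.finrank F P) (c : F) :
    1 ≤ (sphere Q P c).ncard := by
  refine (Set.ncard_pos (sphere_finite hQ P c)).2 ?_
  obtain ⟨y, hy, hQy⟩ := exists_value_two hQ hP hd c
  exact ⟨y, hy, hQy⟩

/-- Splitting along a hyperbolic pair, existence form. -/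
theorem sphere_step {P : Submodule F (ι → F)} (hP : NdOn Q P) (hd : 3 ≤ Module.finrank F P) (c : F) :
    ∃ P' : Submodule F (ι → F), P' ≤ P ∧ NdOn Q P' ∧ Module.finrank F P' + 2 = Module.finrank F P ∧
      (sphere Q P c).ncard = (Fintype.card F - 1) * Fintype.card F ^ (Module.finrank F P - 2) +
        Fintype.card F * (sphere Q P' c).ncard := by
  obtain ⟨e, he, he0, hQe⟩ := exists_singular_mem hQ P hd
  obtain ⟨f, hf, hQf, hef⟩ := exists_partner hQ hP he he0 hQe
  exact ⟨pairPerp hQ P e f, inf_le_left.trans inf_le_left, pair_nd hQ he hf hQe hQf hef hP,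
    pair_finrank_eq hQ he hf hQe hQf hef, card_sphere hQ he hf hQe hQf hef c⟩

theorem sphere_lower {P : Submodule F (ι → F)} (hP : NdOn Q P) (hd : 4 ≤ Module.finrank F P) (c : F) :
    (Fintype.card F - 1) * Fintype.card F ^ (Module.finrank F P - 2) + Fintype.card F ≤
      (sphere Q P c).ncard := by
  obtain ⟨P', -, hP', hd', heq⟩ := sphere_step hQ hP (by omega) c
  rw [heq]
  exact Nat.add_le_add_left (Nat.le_mul_of_pos_right _ (sphere_pos hQ hP' (by omega) c)) _

theorem sphere_lower_six {P : Submodule F (ι → F)} (hP : NdOn Q P) (hd : Module.finrank F P = 6) (c : F) :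
    (Fintype.card F - 1) * Fintype.card F ^ 4 +
      Fintype.card F * ((Fintype.card F - 1) * Fintype.card F ^ 2 + Fintype.card F) ≤
      (sphere Q P c).ncard := by
  obtain ⟨P', -, hP', hd', heq⟩ := sphere_step hQ hP (by omega) c
  rw [heq, hd]
  refine Nat.add_le_add_left (Nat.mul_le_mul_left _ ?_) _
  have := sphere_lower hQ hP' (by omega) c
  rwa [show Module.finrank F P' = 4 by omega] at this

theorem sphere_ne_zero_card (P : Submodule F (ι → F)) (c : F) :
    (sphere Q P c).ncard ≤ (sphere Q P c \ {0}).ncard + 1 := by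
  have := Set.ncard_le_ncard_sdiff_add_ncard (sphere Q P c) {0}
  rwa [Set.ncard_singleton] at this

theorem sphere_zero_trivial {P : Submodule F (ι → F)} (h : ∀ v ∈ P, Q v = 0 → v = 0) :
    (sphere Q P 0).ncard = 1 := by
  rw [Set.ncard_eq_one]
  exact ⟨0, Set.eq_singleton_iff_unique_mem.2
    ⟨⟨P.zero_mem, qzero hQ⟩, fun v hv => h v hv.1 hv.2⟩⟩

/-- Splitting off a hyperbolic pair from the singular vectors, with a bound for the rest. -/
theorem sphere_zero_upper {P : Submodule F (ι → F)} (hP : NdOn Q P) (b : ℕ) (hb : 1 ≤ b)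
    (hrec : ∀ P' : Submodule F (ι → F), NdOn Q P' → Module.finrank F P' + 2 = Module.finrank F P →
      (sphere Q P' 0).ncard ≤ b) :
    (sphere Q P 0).ncard ≤
      (Fintype.card F - 1) * Fintype.card F ^ (Module.finrank F P - 2) + Fintype.card F * b := by
  by_cases h : ∀ v ∈ P, Q v = 0 → v = 0
  · rw [sphere_zero_trivial hQ h]
    exact le_add_left (Nat.le_mul_of_pos_left b Fintype.card_pos |>.trans' hb)
  simp only [not_forall] at h
  obtain ⟨e, he, hQe, he0⟩ := h
  obtain ⟨f, hf, hQf, hef⟩ := exists_partner hQ hP he he0 hQe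
  rw [card_sphere hQ he hf hQe hQf hef 0]
  exact Nat.add_le_add_left (Nat.mul_le_mul_left _
    (hrec _ (pair_nd hQ he hf hQe hQf hef hP) (pair_finrank_eq hQ he hf hQe hQf hef))) _

theorem sphere_le_pow (P : Submodule F (ι → F)) (c : F) :
    (sphere Q P c).ncard ≤ Fintype.card F ^ Module.finrank F P := by
  rw [← natCard_submodule hQ P, ← Nat.card_coe_set_eq]
  exact Nat.card_le_card_of_injective (fun v => (⟨v.1, v.2.1⟩ : P))
    fun v w h => Subtype.ext (congrArg Subtype.val h :)

/-- A loose upper bound for the number of singular vectors. -/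
theorem sphere_zero_upper_two {P : Submodule F (ι → F)} (hP : NdOn Q P) {d : ℕ}
    (hd : Module.finrank F P = d + 4) :
    (sphere Q P 0).ncard ≤ (Fintype.card F - 1) * Fintype.card F ^ (d + 2) +
      Fintype.card F * ((Fintype.card F - 1) * Fintype.card F ^ d + Fintype.card F * Fintype.card F ^ d) := by
  have h1 := sphere_zero_upper hQ hP
      ((Fintype.card F - 1) * Fintype.card F ^ d + Fintype.card F * Fintype.card F ^ d)
      (le_add_left (Nat.one_le_iff_ne_zero.2 (by simp))) (fun P' hP' hd' => by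
      have h2 := sphere_zero_upper hQ hP' (Fintype.card F ^ d) (Nat.one_le_pow _ _ Fintype.card_pos) (fun P'' _ hd'' => by
        have := sphere_le_pow hQ P'' 0
        rwa [show Module.finrank F P'' = d by omega] at this)
      rwa [show Module.finrank F P' - 2 = d by omega] at h2)
  rwa [show Module.finrank F P - 2 = d + 2 by omega] at h1

/-- The number of singular vectors in dimension eight. -/
theorem sphere_zero_upper_eight {P : Submodule F (ι → F)} (hP : NdOn Q P) (hd : Module.finrank F P = 8) :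
    (sphere Q P 0).ncard ≤ (Fintype.card F - 1) * Fintype.card F ^ 6 + Fintype.card F *
      ((Fintype.card F - 1) * Fintype.card F ^ 4 + Fintype.card F *
        ((Fintype.card F - 1) * Fintype.card F ^ 2 + Fintype.card F * (2 * Fintype.card F - 1))) := by
  have hq : 1 ≤ Fintype.card F := Fintype.card_pos
  have hb : 1 ≤ 2 * Fintype.card F - 1 := by omega
  have hb2 : 1 ≤ (Fintype.card F - 1) * Fintype.card F ^ 2 + Fintype.card F * (2 * Fintype.card F - 1) :=
    le_add_left (Nat.one_le_iff_ne_zero.2 (Nat.mul_ne_zero (by omega) (by omega)))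
  have hb4 : 1 ≤ (Fintype.card F - 1) * Fintype.card F ^ 4 + Fintype.card F *
      ((Fintype.card F - 1) * Fintype.card F ^ 2 + Fintype.card F * (2 * Fintype.card F - 1)) :=
    le_add_left (Nat.one_le_iff_ne_zero.2 (Nat.mul_ne_zero (by omega) (by omega)))
  have h6 := sphere_zero_upper hQ hP _ hb4 (fun P6 hP6 hd6 => by
    have h4 := sphere_zero_upper hQ hP6 _ hb2 (fun P4 hP4 hd4 => by
      have h2 := sphere_zero_upper hQ hP4 _ hb (fun P2 hP2 hd2 => by
        have h0 := sphere_zero_upper hQ hP2 1 le_rfl (fun P0 _ hd0 => by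
          have := sphere_le_pow hQ P0 0
          rwa [show Module.finrank F P0 = 0 by omega, pow_zero] at this)
        rw [show Module.finrank F P2 - 2 = 0 by omega, pow_zero] at h0
        omega)
      rwa [show Module.finrank F P4 - 2 = 2 by omega] at h2)
    rwa [show Module.finrank F P6 - 2 = 4 by omega] at h4)
  rwa [show Module.finrank F P - 2 = 6 by omega] at h6

/-- A step along a totally singular subspace. -/
theorem sphere_step_ts {P K : Submodule F (ι → F)} (hP : NdOn Q P) (hKP : K ≤ P)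
    (hK : ∀ x ∈ K, Q x = 0) (hK0 : 1 ≤ Module.finrank F K) :
    ∃ P' K' : Submodule F (ι → F), NdOn Q P' ∧ K' ≤ P' ∧ (∀ x ∈ K', Q x = 0) ∧
      Module.finrank F P' + 2 = Module.finrank F P ∧ Module.finrank F K ≤ Module.finrank F K' + 1 ∧
      (sphere Q P 0).ncard = (Fintype.card F - 1) * Fintype.card F ^ (Module.finrank F P - 2) +
        Fintype.card F * (sphere Q P' 0).ncard := by
  obtain ⟨e, he, he0⟩ := Submodule.exists_mem_ne_zero_of_ne_bot (p := K) (fun h => by
    rw [h, finrank_bot] at hK0; omega)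
  obtain ⟨f, hf, hQf, hef⟩ := exists_partner hQ hP (hKP he) he0 (hK e he)
  refine ⟨pairPerp hQ P e f, orthIn hQ K f, pair_nd hQ (hKP he) hf (hK e he) hQf hef hP, fun x hx => ?_,
    fun x hx => hK x hx.1, pair_finrank_eq hQ (hKP he) hf (hK e he) hQf hef, finrank_orthIn hQ K f,
    card_sphere hQ (hKP he) hf (hK e he) hQf hef 0⟩
  refine (mem_pairPerp hQ).2 ⟨hKP hx.1, ?_, hx.2⟩
  rw [QuadraticMap.polar, hK _ (K.add_mem hx.1 he), hK x hx.1, hK e he]
  ring

/-- The singular vectors of a six-dimensional space with a totally singular plane through the middle. -/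
theorem sphere_lower_ts_six {P K : Submodule F (ι → F)} (hP : NdOn Q P) (hd : Module.finrank F P = 6)
    (hKP : K ≤ P) (hK : ∀ x ∈ K, Q x = 0) (hK3 : 3 ≤ Module.finrank F K) :
    (Fintype.card F - 1) * Fintype.card F ^ 4 + Fintype.card F *
      ((Fintype.card F - 1) * Fintype.card F ^ 2 + Fintype.card F * (2 * Fintype.card F - 1)) ≤
      (sphere Q P 0).ncard := by
  obtain ⟨P4, K4, hP4, hle4, hK4, hd4, hk4, e4⟩ := sphere_step_ts hQ hP hKP hK (by omega)
  obtain ⟨P2, K2, hP2, hle2, hK2, hd2, hk2, e2⟩ := sphere_step_ts hQ hP4 hle4 hK4 (by omega)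
  obtain ⟨P0, K0, -, -, -, hd0, -, e0⟩ := sphere_step_ts hQ hP2 hle2 hK2 (by omega)
  have h0 : 1 ≤ (sphere Q P0 0).ncard := (Set.ncard_pos (sphere_finite hQ P0 0)).2 ⟨0, P0.zero_mem, qzero hQ⟩
  rw [show Module.finrank F P - 2 = 4 by omega] at e4
  rw [show Module.finrank F P4 - 2 = 2 by omega] at e2
  rw [show Module.finrank F P2 - 2 = 0 by omega, pow_zero, mul_one] at e0
  rw [e4, e2]
  refine Nat.add_le_add_left (Nat.mul_le_mul_left _ (Nat.add_le_add_left (Nat.mul_le_mul_left _ ?_) _)) _
  have h1 : Fintype.card F * 1 ≤ Fintype.card F * (sphere Q P0 0).ncard := Nat.mul_le_mul_left _ h0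
  have h2 : 1 ≤ Fintype.card F := Fintype.card_pos
  omega

/-- The singular vectors orthogonal to a singular vector, outside its line. -/
theorem card_orth_singular {P : Submodule F (ι → F)} {e f : ι → F} (he : e ∈ P) (hf : f ∈ P) (hQe : Q e = 0)
    (hQf : Q f = 0) (hef : pol Q e f = 1) :
    Fintype.card F * ((sphere Q (pairPerp hQ P e f) 0).ncard - 1) ≤
      {v : ι → F | v ∈ P ∧ Q v = 0 ∧ pol Q v e = 0 ∧ ∀ k : F, v ≠ k • e}.ncard := by
  classical
  set P₀ := pairPerp hQ P e f with hP₀
  let toV : F × ↥(sphere Q P₀ 0 \ {0}) → {v : ι → F | v ∈ P ∧ Q v = 0 ∧ pol Q v e = 0 ∧ ∀ k : F, v ≠ k • e} :=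
    fun w => ⟨w.1 • e + w.2.1, by
      obtain ⟨⟨hy, hQy⟩, hy0⟩ := w.2.2
      obtain ⟨hyP, hye, hyf⟩ := (mem_pairPerp hQ).1 hy
      refine ⟨P.add_mem (P.smul_mem _ he) hyP, ?_, ?_, fun k hk => ?_⟩
      · rw [qadd hQ, qsmul hQ, hQe, hQy, psmul_left hQ, pcomm e w.2.1, hye]; ring
      · rw [padd_left hQ, psmul_left hQ, pol_self_singular hQ hQe, hye]; ring
      · have h1 := congrArg (fun v => pol Q v f) hk
        simp only [padd_left hQ, psmul_left hQ, hef, hyf, add_zero, mul_one] at h1
        rw [h1] at hk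
        exact hy0 (add_eq_left.1 hk)⟩
  have hinj : Function.Injective toV := by
    rintro ⟨a, y⟩ ⟨b, z⟩ h
    have h' : a • e + y.1 = b • e + z.1 := congrArg Subtype.val h
    have h1 := congrArg (fun v => pol Q v f) h'
    simp only [padd_left hQ, psmul_left hQ, hef, ((mem_pairPerp hQ).1 y.2.1.1).2.2,
      ((mem_pairPerp hQ).1 z.2.1.1).2.2, add_zero, mul_one] at h1
    subst h1
    exact Prod.ext rfl (Subtype.ext (add_left_cancel h'))
  have h1 := Nat.card_le_card_of_injective toV hinj
  rw [Nat.card_prod, Nat.card_eq_fintype_card (α := F), Nat.card_coe_set_eq, Nat.card_coe_set_eq,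
    Set.ncard_sdiff_singleton_of_mem
      (show (0 : ι → F) ∈ sphere Q P₀ 0 from ⟨P₀.zero_mem, qzero hQ⟩)] at h1
  exact h1

omit hQ
omit [Fintype ι] [DecidableEq ι] in
/-- The number of non-zero squares. -/
theorem card_squares :
    Fintype.card F - 1 ≤ 2 * {r : F | ∃ c : F, c ≠ 0 ∧ r = c ^ 2}.ncard ∧
      (Fintype.card F = 4 → {r : F | ∃ c : F, c ≠ 0 ∧ r = c ^ 2}.ncard = 3) := by
  classical
  have himg : {r : F | ∃ c : F, c ≠ 0 ∧ r = c ^ 2} =
      ↑((Finset.univ.filter fun c : F => c ≠ 0).image fun c => c ^ 2) := by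
    ext r
    simp [eq_comm]
  have hcard : (Finset.univ.filter fun c : F => c ≠ 0).card = Fintype.card F - 1 := by
    rw [Finset.filter_ne', Finset.card_erase_of_mem (Finset.mem_univ _), Finset.card_univ]
  rw [himg, Set.ncard_coe_finset, ← hcard]
  refine ⟨?_, fun h4 => ?_⟩
  · refine Finset.card_le_mul_card_image (f := fun c : F => c ^ 2) _ 2 fun r hr => ?_
    obtain ⟨c, -, rfl⟩ := Finset.mem_image.1 hr
    refine (Finset.card_le_card (t := ({c, -c} : Finset F)) fun d hd => ?_).trans Finset.card_le_two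
    rw [Finset.mem_insert, Finset.mem_singleton]
    exact sq_eq_sq_iff_eq_or_eq_neg.1 (Finset.mem_filter.1 hd).2
  · have h2 : (2 : F) = 0 := by
      have h := FiniteField.cast_card_eq_zero F
      rw [h4] at h
      exact mul_self_eq_zero.1 (by rw [← h]; norm_num)
    rw [Finset.card_image_of_injective _ (fun a b hab => ?_), hcard, h4]
    rcases sq_eq_sq_iff_eq_or_eq_neg.1 hab with h | h
    · exact h
    · rw [h]
      linear_combination (-b) * h2

end CfsgLib.PGroup.OrthIndex
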