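import Cfsg.Agent.Lib.PGroup.OrthIndex.Counts

/-!
Diagonal elements, and small facts on orthogonals.
-/

set_option autoImplicit false
set_option linter.unusedSectionVars false

namespace CfsgLib.PGroup.OrthIndex

open scoped Matrix
open Matrix Cfsg.Geo CfsgLib.Perm.Asch CfsgLib.Perm.Trans CfsgLib.Perm.Trans.Quad

variable {ι : Type} [Fintype ι] [DecidableEq ι] {F : Type*} [Field F] [Fintype F]
variable {Q : (ι → F) → F}

local notation "pol" => QuadraticMap.polar

variable (hQ : IsNondegenerateQuadraticForm Q)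
include hQ

theorem inner_top : inner hQ (⊤ : Submodule F (ι → F)) = ⊤ :=
  top_le_iff.1 ((closure_el hQ).symm.le.trans (Subgroup.closure_mono
    fun _ ⟨u, a, hu, hua, hg⟩ => ⟨u, a, trivial, trivial, hu, hua, hg⟩))

/-- A transvection of the totally singular plane of `u` and `v` and its dual. -/
theorem act_el_pair {u v : ι → F} (hu : Q u = 0) (hv : Q v = 0) (huv : pol Q u v = 0) (t : F)
    (x : ι → F) : act (el hQ u (t • v)) x = x + (pol Q x u * t) • v - (pol Q x v * t) • u := by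
  rw [act_el hQ hu (by rw [psmul_right hQ, huv, mul_zero]), qsmul hQ, hv, psmul_right hQ]
  module

/-- The element `diag(c, c⁻¹)` of the totally singular plane of `u` and `v`. -/
theorem exists_diag_pair {u v u' v' : ι → F} (hu : Q u = 0) (hv : Q v = 0) (huv : pol Q u v = 0)
    (hu' : Q u' = 0) (hv' : Q v' = 0) (hu'v' : pol Q u' v' = 0)
    (huu : pol Q u u' = 1) (hvv : pol Q v v' = 1) (huv' : pol Q u v' = 0) (hvu' : pol Q v u' = 0)
    {c : F} (hc : c ≠ 0) :
    ∃ g : ↥(eGroup Q), act g u = c • u ∧ act g v = c⁻¹ • v ∧ act g u' = c⁻¹ • u' ∧ act g v' = c • v' ∧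
      ∀ y, pol Q y u = 0 → pol Q y v = 0 → pol Q y u' = 0 → pol Q y v' = 0 → act g y = y := by
  refine ⟨el hQ u' ((-((c - 1) / c)) • v) * el hQ v' ((1 : F) • u) * el hQ u' ((c - 1) • v) *
    el hQ v' ((-c⁻¹) • u), ?_, ?_, ?_, ?_, fun y hyu hyv hyu' hyv' => ?_⟩
  all_goals
    simp only [act_mul, act_el_pair hQ hu' hv (by rw [pcomm, hvu']),
      act_el_pair hQ hv' hu (by rw [pcomm, huv']), padd_left hQ,
      psub_left hQ, psmul_left hQ, pol_self_singular hQ hu, pol_self_singular hQ hv,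
      pol_self_singular hQ hu', pol_self_singular hQ hv', huv, hu'v', pcomm v u, pcomm v' u',
      pcomm u' u, pcomm v' v, huu, hvv, pcomm v' u, huv', pcomm u' v, hvu', mul_zero, mul_one, add_zero,
      sub_zero, zero_add, zero_sub, zero_mul, zero_smul]
  case refine_5 => rw [hyu, hyv, hyu', hyv']; simp
  all_goals match_scalars <;> field_simp <;> ring

/-- An element scaling the pair by a square and fixing its orthogonal. -/
theorem exists_torus {P : Submodule F (ι → F)} (hP : P = ⊤) {e f : ι → F} (hQe : Q e = 0) (hQf : Q f = 0)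
    (hef : pol Q e f = 1) (hd : 3 ≤ Module.finrank F (pairPerp hQ P e f)) {c : F} (hc : c ≠ 0) :
    ∃ g : ↥(eGroup Q), act g e = c ^ 2 • e ∧ act g f = (c ^ 2)⁻¹ • f ∧
      ∀ y, pol Q y e = 0 → pol Q y f = 0 → act g y = y := by
  subst hP
  obtain ⟨s, hs, hs0, hQs⟩ := exists_singular_mem hQ _ hd
  obtain ⟨s', hs', hQs', hss⟩ := exists_partner hQ
    (pair_nd hQ Submodule.mem_top Submodule.mem_top hQe hQf hef (ndOn_top hQ)) hs hs0 hQs
  obtain ⟨-, hse, hsf⟩ := (mem_pairPerp hQ).1 hs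
  obtain ⟨-, hse', hsf'⟩ := (mem_pairPerp hQ).1 hs'
  obtain ⟨g₁, g1e, g1s', g1f, g1s, g1y⟩ := exists_diag_pair hQ (u := e) (v := s') (u' := f) (v' := s)
    hQe hQs' (by rw [pcomm, hse']) hQf hQs (by rw [pcomm, hsf]) hef (by rw [pcomm, hss])
    (by rw [pcomm, hse]) hsf' hc
  obtain ⟨g₂, g2e, g2s, g2f, g2s', g2y⟩ := exists_diag_pair hQ (u := e) (v := s) (u' := f) (v' := s')
    hQe hQs (by rw [pcomm, hse]) hQf hQs' (by rw [pcomm, hsf']) hef hss (by rw [pcomm, hse']) hsf hc
  refine ⟨g₁ * g₂, ?_, ?_, fun y hye hyf => ?_⟩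
  · rw [act_mul, g2e, act_smul, g1e, smul_smul, sq]
  · rw [act_mul, g2f, act_smul, g1f, smul_smul, ← mul_inv, sq]
  · set r := y - pol Q y s' • s - pol Q y s • s' with hr
    obtain ⟨hre, hrf, hrs, hrs'⟩ : pol Q r e = 0 ∧ pol Q r f = 0 ∧ pol Q r s = 0 ∧ pol Q r s' = 0 := by
      refine ⟨?_, ?_, ?_, ?_⟩ <;>
        simp only [hr, psub_left hQ, psmul_left hQ, hse, hse', hye, hsf, hsf', hyf, pol_self_singular hQ hQs,
          pol_self_singular hQ hQs', pcomm s' s, hss] <;> ring
    have hy : y = pol Q y s' • s + pol Q y s • s' + r := by rw [hr]; abel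
    conv_lhs => rw [hy]
    simp only [act_mul, act_add, act_smul, g2s, g2s', g2y r hre hrs hrf hrs', g1s, g1s',
      g1y r hre hrs' hrf hrs, smul_smul, mul_assoc, inv_mul_cancel₀ hc, mul_inv_cancel₀ hc, mul_one]
    exact hy.symm

/-- Mutually orthogonal subspaces of a nondegenerate space. -/
theorem finrank_orth_le {P K L : Submodule F (ι → F)} (hP : NdOn Q P) (hKP : K ≤ P) (hLP : L ≤ P)
    (h : ∀ x ∈ L, ∀ y ∈ K, pol Q x y = 0) :
    Module.finrank F K + Module.finrank F L ≤ Module.finrank F P := by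
  let L' : Submodule F P := L.comap P.subtype
  have hL' : Module.finrank F L' = Module.finrank F L := (Submodule.comapSubtypeEquivOfLe hLP).finrank_eq
  let T : K →ₗ[F] Module.Dual F P :=
    { toFun := fun k => (pfl hQ (k : ι → F)).comp P.subtype
      map_add' := fun a b => LinearMap.ext fun x => padd_right hQ (x : ι → F) a b
      map_smul' := fun c a => LinearMap.ext fun x => psmul_right hQ c (x : ι → F) a }
  have hinj : Function.Injective T := by
    refine (injective_iff_map_eq_zero T).2 fun k hk => ?_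
    by_contra hne
    obtain ⟨y, hy, hky⟩ := (hP (k : ι → F) (hKP k.2) (fun h => hne (Subtype.ext h))).1
    exact hky (LinearMap.congr_fun hk ⟨y, hy⟩)
  have hrange : LinearMap.range T ≤ L'.dualAnnihilator := by
    rintro _ ⟨k, rfl⟩
    rw [Submodule.mem_dualAnnihilator]
    exact fun w hw => h _ hw _ k.2
  have h1 := Submodule.finrank_mono hrange
  rw [LinearMap.finrank_range_of_inj hinj] at h1
  have h2 := Subspace.finrank_add_finrank_dualAnnihilator_eq L'
  rw [hL'] at h2
  omega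

/-- A vector of `P` orthogonal to `u₁` and `u₂` with product one with a third vector. -/
theorem exists_dual_two {P : Submodule F (ι → F)} (hP : NdOn Q P) {u₁ u₂ u₃ : ι → F} (h₁ : u₁ ∈ P)
    (h₂ : u₂ ∈ P) (h₃ : u₃ ∈ P) (hli : LinearIndependent F ![u₁, u₂, u₃]) :
    ∃ y ∈ P, pol Q y u₁ = 0 ∧ pol Q y u₂ = 0 ∧ pol Q y u₃ = 1 := by
  obtain ⟨y, hy, hy1, hy2, hy3⟩ : ∃ y ∈ P, pol Q y u₁ = 0 ∧ pol Q y u₂ = 0 ∧ pol Q y u₃ ≠ 0 := by
    by_contra hcon
    simp only [not_exists, not_and, not_not, ne_eq] at hcon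
    have hspan : Submodule.span F (Set.range ![u₁, u₂, u₃]) ≤ P := Submodule.span_le.2 (by
      rintro _ ⟨i, rfl⟩
      fin_cases i <;> assumption)
    have h := finrank_orth_le hQ hP hspan (L := orthIn hQ (orthIn hQ P u₁) u₂) (inf_le_left.trans inf_le_left)
      (fun x hx z hz => by
        obtain ⟨hx', hx2⟩ := (mem_orthIn hQ).1 hx
        obtain ⟨hxP, hx1⟩ := (mem_orthIn hQ).1 hx'
        induction hz using Submodule.span_induction with
        | mem z hz =>
          obtain ⟨i, rfl⟩ := hz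
          fin_cases i
          exacts [hx1, hx2, hcon x hxP hx1 hx2]
        | zero => exact pzero_right hQ x
        | add a b _ _ iha ihb => rw [padd_right hQ, iha, ihb, add_zero]
        | smul k a _ ih => rw [psmul_right hQ, ih, mul_zero])
    rw [finrank_span_eq_card hli, Fintype.card_fin] at h
    have := finrank_orthIn hQ P u₁
    have := finrank_orthIn hQ (orthIn hQ P u₁) u₂
    omega
  exact ⟨(pol Q y u₃)⁻¹ • y, P.smul_mem _ hy, by rw [psmul_left hQ, hy1, mul_zero],
    by rw [psmul_left hQ, hy2, mul_zero], by rw [psmul_left hQ, inv_mul_cancel₀ hy3]⟩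

/-- An additively closed set containing the singular vectors of a subspace contains it. -/
theorem mem_of_singular {W : Submodule F (ι → F)} (hW : NdOn Q W) (hd : 3 ≤ Module.finrank F W)
    {S : Set (ι → F)} (hadd : ∀ a ∈ S, ∀ b ∈ S, a + b ∈ S) (hsing : ∀ w ∈ W, Q w = 0 → w ∈ S) :
    ∀ w ∈ W, w ∈ S := by
  obtain ⟨s, hs, hs0, hQs⟩ := exists_singular_mem hQ W hd
  obtain ⟨s', hs', hQs', hss⟩ := exists_partner hQ hW hs hs0 hQs
  intro w hw
  set y := w - pol Q w s' • s - pol Q w s • s' with hy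
  obtain ⟨hyW, hys, hys'⟩ := (mem_pairPerp hQ).1 (pair_proj hQ hs hs' hQs hQs' hss hw)
  rw [← hy] at hyW hys hys'
  have hz : Q (y + s - Q y • s') = 0 := by
    rw [qsub hQ, qadd hQ, qsmul hQ, hQs, hQs', hys, psmul_right hQ, padd_left hQ, hys', hss]
    ring
  have hw' : w = (y + s - Q y • s') + ((pol Q w s' - 1) • s + (pol Q w s + Q y) • s') := by
    rw [hy]; module
  rw [hw']
  refine hadd _ (hsing _ (W.sub_mem (W.add_mem hyW hs) (W.smul_mem _ hs')) hz) _ (hadd _ ?_ _ ?_)
  · exact hsing _ (W.smul_mem _ hs) (by rw [qsmul hQ, hQs, mul_zero])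
  · exact hsing _ (W.smul_mem _ hs') (by rw [qsmul hQ, hQs', mul_zero])

end CfsgLib.PGroup.OrthIndex
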