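import Cfsg.Agent.Lib.PGroup.OrthIndex.Orbits
import Cfsg.Agent.Lib.PGroup.OrthIndex.Torus
import Cfsg.Agent.Lib.PGroup.OrthIndex.Arith

/-!
In an action on few points the dual of a stabiliser is trivial, everything, on a line, or a maximal
totally singular subspace in dimension eight.
-/

set_option autoImplicit false
set_option linter.unusedSectionVars false

namespace CfsgLib.PGroup.OrthIndex

open scoped Matrix
open Matrix Cfsg.Geo CfsgLib.Perm.Asch CfsgLib.Perm.Trans CfsgLib.Perm.Trans.Quad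

variable {ι : Type} [Fintype ι] [DecidableEq ι] {F : Type*} [Field F] [Fintype F]
variable {Q : (ι → F) → F}

local notation "pol" => QuadraticMap.polar

variable (hQ : IsNondegenerateQuadraticForm Q)
include hQ

namespace Frame

variable (Φ : Frame Q) {Y : Type*} [MulAction ↥(eGroup Q) Y]

theorem mem_inner_levi {g : ↥(eGroup Q)} (hg : g ∈ inner hQ (Φ.W hQ)) : Φ.Levi hQ g 1 :=
  ⟨inner_mono hQ (Φ.W_le hQ) hg, one_ne_zero, by
    rw [one_smul]; exact inner_fix hQ hg fun y hy => Φ.pol_e hQ hy⟩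

theorem leviMap_of_mem {g : ↥(eGroup Q)} {c : F} {u : ι → F} (h : act g u ∈ Φ.W hQ) :
    Φ.leviMap g c u = c⁻¹ • act g u := by
  rw [leviMap, Φ.proj_of_mem hQ h]

theorem dual_ncard_pos (y : Y) : 0 < (Φ.dual hQ y).ncard :=
  (Set.ncard_pos (Set.toFinite _)).2 ⟨0, Φ.zero_mem_dual hQ y⟩

theorem orbit_bound (hq : 4 ≤ Fintype.card F) {Ω : Set Y} (hΩ : Ω.Finite)
    (hinv : ∀ g ∈ inner hQ Φ.P, ∀ z ∈ Ω, g • z ∈ Ω) {y : Y} (hy : y ∈ Ω) {a : ι → F} (ha : a ∈ Φ.W hQ)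
    (hmove : el hQ Φ.e a • y ≠ y) :
    (Fintype.card F - 1) * Fintype.card F ^ (Module.finrank F Φ.P - 4) + Fintype.card F ≤ Ω.ncard := by
  classical
  obtain ⟨u, hu, hu0⟩ : ∃ u ∈ Φ.dual hQ y, u ≠ 0 := by
    by_contra hcon
    simp only [not_exists, not_and, not_not, ne_eq] at hcon
    exact hmove (Φ.fix_of_dual hQ ha fun u hu => by
      rw [hcon u hu, pzero_right hQ, AddChar.map_zero_eq_one])
  have hT : ∀ v ∈ sphere Q (Φ.W hQ) (Q u) \ {0}, ∃ U ∈ Φ.duals hQ y, v ∈ U ∧ v ≠ 0 := by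
    rintro v ⟨⟨hv, hQv⟩, hv0⟩
    obtain ⟨g, hg, hge, hgu⟩ := move hQ hq Φ.nd Φ.six Φ.he (Φ.W_le hQ hu.1) (Φ.W_le hQ hv)
      (Φ.not_line hQ hu.1 hu0) (Φ.not_line hQ hv hv0) hQv.symm (by rw [Φ.pol_e hQ hu.1, Φ.pol_e hQ hv])
    have hL : Φ.Levi hQ g 1 := ⟨hg, one_ne_zero, by rw [hge, one_smul]⟩
    refine ⟨_, ⟨g, 1, hL, rfl⟩, ?_, hv0⟩
    rw [hL.dual y]
    exact ⟨u, hu, by rw [Φ.leviMap_of_mem hQ (by rw [hgu]; exact hv), hgu, inv_one, one_smul]⟩
  have hy' : ∀ g c, Φ.Levi hQ g c → ∀ b ∈ Φ.W hQ, el hQ Φ.e b • g • y ∈ Ω := fun g c hg b hb =>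
    hinv _ (el_mem_inner hQ Φ.he (Φ.W_le hQ hb) Φ.hQe (Φ.pol_e hQ hb)) _ (hinv g hg.1 y hy)
  have h1 := Φ.duals_tuples hQ hΩ y hy' (fun v U => v ∈ U ∧ v ≠ 0) _ hT ((Φ.dual hQ y).ncard - 1)
    fun U hU => by
      obtain ⟨g, c, hg, rfl⟩ := hU
      rw [show {t : ι → F | t ∈ Φ.dual hQ (g • y) ∧ t ≠ 0} = Φ.dual hQ (g • y) \ {0} from
        Set.ext fun t => Iff.rfl, Set.ncard_sdiff_singleton_of_mem (Φ.zero_mem_dual hQ _), hg.dual_ncard y]
  have h2 := sphere_lower hQ (Φ.W_nd hQ) (Φ.W_four hQ) (Q u)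
  have h3 := sphere_ne_zero_card hQ (Φ.W hQ) (Q u)
  have h4 := Φ.W_finrank hQ
  rw [show Module.finrank F (Φ.W hQ) - 2 = Module.finrank F Φ.P - 4 by omega] at h2
  have h5 := Φ.dual_ncard_pos hQ y
  have h6 : (sphere Q (Φ.W hQ) (Q u) \ {0}).ncard < Ω.ncard := by
    refine Nat.lt_of_mul_lt_mul_right (a := (Φ.dual hQ y).ncard) (lt_of_le_of_lt h1 ?_)
    have hΩ0 : 0 < Ω.ncard := (Set.ncard_pos hΩ).2 ⟨y, hy⟩
    exact Nat.mul_lt_mul_of_pos_left (by omega) hΩ0
  omega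

end Frame

/-- An orbit of the Eichler transformations of a subspace is a single point or large. -/
theorem crude (hq : 4 ≤ Fintype.card F) {P : Submodule F (ι → F)} (hP : NdOn Q P)
    (hd : 6 ≤ Module.finrank F P) {Y : Type*} [MulAction ↥(eGroup Q) Y] {Ω : Set Y} (hΩ : Ω.Finite)
    (hinv : ∀ g ∈ inner hQ P, ∀ z ∈ Ω, g • z ∈ Ω) {y : Y} (hy : y ∈ Ω)
    (hmove : ∃ g ∈ inner hQ P, g • y ≠ y) :
    (Fintype.card F - 1) * Fintype.card F ^ (Module.finrank F P - 4) + Fintype.card F ≤ Ω.ncard := by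
  obtain ⟨s, a, hs, ha, hQs, hsa, hne⟩ : ∃ s a, s ∈ P ∧ a ∈ P ∧ Q s = 0 ∧ pol Q s a = 0 ∧
      el hQ s a • y ≠ y := by
    by_contra hcon
    obtain ⟨g, hg, hgy⟩ := hmove
    refine hgy ((Subgroup.closure_le (K := MulAction.stabilizer ↥(eGroup Q) y)).2 ?_ hg)
    rintro _ ⟨s, a, hs, ha, hQs, hsa, rfl⟩
    by_contra hne
    exact hcon ⟨s, a, hs, ha, hQs, hsa, hne⟩
  have hs0 : s ≠ 0 := fun h => hne (by rw [h, el_zero_left hQ, one_smul])
  obtain ⟨f, hf, hQf, hsf⟩ := exists_partner hQ hP hs hs0 hQs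
  let Φ : Frame Q := ⟨P, s, f, hP, hd, hs, hf, hQs, hQf, hsf⟩
  exact Φ.orbit_bound hQ hq hΩ hinv hy (Φ.proj_mem hQ ha (by rw [pcomm]; exact hsa))
    (by rwa [Φ.el_proj hQ hsa])

/-- An additively closed set containing a non-zero vector and invariant under the Eichler
transformations of a subspace contains the subspace. -/
theorem invariant_eq_top (hq : 4 ≤ Fintype.card F) {W : Submodule F (ι → F)} (hW : NdOn Q W)
    (hd : 6 ≤ Module.finrank F W) {U : Set (ι → F)} (h0 : (0 : ι → F) ∈ U)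
    (hadd : ∀ a ∈ U, ∀ b ∈ U, a + b ∈ U) (hneg : ∀ a ∈ U, -a ∈ U) {u : ι → F} (hu : u ∈ U) (huW : u ∈ W)
    (hu0 : u ≠ 0) (hinv : ∀ g ∈ inner hQ W, ∀ a ∈ U, act g a ∈ U) : ∀ w ∈ W, w ∈ U := by
  have hsph : ∀ v ∈ W, v ≠ 0 → Q v = Q u → v ∈ U := fun v hv hv0 hQv => by
    obtain ⟨g, hg, -, hgu⟩ := move hQ hq hW hd W.zero_mem huW hv (fun c => by rwa [smul_zero])
      (fun c => by rwa [smul_zero]) hQv.symm (by rw [pzero_left hQ, pzero_left hQ])
    rw [← hgu]
    exact hinv g hg u hu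
  have hsing : ∀ w ∈ W, Q w = 0 → w ∈ U := fun w hw hQw => by
    rcases eq_or_ne w 0 with rfl | hw0
    · exact h0
    rcases eq_or_ne (Q u) 0 with hc | hc
    · exact hsph w hw hw0 (by rw [hQw, hc])
    obtain ⟨z, hz, hzw, hQz⟩ := exists_affine_value hQ hW (by omega) hw 0 (Q u) fun _ => rfl
    have h1 : z ∈ U := hsph z hz (fun h => hc (by rw [← hQz, h, qzero hQ])) hQz
    have hQzw : Q (z + w) = Q u := by rw [qadd hQ, hQz, hQw, hzw, add_zero, add_zero]
    have h2 : z + w ∈ U := hsph _ (W.add_mem hz hw) (fun h => hc (by rw [← hQzw, h, qzero hQ])) hQzw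
    have := hadd _ h2 _ (hneg _ h1)
    rwa [← sub_eq_add_neg, add_sub_cancel_left] at this
  exact mem_of_singular hQ hW (by omega) hadd hsing

/-- The group acts on the sets of vectors. -/
@[reducible] def setAction : MulAction ↥(eGroup Q) (Set (ι → F)) where
  smul g U := act g '' U
  one_smul U := by
    show act (1 : ↥(eGroup Q)) '' U = U
    simp [act_one]
  mul_smul g h U := by
    show act (g * h) '' U = act g '' (act h '' U)
    simp [Set.image_image, act_mul]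

namespace Frame

variable (Φ : Frame Q) {Y : Type*} [MulAction ↥(eGroup Q) Y]

/-- Either the dual is all of `W`, or it has many images. -/
theorem dual_all_or_many (hq : 4 ≤ Fintype.card F) (hd : 6 ≤ Module.finrank F (Φ.W hQ)) (y : Y) {u : ι → F}
    (hu : u ∈ Φ.dual hQ y) (hu0 : u ≠ 0) :
    (∀ w ∈ Φ.W hQ, w ∈ Φ.dual hQ y) ∨
      (Fintype.card F - 1) * Fintype.card F ^ (Module.finrank F (Φ.W hQ) - 4) + Fintype.card F ≤
        (Φ.duals hQ y).ncard := by
  by_cases h : ∀ g ∈ inner hQ (Φ.W hQ), act g '' Φ.dual hQ y = Φ.dual hQ y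
  · refine Or.inl (invariant_eq_top hQ hq (Φ.W_nd hQ) hd (Φ.zero_mem_dual hQ y)
      (fun a ha b hb => Φ.add_mem_dual hQ ha hb) (fun a ha => Φ.neg_mem_dual hQ ha) hu hu.1 hu0 fun g hg a ha => ?_)
    rw [← h g hg]
    exact ⟨a, ha, rfl⟩
  · simp only [not_forall] at h
    obtain ⟨g, hg, hne⟩ := h
    letI := setAction (ι := ι) (F := F) (Q := Q)
    let Ω : Set (Set (ι → F)) := {U | ∃ g ∈ inner hQ (Φ.W hQ), U = act g '' Φ.dual hQ y}
    have h1 := crude hQ hq (Φ.W_nd hQ) hd (Ω := Ω) (Set.toFinite _)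
      (fun k hk U ⟨g, hg, hU⟩ => ⟨k * g, mul_mem hk hg, by
        rw [hU]
        show act k '' (act g '' _) = _
        simp [Set.image_image, act_mul]⟩) (y := Φ.dual hQ y)
      ⟨1, one_mem _, by simp [act_one]⟩ ⟨g, hg, hne⟩
    refine Or.inr (h1.trans (Set.ncard_le_ncard ?_ (Set.toFinite _)))
    rintro U ⟨k, hk, rfl⟩
    refine ⟨k, 1, Φ.mem_inner_levi hQ hk, ?_⟩
    rw [(Φ.mem_inner_levi hQ hk).dual y]
    refine Set.image_congr fun a ha => ?_
    rw [Φ.leviMap_of_mem hQ (inner_maps hQ hk ha.1), inv_one, one_smul]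

/-- Pairs in the dual force many points. -/
theorem pairs_bound (hq : 4 ≤ Fintype.card F) (hd : 6 ≤ Module.finrank F (Φ.W hQ)) [Finite Y] (y : Y)
    {u v : ι → F} (hu : u ∈ Φ.dual hQ y) (hu0 : u ≠ 0) (hv : v ∈ Φ.dual hQ y)
    (hvu : ∀ k : F, v ≠ k • u) {R : Set F} (hR : ∀ r ∈ R, ∃ c : F, c ≠ 0 ∧ r = c ^ 2)
    (hinj : Set.InjOn (fun r => r * Q u) R) (m₁ m₂ : ℕ)
    (hm₁ : ∀ r ∈ R, m₁ ≤ (sphere Q (Φ.W hQ) (r * Q u) \ {0}).ncard)
    (hm₂ : ∀ r ∈ R, ∀ u' ∈ Φ.W hQ, u' ≠ 0 → Q u' = r * Q u → m₂ ≤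
      {v' : ι → F | v' ∈ Φ.W hQ ∧ Q v' = r * Q v ∧ pol Q v' u' = r * pol Q v u ∧ ∀ k : F, v' ≠ k • u'}.ncard) :
    R.ncard * m₁ * m₂ ≤ Nat.card Y * ((Φ.dual hQ y).ncard - 1) := by
  classical
  let A : F → Set (ι → F) := fun r => sphere Q (Φ.W hQ) (r * Q u) \ {0}
  let B : F → (ι → F) → Set (ι → F) := fun r u' =>
    {v' : ι → F | v' ∈ Φ.W hQ ∧ Q v' = r * Q v ∧ pol Q v' u' = r * pol Q v u ∧ ∀ k : F, v' ≠ k • u'}
  let T : Set ((ι → F) × (ι → F)) := {p | ∃ r ∈ R, p.1 ∈ A r ∧ p.2 ∈ B r p.1}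
  have hT : ∀ p ∈ T, ∃ U ∈ Φ.duals hQ y, p.1 ∈ U ∧ p.1 ≠ 0 ∧ p.2 ∈ U := by
    rintro ⟨u', v'⟩ ⟨r, hr, ⟨⟨hu', hQu'⟩, hu'0⟩, hv', hQv', hpol, hvn⟩
    obtain ⟨c, hc, rfl⟩ := hR r hr
    obtain ⟨g, hg, hge, hgf⟩ := exists_scale hQ hq Φ.nd Φ.six Φ.he Φ.hf Φ.hQe Φ.hQf Φ.hef (inv_ne_zero hc)
    have hgW : ∀ a ∈ Φ.W hQ, act g a ∈ Φ.W hQ := fun a ha => (mem_pairPerp hQ).2
      ⟨inner_maps hQ hg (Φ.W_le hQ ha), by
        have h := pol_act g a Φ.e
        rw [hge, psmul_right hQ, Φ.pol_e' hQ ha, mul_eq_zero] at h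
        exact h.resolve_left (inv_ne_zero hc), by
        have h := pol_act g a Φ.f
        rw [hgf, psmul_right hQ, Φ.pol_f hQ ha, mul_eq_zero, inv_inv] at h
        exact h.resolve_left hc⟩
    have hgu0 : act g u ≠ 0 := fun h => hu0 (act_injective g (by rw [h, act_zero]))
    obtain ⟨h₁, hh₁, -, h₁u⟩ := move hQ hq (Φ.W_nd hQ) hd (Φ.W hQ).zero_mem (hgW u hu.1)
      ((Φ.W hQ).smul_mem c⁻¹ hu') (fun k => by rwa [smul_zero])
      (fun k => by rw [smul_zero]; exact smul_ne_zero (inv_ne_zero hc) hu'0)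
      (by rw [Q_act (Q := Q), qsmul hQ, hQu', ← mul_assoc, ← mul_pow, inv_mul_cancel₀ hc, one_pow, one_mul])
      (by rw [pzero_left hQ, pzero_left hQ])
    obtain ⟨h₂, hh₂, h₂u, h₂v⟩ := move hQ hq (Φ.W_nd hQ) hd ((Φ.W hQ).smul_mem c⁻¹ hu')
      (inner_maps hQ hh₁ (hgW v hv.1)) ((Φ.W hQ).smul_mem c⁻¹ hv')
      (fun k hk => hvu k (act_injective g (act_injective h₁ (by
        rw [hk, act_smul, act_smul, h₁u]))))
      (fun k hk => hvn k (by
        have := congrArg (fun x => c • x) hk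
        simp only [smul_smul] at this
        rw [mul_inv_cancel₀ hc, one_smul] at this
        rwa [show c * (k * c⁻¹) = k by rw [mul_left_comm, mul_inv_cancel₀ hc, mul_one]] at this))
      (by rw [Q_act (Q := Q), Q_act (Q := Q), qsmul hQ, hQv', ← mul_assoc, ← mul_pow, inv_mul_cancel₀ hc,
        one_pow, one_mul])
      (by
        conv_lhs => rw [← h₁u]
        rw [pol_act, pol_act, psmul_left hQ, psmul_right hQ, pcomm u' v', hpol, pcomm u v]
        field_simp)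
    have hL : Φ.Levi hQ (h₂ * h₁ * g) c⁻¹ :=
      ⟨mul_mem (mul_mem (inner_mono hQ (Φ.W_le hQ) hh₂) (inner_mono hQ (Φ.W_le hQ) hh₁)) hg,
        inv_ne_zero hc, by
        rw [act_mul, act_mul, hge, act_smul, act_smul, inner_fix hQ hh₁ fun a ha => Φ.pol_e hQ ha,
          inner_fix hQ hh₂ fun a ha => Φ.pol_e hQ ha]⟩
    have hmap : ∀ a b : ι → F, b ∈ Φ.W hQ → act (h₂ * h₁ * g) a = c⁻¹ • b →
        Φ.leviMap (h₂ * h₁ * g) c⁻¹ a = b := fun a b hb hab => by
      rw [Φ.leviMap_of_mem hQ (by rw [hab]; exact (Φ.W hQ).smul_mem _ hb), hab, inv_inv, smul_smul,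
        mul_inv_cancel₀ hc, one_smul]
    refine ⟨_, ⟨_, _, hL, rfl⟩, ?_, hu'0, ?_⟩
    · rw [hL.dual y]
      exact ⟨u, hu, hmap _ _ hu' (by rw [act_mul, act_mul, h₁u, h₂u])⟩
    · rw [hL.dual y]
      exact ⟨v, hv, hmap _ _ hv' (by rw [act_mul, act_mul, h₂v])⟩
  have h1 := Φ.duals_tuples hQ (Ω := Set.univ) Set.finite_univ y (fun g c _ a _ => Set.mem_univ _)
    (fun p U => p.1 ∈ U ∧ p.1 ≠ 0 ∧ p.2 ∈ U) T hT
    (((Φ.dual hQ y).ncard - 1) * (Φ.dual hQ y).ncard) fun U hU => by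
      obtain ⟨g, c, hg, rfl⟩ := hU
      rw [← hg.dual_ncard y, ← Set.ncard_sdiff_singleton_of_mem (Φ.zero_mem_dual hQ (g • y)), ← Set.ncard_prod]
      exact Set.ncard_le_ncard (fun p hp => ⟨⟨hp.1, hp.2.1⟩, hp.2.2⟩) (Set.toFinite _)
  have h2 : R.ncard * m₁ * m₂ ≤ T.ncard := by
    haveI : Fintype R := Fintype.ofFinite _
    haveI : ∀ r : R, Fintype (A r.1) := fun r => Fintype.ofFinite _
    let toT : (Σ r : R, Σ a : A r.1, B r.1 a.1) → T := fun p =>
      ⟨(p.2.1.1, p.2.2.1), p.1.1, p.1.2, p.2.1.2, p.2.2.2⟩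
    have hinjT : Function.Injective toT := by
      rintro ⟨r, a, b⟩ ⟨r', a', b'⟩ h
      have h' : (a.1, b.1) = (a'.1, b'.1) := congrArg Subtype.val h
      obtain ⟨ha, hb⟩ := Prod.mk.inj h'
      obtain rfl : r = r' := Subtype.ext (hinj r.2 r'.2 (by
        show r.1 * Q u = r'.1 * Q u
        rw [← a.2.1.2, ← a'.2.1.2, ha]))
      obtain rfl : a = a' := Subtype.ext ha
      obtain rfl : b = b' := Subtype.ext hb
      rfl
    have h3 := Nat.card_le_card_of_injective toT hinjT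
    rw [Nat.card_sigma, Nat.card_coe_set_eq T] at h3
    refine le_trans ?_ h3
    rw [← Nat.card_coe_set_eq R, Nat.card_eq_fintype_card, mul_assoc, ← smul_eq_mul, ← Finset.card_univ]
    refine Finset.card_nsmul_le_sum _ _ _ fun r _ => ?_
    rw [Nat.card_sigma]
    have h4 : (A r.1).ncard * m₂ ≤ ∑ a : A r.1, Nat.card (B r.1 a.1) := by
      rw [← Nat.card_coe_set_eq, Nat.card_eq_fintype_card, ← smul_eq_mul, ← Finset.card_univ]
      refine Finset.card_nsmul_le_sum _ _ _ fun a _ => ?_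
      rw [Nat.card_coe_set_eq]
      exact hm₂ r.1 r.2 a.1 a.2.1.1 a.2.2 a.2.1.2
    exact le_trans (Nat.mul_le_mul_right _ (hm₁ r.1 r.2)) h4
  rw [Set.ncard_univ] at h1
  refine Nat.le_of_mul_le_mul_right ?_ (Φ.dual_ncard_pos hQ y)
  calc R.ncard * m₁ * m₂ * (Φ.dual hQ y).ncard ≤ T.ncard * (Φ.dual hQ y).ncard := Nat.mul_le_mul_right _ h2
    _ ≤ _ := h1
    _ = _ := by ring

/-- The four possibilities for a dual. -/
theorem dichotomy (hq : 4 ≤ Fintype.card F) (hn : 8 ≤ Fintype.card ι) (hP : Φ.P = ⊤) [Finite Y]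
    (hsmall : Nat.card Y * (Fintype.card F - 1) < (sphere Q (⊤ : Submodule F (ι → F)) 0).ncard - 1)
    (y : Y) :
    Φ.dual hQ y = {0} ∨ (∀ w ∈ Φ.W hQ, w ∈ Φ.dual hQ y) ∨
      (∃ u ∈ Φ.W hQ, u ≠ 0 ∧ ∀ v ∈ Φ.dual hQ y, ∃ k : F, v = k • u) ∨
      (Fintype.card ι = 8 ∧ ∃ M : Submodule F (ι → F), M ≤ Φ.W hQ ∧ (∀ x ∈ M, Q x = 0) ∧
        Module.finrank F M = 3 ∧ Φ.dual hQ y = M) := by
  classical
  have hn' : Module.finrank F Φ.P = Fintype.card ι := by
    rw [hP, finrank_top, Module.finrank_fintype_fun_eq_card]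
  have hW := Φ.W_finrank hQ
  have hWd : 6 ≤ Module.finrank F (Φ.W hQ) := by omega
  by_cases h0 : ∀ u ∈ Φ.dual hQ y, u = 0
  · exact Or.inl (Set.eq_singleton_iff_unique_mem.2 ⟨Φ.zero_mem_dual hQ y, h0⟩)
  simp only [not_forall] at h0
  obtain ⟨u₀, hu₀, hu₀0⟩ := h0
  rcases Φ.dual_all_or_many hQ hq hWd y hu₀ hu₀0 with hall | hmany
  · exact Or.inr (Or.inl hall)
  refine Or.inr (Or.inr ?_)
  by_contra hno
  simp only [not_or] at hno
  obtain ⟨hline, hts⟩ := hno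
  have hsecond : ∀ u ∈ Φ.dual hQ y, u ≠ 0 → ∃ v ∈ Φ.dual hQ y, ∀ k : F, v ≠ k • u := fun u hu hu0 => by
    by_contra hcon
    simp only [not_exists, not_and, not_forall, not_not, ne_eq] at hcon
    exact hline ⟨u, hu.1, hu0, hcon⟩
  have hK : ((Fintype.card F - 1) * Fintype.card F ^ (Module.finrank F (Φ.W hQ) - 4) + Fintype.card F) *
      (Φ.dual hQ y).ncard ≤ Nat.card Y := by
    have := Φ.duals_count hQ (Ω := Set.univ) Set.finite_univ y (fun g c _ a _ => Set.mem_univ _)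
    rw [Set.ncard_univ] at this
    exact (Nat.mul_le_mul_right _ hmany).trans this
  have hdvd := Φ.dual_card_dvd hQ y
  set q := Fintype.card F with hqdef
  set U := (Φ.dual hQ y).ncard with hUdef
  have hqq : 1 ≤ q := by omega
  by_cases hA : ∃ u ∈ Φ.dual hQ y, Q u ≠ 0
  · obtain ⟨u, hu, hQu⟩ := hA
    have hu0 : u ≠ 0 := fun h => hQu (by rw [h, qzero hQ])
    obtain ⟨v, hv, hvu⟩ := hsecond u hu hu0
    obtain ⟨hs, hs4⟩ := card_squares (F := F)
    rcases Nat.lt_or_ge (Module.finrank F (Φ.W hQ)) 7 with h6 | h7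
    · have hd6 : Module.finrank F (Φ.W hQ) = 6 := by omega
      have hb := Φ.pairs_bound hQ hq hWd y hu hu0 hv hvu (R := {r : F | ∃ c : F, c ≠ 0 ∧ r = c ^ 2})
        (fun r hr => hr) (fun a _ b _ h => mul_right_cancel₀ hQu h) (q ^ 3 * ((q - 1) * (q + 1)))
        ((q - 1) * q ^ 3)
        (fun r _ => by
          have h1 := sphere_lower_six hQ (Φ.W_nd hQ) hd6 (r * Q u)
          have h2 := sphere_ne_zero_card hQ (Φ.W hQ) (r * Q u)
          have h3 : q ^ 3 * ((q - 1) * (q + 1)) + 1 ≤ (q - 1) * q ^ 4 + q * ((q - 1) * q ^ 2 + q) := by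
            calc q ^ 3 * ((q - 1) * (q + 1)) + 1 ≤ q ^ 3 * ((q - 1) * (q + 1)) + q * q := by
                  gcongr; exact Nat.one_le_iff_ne_zero.2 (by positivity)
              _ = _ := by ring
          rw [← hqdef] at h1
          omega)
        (fun r _ u' hu' hu'0 _ => by
          have := card_slice_ge hQ (Φ.W_nd hQ) (by omega) hu' hu'0 (r * Q v) (r * pol Q v u)
          rwa [hd6] at this)
      have hX : Nat.card Y * (q - 1) < q ^ 7 + q ^ 4 := by
        have h1 := sphere_zero_upper_eight hQ (P := (⊤ : Submodule F (ι → F))) (ndOn_top hQ)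
          (by rw [finrank_top, Module.finrank_fintype_fun_eq_card]; omega)
        have h2 : (q - 1) * q ^ 6 + q * ((q - 1) * q ^ 4 + q * ((q - 1) * q ^ 2 + q * (2 * q - 1))) ≤
            q ^ 7 + q ^ 4 := by
          obtain ⟨r, hr⟩ : ∃ r, q = r + 1 := ⟨q - 1, by omega⟩
          rw [hr, Nat.add_sub_cancel, show 2 * (r + 1) - 1 = 2 * r + 1 by omega]
          nlinarith [Nat.zero_le ((r + 1) ^ 3)]
        rw [← hqdef] at h1
        omega
      rw [hd6] at hdvd hK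
      exact no_pairs_six hq (FiniteField.isPrimePow_card F) hdvd hs hs4 hX hK hb
    · obtain ⟨j, hj⟩ : ∃ j, Module.finrank F (Φ.W hQ) = j + 7 := ⟨_, (Nat.sub_add_cancel h7).symm⟩
      have hb := Φ.pairs_bound hQ hq hWd y hu hu0 hv hvu (R := {r : F | ∃ c : F, c ≠ 0 ∧ r = c ^ 2})
        (fun r hr => hr) (fun a _ b _ h => mul_right_cancel₀ hQu h) ((q - 1) * q ^ (j + 5))
        ((q - 1) * q ^ (j + 4))
        (fun r _ => by
          have h1 := sphere_lower hQ (Φ.W_nd hQ) (by omega) (r * Q u)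
          have h2 := sphere_ne_zero_card hQ (Φ.W hQ) (r * Q u)
          rw [hj, show j + 7 - 2 = j + 5 by omega] at h1
          rw [← hqdef] at h1
          omega)
        (fun r _ u' hu' hu'0 _ => by
          have := card_slice_ge hQ (Φ.W_nd hQ) (by omega) hu' hu'0 (r * Q v) (r * pol Q v u)
          rwa [hj, show j + 7 - 3 = j + 4 by omega] at this)
      have hX : Nat.card Y * (q - 1) < q ^ (j + 8) + q ^ (j + 7) := by
        have h1 := sphere_zero_upper_two hQ (P := (⊤ : Submodule F (ι → F))) (ndOn_top hQ) (d := j + 5)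
          (by rw [finrank_top, Module.finrank_fintype_fun_eq_card]; omega)
        have h2 : (q - 1) * q ^ (j + 5 + 2) + q * ((q - 1) * q ^ (j + 5) + q * q ^ (j + 5)) ≤
            q ^ (j + 8) + q ^ (j + 7) := by
          obtain ⟨r, hr⟩ : ∃ r, q = r + 1 := ⟨q - 1, by omega⟩
          rw [hr, Nat.add_sub_cancel]
          calc r * (r + 1) ^ (j + 5 + 2) + (r + 1) * (r * (r + 1) ^ (j + 5) + (r + 1) * (r + 1) ^ (j + 5))
              = (r * (r + 1) + (2 * r + 1)) * (r + 1) ^ (j + 6) := by ring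
            _ ≤ ((r + 1) * (r + 1) + (r + 1)) * (r + 1) ^ (j + 6) := Nat.mul_le_mul_right _ (by ring_nf; omega)
            _ = _ := by ring
        rw [← hqdef] at h1
        omega
      rw [hj, show j + 7 - 4 = j + 3 by omega] at hK
      exact no_pairs_seven hq hs hs4 hX ((Nat.mul_le_mul_right _ (Nat.le_add_right _ _)).trans hK) hb
  simp only [not_exists, not_and, not_not, ne_eq] at hA
  -- every vector of the dual is singular
  set M := Submodule.span F (Φ.dual hQ y) with hM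
  have horth : ∀ a ∈ Φ.dual hQ y, ∀ b ∈ Φ.dual hQ y, pol Q a b = 0 := fun a ha b hb => by
    rw [QuadraticMap.polar, hA _ (Φ.add_mem_dual hQ ha hb), hA a ha, hA b hb]; ring
  have horth1 : ∀ x ∈ M, ∀ a ∈ Φ.dual hQ y, pol Q x a = 0 := fun x hx a ha => by
    induction hx using Submodule.span_induction with
    | mem b hb => exact horth b hb a ha
    | zero => exact pzero_left hQ a
    | add b c _ _ ihb ihc => rw [padd_left hQ, ihb, ihc, add_zero]
    | smul k b _ ih => rw [psmul_left hQ, ih, mul_zero]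
  have hMts : ∀ x ∈ M, Q x = 0 := fun x hx => by
    induction hx using Submodule.span_induction with
    | mem b hb => exact hA b hb
    | zero => exact qzero hQ
    | add b c hb hc ihb ihc =>
      have hbc : pol Q b c = 0 := by
        clear ihc
        induction hc using Submodule.span_induction with
        | mem d hd => exact horth1 b hb d hd
        | zero => exact pzero_right hQ b
        | add d e _ _ ihd ihe => rw [padd_right hQ, ihd, ihe, add_zero]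
        | smul k d _ ih => rw [psmul_right hQ, ih, mul_zero]
      rw [qadd hQ, ihb, ihc, hbc, add_zero, add_zero]
    | smul k b _ ih => rw [qsmul hQ, ih, mul_zero]
  have hMW : M ≤ Φ.W hQ := Submodule.span_le.2 fun a ha => ha.1
  have hMd := two_mul_finrank_le hQ (Φ.W_nd hQ) hMW hMts
  have hUM : U ≤ q ^ Module.finrank F M := by
    rw [hUdef, hqdef, ← natCard_submodule hQ, ← Nat.card_coe_set_eq]
    exact Nat.card_le_card_of_injective (fun a => (⟨a.1, Submodule.subset_span a.2⟩ : M))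
      fun a b h => Subtype.ext (congrArg Subtype.val h :)
  obtain ⟨v, hv, hvu⟩ := hsecond u₀ hu₀ hu₀0
  have hQu : Q u₀ = 0 := hA u₀ hu₀
  rcases Nat.lt_or_ge (Module.finrank F (Φ.W hQ)) 7 with h6 | h7
  · have hd6 : Module.finrank F (Φ.W hQ) = 6 := by omega
    rw [hd6] at hdvd
    have hX : Nat.card Y * (q - 1) < q ^ 7 + q ^ 4 := by
      have h1 := sphere_zero_upper_eight hQ (P := (⊤ : Submodule F (ι → F))) (ndOn_top hQ)
        (by rw [finrank_top, Module.finrank_fintype_fun_eq_card]; omega)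
      have h2 : (q - 1) * q ^ 6 + q * ((q - 1) * q ^ 4 + q * ((q - 1) * q ^ 2 + q * (2 * q - 1))) ≤
          q ^ 7 + q ^ 4 := by
        obtain ⟨r, hr⟩ : ∃ r, q = r + 1 := ⟨q - 1, by omega⟩
        rw [hr, Nat.add_sub_cancel, show 2 * (r + 1) - 1 = 2 * r + 1 by omega]
        nlinarith [Nat.zero_le ((r + 1) ^ 3)]
      rw [← hqdef] at h1
      omega
    have hM3 : q ^ Module.finrank F M ≤ q ^ 3 := Nat.pow_le_pow_right hqq (by omega)
    rcases lt_or_eq_of_le (hUM.trans hM3) with hlt | heq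
    · have hb := Φ.pairs_bound hQ hq hWd y hu₀ hu₀0 hv hvu (R := {1})
        (fun r hr => ⟨1, one_ne_zero, by rw [hr, one_pow]⟩) (fun a ha b hb _ => by rw [ha, hb])
        (q ^ 3 * ((q - 1) * (q + 1))) ((q - 1) * q ^ 3)
        (fun r _ => by
          have h1 := sphere_lower_six hQ (Φ.W_nd hQ) hd6 (r * Q u₀)
          have h2 := sphere_ne_zero_card hQ (Φ.W hQ) (r * Q u₀)
          have h3 : q ^ 3 * ((q - 1) * (q + 1)) + 1 ≤ (q - 1) * q ^ 4 + q * ((q - 1) * q ^ 2 + q) := by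
            calc q ^ 3 * ((q - 1) * (q + 1)) + 1 ≤ q ^ 3 * ((q - 1) * (q + 1)) + q * q := by
                  gcongr; exact Nat.one_le_iff_ne_zero.2 (by positivity)
              _ = _ := by ring
          rw [← hqdef] at h1
          omega)
        (fun r _ u' hu' hu'0 _ => by
          have := card_slice_ge hQ (Φ.W_nd hQ) (by omega) hu' hu'0 (r * Q v) (r * pol Q v u₀)
          rwa [hd6] at this)
      rw [Set.ncard_singleton, one_mul] at hb
      exact no_ts_six hq (eq_or_double (FiniteField.isPrimePow_card F) hdvd 3 hlt) hX hb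
    · have hM3' : Module.finrank F M = 3 := by
        have h1 : q ^ 3 ≤ q ^ Module.finrank F M := heq ▸ hUM
        have h2 := (Nat.pow_le_pow_iff_right (a := q) (by omega)).1 h1
        omega
      refine hts ⟨by omega, M, hMW, hMts, hM3', ?_⟩
      refine Set.eq_of_subset_of_ncard_le Submodule.subset_span ?_ (Set.toFinite _)
      rw [← hUdef, heq, ← hM3', ← Nat.card_coe_set_eq, ← natCard_submodule hQ]
      rfl
  · obtain ⟨j, hj⟩ : ∃ j, Module.finrank F (Φ.W hQ) = j + 7 := ⟨_, (Nat.sub_add_cancel h7).symm⟩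
    have hX : Nat.card Y * (q - 1) < q ^ (j + 8) + q ^ (j + 7) := by
      have h1 := sphere_zero_upper_two hQ (P := (⊤ : Submodule F (ι → F))) (ndOn_top hQ) (d := j + 5)
        (by rw [finrank_top, Module.finrank_fintype_fun_eq_card]; omega)
      have h2 : (q - 1) * q ^ (j + 5 + 2) + q * ((q - 1) * q ^ (j + 5) + q * q ^ (j + 5)) ≤
          q ^ (j + 8) + q ^ (j + 7) := by
        obtain ⟨r, hr⟩ : ∃ r, q = r + 1 := ⟨q - 1, by omega⟩
        rw [hr, Nat.add_sub_cancel]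
        calc r * (r + 1) ^ (j + 5 + 2) + (r + 1) * (r * (r + 1) ^ (j + 5) + (r + 1) * (r + 1) ^ (j + 5))
            = (r * (r + 1) + (2 * r + 1)) * (r + 1) ^ (j + 6) := by ring
          _ ≤ ((r + 1) * (r + 1) + (r + 1)) * (r + 1) ^ (j + 6) := Nat.mul_le_mul_right _ (by ring_nf; omega)
          _ = _ := by ring
      rw [← hqdef] at h1
      omega
    have hb := Φ.pairs_bound hQ hq hWd y hu₀ hu₀0 hv hvu (R := {1})
      (fun r hr => ⟨1, one_ne_zero, by rw [hr, one_pow]⟩) (fun a ha b hb _ => by rw [ha, hb])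
      ((q - 1) * q ^ (j + 5)) ((q - 1) * q ^ (j + 4))
      (fun r _ => by
        have h1 := sphere_lower hQ (Φ.W_nd hQ) (by omega) (r * Q u₀)
        have h2 := sphere_ne_zero_card hQ (Φ.W hQ) (r * Q u₀)
        rw [hj, show j + 7 - 2 = j + 5 by omega] at h1
        rw [← hqdef] at h1
        omega)
      (fun r _ u' hu' hu'0 _ => by
        have := card_slice_ge hQ (Φ.W_nd hQ) (by omega) hu' hu'0 (r * Q v) (r * pol Q v u₀)
        rwa [hj, show j + 7 - 3 = j + 4 by omega] at this)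
    rw [Set.ncard_singleton, one_mul] at hb
    exact no_ts_seven hq (by omega) hUM hX hb

end Frame

end CfsgLib.PGroup.OrthIndex
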