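import Cfsg.Agent.Lib.PGroup.OrthIndex.Main
import Cfsg.Agent.Lib.Perm.Trans.QuadSimple

/-!
The minimal index of a proper subgroup of a projective orthogonal group.
-/

set_option autoImplicit false
set_option linter.unusedSectionVars false

namespace CfsgLib.PGroup.OrthIndex

open scoped Matrix
open Matrix Cfsg.Geo CfsgLib.Perm.Asch CfsgLib.Perm.Trans CfsgLib.Perm.Trans.Quad

variable {ι : Type} [Fintype ι] [DecidableEq ι] {F : Type*} [Field F] [Fintype F]
variable {Q : (ι → F) → F}

/-- The number of singular points is the number of non-zero singular vectors over `q - 1`. -/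
theorem card_spt (hQ : IsNondegenerateQuadraticForm Q) :
    Nat.card (SPt Q) * (Fintype.card F - 1) = (sphere Q (⊤ : Submodule F (ι → F)) 0).ncard - 1 := by
  classical
  choose r hr0 hrQ hr using fun L : SPt Q => spt_surj L
  let toV : SPt Q × Fˣ → ↥(sphere Q (⊤ : Submodule F (ι → F)) 0 \ {0}) := fun p =>
    ⟨(p.2 : F) • r p.1, ⟨Submodule.mem_top, by rw [qsmul hQ, hrQ, mul_zero]⟩,
      smul_ne_zero p.2.ne_zero (hr0 p.1)⟩
  have hbij : Function.Bijective toV := by
    constructor
    · rintro ⟨L, a⟩ ⟨L', b⟩ h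
      have h' : (a : F) • r L = (b : F) • r L' := congrArg Subtype.val h
      obtain rfl : L = L' := by
        rw [hr L, hr L', spt_eq_iff]
        exact ⟨(a : F)⁻¹ * b, by rw [← smul_smul, ← h', smul_smul, inv_mul_cancel₀ a.ne_zero, one_smul]⟩
      exact Prod.ext rfl (Units.ext (smul_left_injective F (hr0 L) h'))
    · rintro ⟨v, ⟨-, hv⟩, hv0⟩
      obtain ⟨c, hc⟩ := spt_eq_iff.1 (hr (spt v hv0 hv))
      refine ⟨(spt v hv0 hv, Units.mk0 c fun h => hv0 (by rw [hc, h, zero_smul]; rfl)), Subtype.ext ?_⟩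
      exact hc.symm
  rw [← Nat.card_eq_fintype_card, ← Nat.card_units, ← Nat.card_prod, Nat.card_congr (Equiv.ofBijective toV hbij), Nat.card_coe_set_eq,
    Set.ncard_sdiff_singleton_of_mem
      (show (0 : ι → F) ∈ sphere Q (⊤ : Submodule F (ι → F)) 0 from ⟨Submodule.mem_top, qzero hQ⟩)]

/-- The minimal index in the projective orthogonal group, given the bound for the Eichler group. -/
theorem pomega_min_index_of_bound (hQ : IsNondegenerateQuadraticForm Q) (hn5 : 5 ≤ Fintype.card ι)
    (hb : ∀ {H : Subgroup ↥(eGroup Q)}, H ≠ ⊤ →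
      (sphere Q (⊤ : Submodule F (ι → F)) 0).ncard - 1 ≤ H.index * (Fintype.card F - 1)) {N : ℕ} (hN : N * (Fintype.card F - 1) = (sphere Q (⊤ : Submodule F (ι → F)) 0).ncard - 1) :
    (∀ H : Subgroup (Cfsg.POmega F Q), H ≠ ⊤ → N ≤ H.index) ∧ ∃ H : Subgroup (Cfsg.POmega F Q), H.index = N := by
  classical
  have hq2 : 1 < Fintype.card F := Fintype.one_lt_card
  refine ⟨fun H hH => ?_, ?_⟩
  · set π := QuotientGroup.mk' (Subgroup.center (Cfsg.Omega F Q)) with hπ
    have hsurj : Function.Surjective π := QuotientGroup.mk'_surjective _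
    have hK : H.comap π ≠ ⊤ := fun h => hH (Subgroup.comap_injective hsurj (by rw [h, Subgroup.comap_top]))
    let φ : Cfsg.Omega F Q ≃* ↥(eGroup Q) :=
      ((Cfsg.Omega F Q).equivMapOfInjective _ (Cfsg.isometryGroup F Q).subtype_injective).trans
        (MulEquiv.subgroupCongr (omegaGL_eq hQ hn5))
    have h1 := hb (H := (H.comap π).map φ.toMonoidHom) fun h => hK (by
      rw [← Subgroup.comap_map_eq_self_of_injective (f := φ.toMonoidHom) φ.injective (H.comap π)]
      show Subgroup.comap φ.toMonoidHom (Subgroup.map φ.toMonoidHom (H.comap π)) = ⊤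
      rw [h, Subgroup.comap_top])
    rw [show ((H.comap π).map φ.toMonoidHom).index = H.index from
      (Subgroup.index_map_equiv _ φ).trans (Subgroup.index_comap_of_surjective H hsurj), ← hN] at h1
    exact Nat.le_of_mul_le_mul_right h1 (by omega)
  · obtain ⟨u, -, hu0, hu⟩ := exists_singular_mem hQ (⊤ : Submodule F (ι → F))
      (by rw [finrank_top, Module.finrank_fintype_fun_eq_card]; omega)
    have htriv : Subgroup.center (Cfsg.Omega F Q) ≤ (MulAction.toPermHom (Cfsg.Omega F Q) (SPt Q)).ker :=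
      fun z hz => Equiv.ext fun x => by
        obtain ⟨w, hw0, hw, rfl⟩ := spt_surj x
        show z • spt w hw0 hw = spt w hw0 hw
        rw [smul_spt, spt_eq_iff]
        exact center_fix hQ hn5 hz hw0 hw
    letI : MulAction (Cfsg.POmega F Q) (SPt Q) :=
      MulAction.compHom _ (QuotientGroup.lift _ (MulAction.toPermHom (Cfsg.Omega F Q) (SPt Q)) htriv)
    refine ⟨MulAction.stabilizer (Cfsg.POmega F Q) (spt u hu0 hu), ?_⟩
    have horb : MulAction.orbit (Cfsg.POmega F Q) (spt u hu0 hu) = Set.univ :=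
      Set.eq_univ_of_forall fun x => by
        obtain ⟨w, hw0, hw, rfl⟩ := spt_surj x
        obtain ⟨g, hg, hgu⟩ := exists_move hQ hn5 hu0 hw0 hu hw
        obtain ⟨z, rfl⟩ := exists_omega_move hQ hn5 hg
        refine ⟨QuotientGroup.mk' _ z, ?_⟩
        show z • spt u hu0 hu = spt w hw0 hw
        rw [smul_spt, spt_eq_iff]
        exact ⟨1, by rw [one_smul, hgu]⟩
    rw [MulAction.index_stabilizer, horb, Set.ncard_univ]
    exact Nat.eq_of_mul_eq_mul_right (show 0 < Fintype.card F - 1 by omega) ((card_spt hQ).trans hN.symm)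

/-- The minimal index in the projective orthogonal group. -/
theorem pomega_min_index (hQ : IsNondegenerateQuadraticForm Q) (hq : 4 ≤ Fintype.card F)
    (hn : 8 ≤ Fintype.card ι) {N : ℕ} (hN : N * (Fintype.card F - 1) = (sphere Q (⊤ : Submodule F (ι → F)) 0).ncard - 1) :
    (∀ H : Subgroup (Cfsg.POmega F Q), H ≠ ⊤ → N ≤ H.index) ∧ ∃ H : Subgroup (Cfsg.POmega F Q), H.index = N :=
  pomega_min_index_of_bound hQ (by omega) (fun hH => index_bound hQ hq hn hH) hN

/-- The minimal index, given the bound for all subgroups of the Eichler group, in dimension at least eight. -/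
theorem pomega_min_index_of (hQ : IsNondegenerateQuadraticForm Q)
    (hbound : ∀ H : Subgroup ↥(eGroup Q), H ≠ ⊤ →
      (sphere Q (⊤ : Submodule F (ι → F)) 0).ncard - 1 ≤ H.index * (Fintype.card F - 1))
    (hn : 8 ≤ Fintype.card ι) {N : ℕ} (hN : N * (Fintype.card F - 1) = (sphere Q (⊤ : Submodule F (ι → F)) 0).ncard - 1) :
    (∀ H : Subgroup (Cfsg.POmega F Q), H ≠ ⊤ → N ≤ H.index) ∧ ∃ H : Subgroup (Cfsg.POmega F Q), H.index = N :=
  pomega_min_index_of_bound hQ (by omega) (fun {H} hH => hbound H hH) hN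

end CfsgLib.PGroup.OrthIndex
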