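import Cfsg.Agent.Lib.PGroup.OrthIndex.Basic
import Cfsg.Agent.Lib.Perm.Trans.QuadTransitive

/-!
Singular vectors inside the orthogonal of a vector, and values of the form on affine hyperplanes of
nondegenerate subspaces.
-/

set_option autoImplicit false
set_option linter.unusedSectionVars false

namespace CfsgLib.PGroup.OrthIndex

open scoped Matrix
open Matrix Cfsg.Geo CfsgLib.Perm.Asch CfsgLib.Perm.Trans CfsgLib.Perm.Trans.Quad

variable {ι : Type} [Fintype ι] [DecidableEq ι] {F : Type*} [Field F] [Fintype F]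
variable {Q : (ι → F) → F}

local notation "pol" => QuadraticMap.polar

variable (hQ : IsNondegenerateQuadraticForm Q)
include hQ

/-- The part of `P` orthogonal to `u`. -/
abbrev orthIn (P : Submodule F (ι → F)) (u : ι → F) : Submodule F (ι → F) :=
  P ⊓ LinearMap.ker (pfl hQ u)

theorem mem_orthIn {P : Submodule F (ι → F)} {u x : ι → F} :
    x ∈ orthIn hQ P u ↔ x ∈ P ∧ pol Q x u = 0 := Iff.rfl

theorem finrank_orthIn (P : Submodule F (ι → F)) (u : ι → F) :
    Module.finrank F P ≤ Module.finrank F (orthIn hQ P u) + 1 := finrank_inf_pfl hQ P u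

theorem pair_finrank_eq {P : Submodule F (ι → F)} {e f : ι → F} (he : e ∈ P) (hf : f ∈ P)
    (hQe : Q e = 0) (hQf : Q f = 0) (hef : pol Q e f = 1) :
    Module.finrank F (pairPerp hQ P e f) + 2 = Module.finrank F P := by
  refine le_antisymm ?_ (pair_finrank hQ he hf hQe hQf hef)
  have hli : LinearIndependent F ![e, f] := by
    refine LinearIndependent.pair_iff.2 fun s t hst => ?_
    have h1 : pol Q (s • e + t • f) f = 0 := by rw [hst, pzero_left hQ]
    have h2 : pol Q (s • e + t • f) e = 0 := by rw [hst, pzero_left hQ]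
    rw [padd_left hQ, psmul_left hQ, psmul_left hQ] at h1 h2
    rw [hef, pself hQ, hQf] at h1
    rw [pself hQ, hQe, pcomm f e, hef] at h2
    exact ⟨by linear_combination h1, by linear_combination h2⟩
  have hdisj : pairPerp hQ P e f ⊓ Submodule.span F {e, f} = ⊥ := by
    refine (Submodule.eq_bot_iff _).2 fun v ⟨hv, hv'⟩ => ?_
    obtain ⟨-, h1, h2⟩ := (mem_pairPerp hQ).1 hv
    obtain ⟨s, t, rfl⟩ := Submodule.mem_span_pair.1 hv'
    rw [padd_left hQ, psmul_left hQ, psmul_left hQ] at h1 h2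
    rw [pself hQ, hQe, pcomm f e, hef] at h1
    rw [hef, pself hQ, hQf] at h2
    rw [show t = 0 by linear_combination h1, show s = 0 by linear_combination h2]
    simp
  have hsum := Submodule.finrank_sup_add_finrank_inf_eq (pairPerp hQ P e f) (Submodule.span F {e, f})
  rw [hdisj, finrank_bot, add_zero] at hsum
  have hspan : Module.finrank F (Submodule.span F ({e, f} : Set (ι → F))) = 2 := by
    have := finrank_span_eq_card hli
    rwa [Fintype.card_fin, Matrix.range_cons, Matrix.range_cons, Matrix.range_empty, Set.union_empty,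
      Set.singleton_union] at this
  rw [hspan] at hsum
  rw [← hsum]
  refine Submodule.finrank_mono (sup_le (inf_le_left.trans inf_le_left) (Submodule.span_le.2 ?_))
  rintro v (rfl | rfl)
  exacts [he, hf]

/-- Totally singular subspaces of a nondegenerate space have at most half its dimension. -/
theorem two_mul_finrank_le {P K : Submodule F (ι → F)} (hP : NdOn Q P) (hKP : K ≤ P)
    (hK : ∀ x ∈ K, Q x = 0) : 2 * Module.finrank F K ≤ Module.finrank F P := by
  have horth : ∀ x ∈ K, ∀ y ∈ K, pol Q x y = 0 := fun x hx y hy => by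
    rw [QuadraticMap.polar, hK _ (K.add_mem hx hy), hK x hx, hK y hy]
    ring
  let K' : Submodule F P := K.comap P.subtype
  have hK' : Module.finrank F K' = Module.finrank F K :=
    (Submodule.comapSubtypeEquivOfLe hKP).finrank_eq
  let T : K →ₗ[F] Module.Dual F P :=
    { toFun := fun k => (pfl hQ (k : ι → F)).comp P.subtype
      map_add' := fun a b => LinearMap.ext fun x => padd_right hQ (x : ι → F) a b
      map_smul' := fun c a => LinearMap.ext fun x => psmul_right hQ c (x : ι → F) a }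
  have hinj : Function.Injective T := by
    refine (injective_iff_map_eq_zero T).2 fun k hk => ?_
    by_contra hne
    obtain ⟨y, hy, hky⟩ := (hP (k : ι → F) (hKP k.2) (fun h => hne (Subtype.ext h))).1
    exact hky (LinearMap.congr_fun hk ⟨y, hy⟩)
  have hrange : LinearMap.range T ≤ K'.dualAnnihilator := by
    rintro _ ⟨k, rfl⟩
    rw [Submodule.mem_dualAnnihilator]
    exact fun w hw => horth _ hw _ k.2
  have h1 := Submodule.finrank_mono hrange
  rw [LinearMap.finrank_range_of_inj hinj] at h1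
  have h2 := Subspace.finrank_add_finrank_dualAnnihilator_eq K'
  rw [hK'] at h2
  omega

/-- A vector of `P` orthogonal to the orthogonal of `u` in `P` is a multiple of `u`. -/
theorem mem_span_of_orth {P : Submodule F (ι → F)} (hP : NdOn Q P) {u a : ι → F} (hu : u ∈ P)
    (ha : a ∈ P) (h : ∀ y ∈ P, pol Q y u = 0 → pol Q y a = 0) :
    ∃ c : F, a = c • u := by
  rcases eq_or_ne u 0 with rfl | hu0
  · refine ⟨0, ?_⟩
    rw [zero_smul]
    by_contra hne
    obtain ⟨y, hy, hya⟩ := (hP a ha hne).1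
    exact hya (h y hy (pzero_right hQ y))
  obtain ⟨y, hy, hyu⟩ := (hP u hu hu0).1
  refine ⟨pol Q y a / pol Q y u, ?_⟩
  by_contra hne
  obtain ⟨z, hz, hza⟩ := (hP (a - (pol Q y a / pol Q y u) • u)
    (P.sub_mem ha (P.smul_mem _ hu)) (sub_ne_zero.2 hne)).1
  refine hza ?_
  have := h (z - (pol Q z u / pol Q y u) • y) (P.sub_mem hz (P.smul_mem _ hy))
    (by rw [psub_left hQ, psmul_left hQ, div_mul_cancel₀ _ hyu, sub_self])
  rw [psub_left hQ, psmul_left hQ] at this
  rw [psub_right hQ, psmul_right hQ]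
  linear_combination this

/-- A linear function vanishing on the singular vectors of a subspace with a singular vector outside
its radical vanishes on the subspace. -/
theorem map_eq_zero_of_singular {D : Submodule F (ι → F)} {s x : ι → F} (hs : s ∈ D) (hQs : Q s = 0)
    (hx : x ∈ D) (hsx : pol Q s x ≠ 0) (φ : (ι → F) →ₗ[F] F)
    (h : ∀ z ∈ D, Q z = 0 → φ z = 0) {y : ι → F} (hy : y ∈ D) : φ y = 0 := by
  have key : ∀ z ∈ D, pol Q s z ≠ 0 → φ z = 0 := fun z hz hsz => by
    have h1 := h (z - (Q z / pol Q s z) • s) (D.sub_mem hz (D.smul_mem _ hs)) (by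
      rw [qsub hQ, qsmul hQ, hQs, psmul_right hQ, pcomm z s, div_mul_cancel₀ _ hsz]
      ring)
    rwa [map_sub, map_smul, h s hs hQs, smul_zero, sub_zero] at h1
  by_cases hsy : pol Q s y = 0
  · have h1 := key (x + y) (D.add_mem hx hy) (by rwa [padd_right hQ, hsy, add_zero])
    rw [map_add, key x hx hsx, zero_add] at h1
    exact h1
  · exact key y hy hsy

/-- The orthogonal of a vector in a space of dimension at least five contains a hyperbolic pair. -/
theorem exists_pair_orth {P : Submodule F (ι → F)} (hP : NdOn Q P) (hd : 5 ≤ Module.finrank F P)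
    {u : ι → F} (hu : u ∈ P) : ∃ s s', s ∈ P ∧ s' ∈ P ∧ Q s = 0 ∧ Q s' = 0 ∧ pol Q s s' = 1 ∧
      pol Q s u = 0 ∧ pol Q s' u = 0 := by
  have hD : 4 ≤ Module.finrank F (orthIn hQ P u) := by
    have := finrank_orthIn hQ P u
    omega
  obtain ⟨C, hC⟩ := Submodule.exists_isCompl ((Submodule.span F {u} ⊓ orthIn hQ P u).comap
    (orthIn hQ P u).subtype)
  have hC3 : 3 ≤ Module.finrank F (C.map (orthIn hQ P u).subtype) := by
    rw [← (Submodule.equivMapOfInjective _ (orthIn hQ P u).injective_subtype C).finrank_eq]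
    have h1 := Submodule.finrank_add_eq_of_isCompl hC
    have h2 : Module.finrank F ((Submodule.span F {u} ⊓ orthIn hQ P u).comap
        (orthIn hQ P u).subtype) ≤ 1 := by
      rw [(Submodule.comapSubtypeEquivOfLe inf_le_right).finrank_eq]
      exact (Submodule.finrank_mono inf_le_left).trans (finrank_span_le_card ({u} : Set (ι → F)) |>.trans
        (by simp))
    omega
  obtain ⟨s, ⟨⟨s, hsD⟩, hsC, rfl⟩, hs0, hQs⟩ := exists_singular_mem hQ _ hC3
  change s ≠ 0 at hs0
  change Q s = 0 at hQs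
  obtain ⟨hsP, hsu⟩ := (mem_orthIn hQ).1 hsD
  obtain ⟨x, hx, hxu, hxs⟩ : ∃ x ∈ P, pol Q x u = 0 ∧ pol Q x s ≠ 0 := by
    by_contra hcon
    simp only [not_exists, not_and, not_not, ne_eq] at hcon
    obtain ⟨c, hc⟩ := mem_span_of_orth hQ hP hu hsP hcon
    have hmem : (⟨s, hsD⟩ : orthIn hQ P u) ∈ (Submodule.span F {u} ⊓ orthIn hQ P u).comap
        (orthIn hQ P u).subtype := by
      refine Submodule.mem_comap.2 ⟨?_, hsD⟩
      exact Submodule.mem_span_singleton.2 ⟨c, hc.symm⟩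
    have h0 := (Submodule.disjoint_def.1 hC.disjoint) _ hmem hsC
    exact hs0 (congrArg Subtype.val h0)
  have hsx : pol Q s x ≠ 0 := by rwa [pcomm]
  refine ⟨s, (pol Q s x)⁻¹ • x - (Q ((pol Q s x)⁻¹ • x)) • s, hsP,
    P.sub_mem (P.smul_mem _ hx) (P.smul_mem _ hsP), hQs, ?_, ?_, hsu, ?_⟩
  · rw [qsub hQ, qsmul hQ _ s, hQs, psmul_right hQ, psmul_left hQ, pcomm x s, inv_mul_cancel₀ hsx]
    ring
  · rw [psub_right hQ, psmul_right hQ, psmul_right hQ, pol_self_singular hQ hQs,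
      inv_mul_cancel₀ hsx]
    ring
  · rw [psub_left hQ, psmul_left hQ, psmul_left hQ, hxu, hsu]
    ring

omit hQ in
/-- The field has at least four elements, or three and the subspace has no totally singular half. -/
def Flexible (Q : (ι → F) → F) (P : Submodule F (ι → F)) : Prop :=
  4 ≤ Fintype.card F ∨ (3 ≤ Fintype.card F ∧ 6 ≤ Module.finrank F P ∧
    ∀ K ≤ P, (∀ x ∈ K, Q x = 0) → 2 * Module.finrank F K < Module.finrank F P)

/-- A singular vector orthogonal to `u` outside the kernels of two linear functions. -/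
theorem exists_two_nonzero' {P : Submodule F (ι → F)} (hflex : Flexible Q P) (hP : NdOn Q P)
    (hd : 5 ≤ Module.finrank F P) {u : ι → F} (hu : u ∈ P) (φ₁ φ₂ : (ι → F) →ₗ[F] F)
    (h1 : ∃ x ∈ P, pol Q x u = 0 ∧ φ₁ x ≠ 0) (h2 : ∃ x ∈ P, pol Q x u = 0 ∧ φ₂ x ≠ 0) :
    ∃ s ∈ P, Q s = 0 ∧ pol Q s u = 0 ∧ φ₁ s ≠ 0 ∧ φ₂ s ≠ 0 := by
  classical
  obtain ⟨s₀, s₀', hs₀, hs₀', hQs₀, hQs₀', hss, hsu, hsu'⟩ := exists_pair_orth hQ hP hd hu
  have find : ∀ φ : (ι → F) →ₗ[F] F, (∃ x ∈ P, pol Q x u = 0 ∧ φ x ≠ 0) →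
      ∃ s ∈ P, Q s = 0 ∧ pol Q s u = 0 ∧ φ s ≠ 0 := fun φ hφ => by
    by_contra hcon
    simp only [not_exists, not_and, not_not, ne_eq] at hcon
    obtain ⟨x, hx, hxu, hφx⟩ := hφ
    exact hφx (map_eq_zero_of_singular hQ (D := orthIn hQ P u) ((mem_orthIn hQ).2 ⟨hs₀, hsu⟩) hQs₀
      ((mem_orthIn hQ).2 ⟨hs₀', hsu'⟩) (by rw [hss]; exact one_ne_zero) φ
      (fun z hz hQz => hcon z hz.1 hQz hz.2) ((mem_orthIn hQ).2 ⟨hx, hxu⟩))
  obtain ⟨s, hs, hQs, hsu1, hφs⟩ := find φ₁ h1
  obtain ⟨r, hr, hQr, hru, hφr⟩ := find φ₂ h2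
  by_cases ha : φ₂ s ≠ 0
  · exact ⟨s, hs, hQs, hsu1, hφs, ha⟩
  by_cases hb : φ₁ r ≠ 0
  · exact ⟨r, hr, hQr, hru, hb, hφr⟩
  simp only [ne_eq, not_not] at ha hb
  by_cases hβ : pol Q s r = 0
  · refine ⟨s + r, P.add_mem hs hr, ?_, ?_, ?_, ?_⟩
    · rw [qadd hQ, hQs, hQr, hβ]; ring
    · rw [padd_left hQ, hsu1, hru, add_zero]
    · rwa [map_add, hb, add_zero]
    · rwa [map_add, ha, zero_add]
  set β := pol Q s r with hβdef
  -- a nonsingular vector orthogonal to `s`, `r` and `u`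
  obtain ⟨y, hy, hys, hyr, hyu, hQy, hor⟩ : ∃ y ∈ P, pol Q y s = 0 ∧ pol Q y r = 0 ∧ pol Q y u = 0 ∧
      Q y ≠ 0 ∧ (4 ≤ Fintype.card F ∨ (3 ≤ Fintype.card F ∧ φ₁ y = 0)) := by
    by_contra hcon
    simp only [not_exists, not_and, ne_eq] at hcon
    have hr' : Q (β⁻¹ • r) = 0 := by rw [qsmul hQ, hQr, mul_zero]
    have hsr : pol Q s (β⁻¹ • r) = 1 := by rw [psmul_right hQ, inv_mul_cancel₀ hβ]
    set P0 := pairPerp hQ P s (β⁻¹ • r) with hP0
    have hP0nd := pair_nd hQ hs (P.smul_mem _ hr) hQs hr' hsr hP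
    have hP0d := pair_finrank hQ hs (P.smul_mem _ hr) hQs hr' hsr
    have hz0 : ∀ z ∈ orthIn hQ P0 u, (4 ≤ Fintype.card F ∨ (3 ≤ Fintype.card F ∧ φ₁ z = 0)) → Q z = 0 :=
      fun z hz hor => by
        obtain ⟨hz1, hzu⟩ := (mem_orthIn hQ).1 hz
        obtain ⟨hzP, hzs, hzr⟩ := (mem_pairPerp hQ).1 hz1
        rw [psmul_right hQ, mul_eq_zero] at hzr
        by_contra hQz
        exact hcon z hzP hzs (hzr.resolve_left (inv_ne_zero hβ)) hzu hQz hor
    have hu1 := finrank_orthIn hQ P0 u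
    rcases hflex with hq4 | ⟨hq3, h6, hlag⟩
    · have hle := two_mul_finrank_le hQ hP0nd (K := orthIn hQ P0 u) inf_le_left fun z hz => hz0 z hz (Or.inl hq4)
      rw [← hP0] at hP0d hle
      omega
    set K := orthIn hQ P0 u ⊓ LinearMap.ker φ₁ with hK
    have hK1 : Module.finrank F (orthIn hQ P0 u) ≤ Module.finrank F K + 1 := by
      have h1 := LinearMap.finrank_range_add_finrank_ker (φ₁.comp (orthIn hQ P0 u).subtype)
      have h2 : Module.finrank F (LinearMap.range (φ₁.comp (orthIn hQ P0 u).subtype)) ≤ 1 :=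
        (Submodule.finrank_le _).trans (by rw [Module.finrank_self])
      have h3 : Module.finrank F (LinearMap.ker (φ₁.comp (orthIn hQ P0 u).subtype)) = Module.finrank F K := by
        rw [LinearMap.ker_comp, hK, ← Submodule.map_comap_subtype]
        exact ((Submodule.equivMapOfInjective _ (orthIn hQ P0 u).injective_subtype _).finrank_eq)
      omega
    have hs0 : s ≠ 0 := fun h => hφs (by rw [h, map_zero])
    have hKP0 : ∀ z ∈ K, z ∈ P0 := fun z hz => hz.1.1
    have hdisj : K ⊓ Submodule.span F {s} = ⊥ := (Submodule.eq_bot_iff _).2 fun v ⟨hv, hv'⟩ => by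
      obtain ⟨c, rfl⟩ := Submodule.mem_span_singleton.1 hv'
      have := ((mem_pairPerp hQ).1 (hKP0 _ hv)).2.2
      rw [psmul_left hQ, hsr, mul_one] at this
      rw [this, zero_smul]
    have h4 := Submodule.finrank_sup_add_finrank_inf_eq K (Submodule.span F {s})
    rw [hdisj, finrank_bot, add_zero, finrank_span_singleton hs0] at h4
    have h5 := hlag (K ⊔ Submodule.span F {s})
      (sup_le (fun z hz => ((mem_pairPerp hQ).1 (hKP0 z hz)).1) ((Submodule.span_singleton_le_iff_mem _ _).2 hs))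
      fun z hz => by
        obtain ⟨z, hz', w, hw, rfl⟩ := Submodule.mem_sup.1 hz
        obtain ⟨c, rfl⟩ := Submodule.mem_span_singleton.1 hw
        rw [qadd hQ, qsmul hQ, hQs, psmul_right hQ, hz0 z hz'.1 (Or.inr ⟨hq3, LinearMap.mem_ker.1 hz'.2⟩),
          ((mem_pairPerp hQ).1 (hKP0 z hz')).2.1]
        ring
    rw [← hP0] at hP0d
    omega
  -- the singular vectors `s + t y + k r`
  let k : F → F := fun t => -(t ^ 2 * Q y) / β
  have hk : ∀ t : F, φ₁ (s + t • y + k t • r) = φ₁ s + t * φ₁ y ∧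
      φ₂ (s + t • y + k t • r) = t * (φ₂ y - t * (Q y * φ₂ r / β)) := fun t => by
    simp only [k, map_add, map_smul, ha, hb, smul_eq_mul]
    constructor <;> field_simp <;> ring
  obtain ⟨t, ht0, ht1, ht2⟩ : ∃ t : F, t ≠ 0 ∧ (φ₁ y ≠ 0 → t ≠ -φ₁ s / φ₁ y) ∧
      t ≠ φ₂ y / (Q y * φ₂ r / β) := by
    rcases hor with h4 | ⟨h3, hy1⟩
    · obtain ⟨t, ht⟩ : ∃ t : F, t ∉ ({0, -φ₁ s / φ₁ y, φ₂ y / (Q y * φ₂ r / β)} : Finset F) := by
        refine not_forall.1 fun hall => ?_
        have h3 := (Finset.card_le_card fun (t : F) (_ : t ∈ Finset.univ) => hall t).trans Finset.card_le_three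
        rw [Finset.card_univ] at h3
        omega
      simp only [Finset.mem_insert, Finset.mem_singleton, not_or] at ht
      exact ⟨t, ht.1, fun _ => ht.2.1, ht.2.2⟩
    · obtain ⟨t, ht⟩ : ∃ t : F, t ∉ ({0, φ₂ y / (Q y * φ₂ r / β)} : Finset F) := by
        refine not_forall.1 fun hall => ?_
        have h2 := (Finset.card_le_card fun (t : F) (_ : t ∈ Finset.univ) => hall t).trans Finset.card_le_two
        rw [Finset.card_univ] at h2
        omega
      simp only [Finset.mem_insert, Finset.mem_singleton, not_or] at ht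
      exact ⟨t, ht.1, fun h => absurd hy1 h, ht.2⟩
  refine ⟨s + t • y + k t • r, P.add_mem (P.add_mem hs (P.smul_mem _ hy)) (P.smul_mem _ hr), ?_, ?_, ?_, ?_⟩
  · simp only [k]
    rw [qadd hQ, qadd hQ, qsmul hQ, qsmul hQ, padd_left hQ, psmul_left hQ, psmul_right hQ, psmul_right hQ,
      psmul_right hQ, pcomm s y, hys, hyr, hQs, hQr, ← hβdef]
    field_simp
    ring
  · rw [padd_left hQ, padd_left hQ, psmul_left hQ, psmul_left hQ, hsu1, hyu, hru]
    ring
  · rw [(hk t).1]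
    intro h
    rcases eq_or_ne (φ₁ y) 0 with hy1 | hy1
    · rw [hy1, mul_zero, add_zero] at h; exact hφs h
    · exact ht1 hy1 (by rw [eq_div_iff hy1]; linear_combination h)
  · rw [(hk t).2]
    have hc : Q y * φ₂ r / β ≠ 0 := div_ne_zero (mul_ne_zero hQy hφr) hβ
    refine mul_ne_zero ht0 fun h => ht2 ?_
    rw [eq_div_iff hc]
    linear_combination -h

theorem exists_two_nonzero (hq : 4 ≤ Fintype.card F) {P : Submodule F (ι → F)} (hP : NdOn Q P)
    (hd : 5 ≤ Module.finrank F P) {u : ι → F} (hu : u ∈ P) (φ₁ φ₂ : (ι → F) →ₗ[F] F)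
    (h1 : ∃ x ∈ P, pol Q x u = 0 ∧ φ₁ x ≠ 0) (h2 : ∃ x ∈ P, pol Q x u = 0 ∧ φ₂ x ≠ 0) :
    ∃ s ∈ P, Q s = 0 ∧ pol Q s u = 0 ∧ φ₁ s ≠ 0 ∧ φ₂ s ≠ 0 :=
  exists_two_nonzero' hQ (Or.inl hq) hP hd hu φ₁ φ₂ h1 h2

/-- The form takes every value on an affine hyperplane of a nondegenerate subspace of dimension at
least four, unless the hyperplane is empty. -/
theorem exists_affine_value {P : Submodule F (ι → F)} (hP : NdOn Q P) (hd : 4 ≤ Module.finrank F P)
    {u : ι → F} (hu : u ∈ P) (β c : F) (hβ : u = 0 → β = 0) :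
    ∃ y ∈ P, pol Q y u = β ∧ Q y = c := by
  rcases eq_or_ne u 0 with rfl | hu0
  · obtain ⟨y, hy, hQy⟩ := exists_qvalue hQ hP (by omega) c
    exact ⟨y, hy, by rw [pzero_right hQ, hβ rfl], hQy⟩
  obtain ⟨x₀, hx₀, hx₀u⟩ := (hP u hu hu0).1
  obtain ⟨x, hx, hxu⟩ : ∃ x ∈ P, pol Q x u = 1 :=
    ⟨(pol Q x₀ u)⁻¹ • x₀, P.smul_mem _ hx₀, by rw [psmul_left hQ, inv_mul_cancel₀ hx₀u]⟩
  by_cases hdet : 4 * Q u * Q x = 1
  · -- `u` is nonsingular and the characteristic is odd
    have h2 : (2 : F) ≠ 0 := fun h => by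
      rw [show (4 : F) = 2 * 2 by norm_num, h] at hdet; simp at hdet
    have hQu : Q u ≠ 0 := fun h => by rw [h] at hdet; simp at hdet
    have huu : pol Q u u ≠ 0 := by rw [pself hQ]; exact mul_ne_zero h2 hQu
    have hnd : NdOn Q (orthIn hQ P u) := by
      intro a ha ha0
      obtain ⟨haP, hau⟩ := (mem_orthIn hQ).1 ha
      obtain ⟨z, hz, hza⟩ := (hP a haP ha0).1
      have h1 : pol Q (z - (pol Q z u / pol Q u u) • u) a = pol Q z a := by
        rw [psub_left hQ, psmul_left hQ, pcomm u a, hau, mul_zero, sub_zero]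
      have hmem : z - (pol Q z u / pol Q u u) • u ∈ orthIn hQ P u :=
        (mem_orthIn hQ).2 ⟨P.sub_mem hz (P.smul_mem _ hu), by
          rw [psub_left hQ, psmul_left hQ, div_mul_cancel₀ _ huu, sub_self]⟩
      exact ⟨⟨_, hmem, by rwa [h1]⟩, ⟨_, hmem, by rwa [pcomm, h1]⟩⟩
    obtain ⟨k, hk, hQk⟩ := exists_qvalue hQ hnd (by have := finrank_orthIn hQ P u; omega)
      (c - (β / pol Q u u) ^ 2 * Q u)
    obtain ⟨hkP, hku⟩ := (mem_orthIn hQ).1 hk
    refine ⟨(β / pol Q u u) • u + k, P.add_mem (P.smul_mem _ hu) hkP, ?_, ?_⟩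
    · rw [padd_left hQ, psmul_left hQ, hku, div_mul_cancel₀ _ huu, add_zero]
    · rw [qadd hQ, qsmul hQ, psmul_left hQ, pcomm u k, hku, hQk]; ring
  · -- the span of `u` and `x` is nondegenerate
    set K := orthIn hQ (orthIn hQ P u) x with hK
    have hdet' : 4 * Q u * Q x - 1 ≠ 0 := sub_ne_zero.2 hdet
    have hnd : NdOn Q K := by
      intro a ha ha0
      obtain ⟨ha', hax⟩ := (mem_orthIn hQ).1 ha
      obtain ⟨haP, hau⟩ := (mem_orthIn hQ).1 ha'
      obtain ⟨z, hz, hza⟩ := (hP a haP ha0).1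
      obtain ⟨s, t, hs, ht⟩ : ∃ s t : F, s * (2 * Q u) + t * 1 = pol Q z u ∧
          s * 1 + t * (2 * Q x) = pol Q z x :=
        ⟨(pol Q z u * (2 * Q x) - pol Q z x) / (4 * Q u * Q x - 1),
          (pol Q z x * (2 * Q u) - pol Q z u) / (4 * Q u * Q x - 1),
          by rw [div_mul_eq_mul_div, div_mul_eq_mul_div, ← add_div, div_eq_iff hdet']; ring,
          by rw [div_mul_eq_mul_div, div_mul_eq_mul_div, ← add_div, div_eq_iff hdet']; ring⟩
      have h1 : pol Q (z - (s • u + t • x)) a = pol Q z a := by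
        rw [psub_left hQ, padd_left hQ, psmul_left hQ, psmul_left hQ, pcomm u a, hau, pcomm x a, hax]
        ring
      have hmem : z - (s • u + t • x) ∈ K :=
        (mem_orthIn hQ).2 ⟨(mem_orthIn hQ).2 ⟨P.sub_mem hz (P.add_mem (P.smul_mem _ hu) (P.smul_mem _ hx)), by
            rw [psub_left hQ, padd_left hQ, psmul_left hQ, psmul_left hQ, pself hQ, hxu]
            linear_combination -hs⟩, by
          rw [psub_left hQ, padd_left hQ, psmul_left hQ, psmul_left hQ, pself hQ, pcomm u x, hxu]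
          linear_combination -ht⟩
      exact ⟨⟨_, hmem, by rwa [h1]⟩, ⟨_, hmem, by rwa [pcomm, h1]⟩⟩
    have hKd : 2 ≤ Module.finrank F K := by
      have h1 := finrank_orthIn hQ P u
      have h2 := finrank_orthIn hQ (orthIn hQ P u) x
      rw [← hK] at h2
      omega
    obtain ⟨k, hk, hQk⟩ := exists_value_two hQ hnd hKd (c - β ^ 2 * Q x)
    obtain ⟨hk', hkx⟩ := (mem_orthIn hQ).1 hk
    obtain ⟨hkP, hku⟩ := (mem_orthIn hQ).1 hk'
    refine ⟨β • x + k, P.add_mem (P.smul_mem _ hx) hkP, ?_, ?_⟩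
    · rw [padd_left hQ, psmul_left hQ, hxu, hku]; ring
    · rw [qadd hQ, qsmul hQ, psmul_left hQ, pcomm x k, hkx, hQk]; ring

end CfsgLib.PGroup.OrthIndex
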