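import Cfsg.Agent.Lib.PGroup.OrthIndex.Closure

/-!
Counting when stars are maximal totally singular subspaces in dimension eight.
-/

set_option autoImplicit false
set_option linter.unusedSectionVars false

namespace CfsgLib.PGroup.OrthIndex

open scoped Matrix
open Matrix Cfsg.Geo CfsgLib.Perm.Asch CfsgLib.Perm.Trans CfsgLib.Perm.Trans.Quad

variable {ι : Type} [Fintype ι] [DecidableEq ι] {F : Type*} [Field F] [Fintype F]
variable {Q : (ι → F) → F}

local notation "pol" => QuadraticMap.polar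

/-- A group element as a linear map. -/
def actLin (g : ↥(eGroup Q)) : (ι → F) →ₗ[F] ι → F where
  toFun := act g
  map_add' := act_add g
  map_smul' := act_smul g

variable (hQ : IsNondegenerateQuadraticForm Q)
include hQ
variable {X : Type*} [MulAction ↥(eGroup Q) X]

theorem Ts.map {x : X} {z : ι → F} (g : ↥(eGroup Q)) (hz : Q z = 0) (h : Ts hQ x z) :
    Ts hQ (g • x) (act g z) := by
  obtain ⟨M, hM4, hM, hzM, hiff⟩ := h
  have hinj : Function.Injective (actLin g) := act_injective g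
  refine ⟨M.map (actLin g), ?_, ?_, ⟨z, hzM, rfl⟩, fun a => ⟨fun ha => ?_, ?_⟩⟩
  · rw [← (Submodule.equivMapOfInjective (actLin g) hinj M).finrank_eq, hM4]
  · rintro _ ⟨v, hv, rfl⟩
    show Q (act g v) = 0
    rw [Q_act (Q := Q), hM v hv]
  · refine ⟨act g⁻¹ a, (hiff _).1 ?_, act_act_inv g a⟩
    have := ha.map g⁻¹ (by rw [Q_act (Q := Q), hz])
    rwa [inv_smul_smul, act_inv_act] at this
  · rintro ⟨v, hv, rfl⟩
    exact ((hiff v).2 hv).map g hz

namespace Frame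

variable (Φ : Frame Q)

theorem leviMap_smul (g : ↥(eGroup Q)) (c k : F) (u : ι → F) :
    Φ.leviMap g c (k • u) = k • Φ.leviMap g c u := by
  simp only [leviMap, proj, act_smul, psmul_left hQ]
  module

/-- The dual at a vector with a totally singular star. -/
theorem dual_of_ts (hP : Φ.P = ⊤) (hn : Fintype.card ι = 8) {x : X} (h : Ts hQ x Φ.e) :
    ∃ M : Submodule F (ι → F), M ≤ Φ.W hQ ∧ (∀ v ∈ M, Q v = 0) ∧ Module.finrank F M = 3 ∧
      Φ.dual hQ x = M := by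
  obtain ⟨N, hN4, hN, heN, hiff⟩ := h
  have hW := Φ.W_finrank hQ
  rw [hP, finrank_top, Module.finrank_fintype_fun_eq_card, hn] at hW
  set M := orthIn hQ N Φ.f with hM
  have hMW : M ≤ Φ.W hQ := fun m hm => (mem_pairPerp hQ).2
    ⟨by rw [hP]; exact Submodule.mem_top, pol_eq_zero_of_ts hQ hN hm.1 heN, hm.2⟩
  have hM3 : Module.finrank F M = 3 := by
    have h1 := finrank_orthIn hQ N Φ.f
    have h2 := two_mul_finrank_le hQ (Φ.W_nd hQ) hMW fun v hv => hN v hv.1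
    rw [← hM] at h1
    omega
  refine ⟨M, hMW, fun v hv => hN v hv.1, hM3, Set.ext fun u => ⟨fun hu => ?_, fun hu => ⟨hMW hu, fun a ha hfix => ?_⟩⟩⟩
  · have horth : ∀ m ∈ M, pol Q m u = 0 := fun m hm => psi_separates fun c => by
      rw [mul_comm, ← psmul_left hQ]
      exact hu.2 _ (hMW (M.smul_mem c hm)) ((hiff _).2 (M.smul_mem c hm).1).2
    have hle := finrank_orth_le hQ (Φ.W_nd hQ) hMW (L := M ⊔ Submodule.span F {u})
      (sup_le hMW ((Submodule.span_singleton_le_iff_mem _ _).2 hu.1)) fun v hv m hm => by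
        obtain ⟨m', hm', w, hw, rfl⟩ := Submodule.mem_sup.1 hv
        obtain ⟨k, rfl⟩ := Submodule.mem_span_singleton.1 hw
        rw [padd_left hQ, pol_eq_zero_of_ts hQ hN hm'.1 hm.1, psmul_left hQ, pcomm u m, horth m hm]
        ring
    have heq : M = M ⊔ Submodule.span F {u} := Submodule.eq_of_le_of_finrank_le le_sup_left (by omega)
    show u ∈ M
    rw [heq]
    exact Submodule.mem_sup_right (Submodule.mem_span_singleton_self _)
  · rw [pol_eq_zero_of_ts hQ hN ((hiff a).1 ⟨Φ.pol_e hQ ha, hfix⟩) hu.1, AddChar.map_zero_eq_one]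

theorem dual_of_ts_ncard (hP : Φ.P = ⊤) (hn : Fintype.card ι = 8) {x : X} (h : Ts hQ x Φ.e) :
    (Φ.dual hQ x).ncard = Fintype.card F ^ 3 := by
  obtain ⟨M, -, -, hM3, hU⟩ := Φ.dual_of_ts hQ hP hn h
  rw [hU, ← hM3, ← natCard_submodule hQ, ← Nat.card_coe_set_eq]
  rfl

theorem pairs_card {M : Submodule F (ι → F)} (hM : Module.finrank F M = 3) :
    {p : (ι → F) × (ι → F) | p.1 ∈ M ∧ p.1 ≠ 0 ∧ p.2 ∈ M ∧ ∀ k : F, p.2 ≠ k • p.1}.ncard ≤
      (Fintype.card F ^ 3 - 1) * (Fintype.card F ^ 3 - Fintype.card F) := by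
  classical
  set T := {p : (ι → F) × (ι → F) | p.1 ∈ M ∧ p.1 ≠ 0 ∧ p.2 ∈ M ∧ ∀ k : F, p.2 ≠ k • p.1}
  haveI : Fintype ↥((M : Set (ι → F)) \ {0}) := Fintype.ofFinite _
  let emb : T → Σ a : ↥((M : Set (ι → F)) \ {0}),
      ↥((M : Set (ι → F)) \ Set.range fun k : F => k • a.1) :=
    fun p => ⟨⟨p.1.1, p.2.1, p.2.2.1⟩, p.1.2, p.2.2.2.1, fun ⟨k, hk⟩ => p.2.2.2.2 k hk.symm⟩
  have hinj : Function.Injective emb := fun p r h => by
    apply Subtype.ext
    exact congrArg (fun s => ((s.1.1, s.2.1) : (ι → F) × (ι → F))) h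
  have h1 := Nat.card_le_card_of_injective emb hinj
  rw [Nat.card_coe_set_eq, Nat.card_sigma] at h1
  refine h1.trans ?_
  have hcard : (M : Set (ι → F)).ncard = Fintype.card F ^ 3 := by
    rw [← hM, ← natCard_submodule hQ, ← Nat.card_coe_set_eq]
    rfl
  have hs : ∀ a : ↥((M : Set (ι → F)) \ {0}),
      Nat.card ↥((M : Set (ι → F)) \ Set.range fun k : F => k • a.1) =
        Fintype.card F ^ 3 - Fintype.card F := fun a => by
    have hsub : Set.range (fun k : F => k • a.1) ⊆ (M : Set (ι → F)) := by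
      rintro _ ⟨k, rfl⟩
      exact M.smul_mem k a.2.1
    rw [Nat.card_coe_set_eq, Set.ncard_sdiff hsub, hcard,
      ← Nat.card_coe_set_eq, Nat.card_range_of_injective (smul_left_injective F (show a.1 ≠ 0 from a.2.2)),
      Nat.card_eq_fintype_card]
  rw [Finset.sum_congr rfl fun a _ => hs a, Finset.sum_const, Finset.card_univ, smul_eq_mul,
    ← Nat.card_eq_fintype_card, Nat.card_coe_set_eq,
    Set.ncard_sdiff_singleton_of_mem (show (0 : ι → F) ∈ (M : Set (ι → F)) from M.zero_mem), hcard]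

/-- There are at least as many duals as totally singular planes of one family. -/
theorem duals_big (hq : 4 ≤ Fintype.card F) (hP : Φ.P = ⊤) (hn : Fintype.card ι = 8) {x : X}
    (h : Ts hQ x Φ.e) :
    (Fintype.card F + 1) * (Fintype.card F ^ 2 + 1) ≤ (Φ.duals hQ x).ncard := by
  classical
  obtain ⟨M, hMW, hMts, hM3, hU⟩ := Φ.dual_of_ts hQ hP hn h
  have hW := Φ.W_finrank hQ
  rw [hP, finrank_top, Module.finrank_fintype_fun_eq_card, hn] at hW
  have hW6 : Module.finrank F (Φ.W hQ) = 6 := by omega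
  obtain ⟨a, haM, ha0⟩ := Submodule.exists_mem_ne_zero_of_ne_bot (p := M) (fun hb => by
    rw [hb, finrank_bot] at hM3; omega)
  obtain ⟨b, hbM, hba⟩ := SetLike.not_le_iff_exists.1 (show ¬ M ≤ Submodule.span F {a} from fun hb => by
    have := Submodule.finrank_mono hb
    rw [finrank_span_singleton ha0] at this
    omega)
  have hbn : ∀ k : F, b ≠ k • a := fun k hk => hba (Submodule.mem_span_singleton.2 ⟨k, hk.symm⟩)
  set T := {p : (ι → F) × (ι → F) | p.1 ∈ sphere Q (Φ.W hQ) 0 \ {0} ∧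
    p.2 ∈ {v : ι → F | v ∈ Φ.W hQ ∧ Q v = 0 ∧ pol Q v p.1 = 0 ∧ ∀ k : F, v ≠ k • p.1}} with hT
  set mem : (ι → F) × (ι → F) → Set (ι → F) → Prop :=
    fun p U => p.1 ∈ U ∧ p.1 ≠ 0 ∧ p.2 ∈ U ∧ ∀ k : F, p.2 ≠ k • p.1 with hmem
  have hcov : ∀ p ∈ T, ∃ U ∈ Φ.duals hQ x, mem p U := by
    rintro ⟨u', v'⟩ ⟨⟨⟨hu', hQu'⟩, hu'0⟩, hv', hQv', hpol, hvn⟩
    obtain ⟨g₁, hg₁, -, hg₁a⟩ := move hQ hq (Φ.W_nd hQ) (by omega) (Φ.W hQ).zero_mem (hMW haM) hu'
      (fun k => by rwa [smul_zero]) (fun k => by rwa [smul_zero]) (by rw [hMts a haM, hQu'])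
      (by rw [pzero_left hQ, pzero_left hQ])
    obtain ⟨g₂, hg₂, hg₂u, hg₂b⟩ := move hQ hq (Φ.W_nd hQ) (by omega) hu'
      (inner_maps hQ hg₁ (hMW hbM)) hv'
      (fun k hk => hbn k (act_injective g₁ (by rw [hk, act_smul, hg₁a]))) hvn
      (by rw [Q_act (Q := Q), hMts b hbM, hQv'])
      (by
        conv_lhs => rw [← hg₁a]
        rw [pol_act, pol_eq_zero_of_ts hQ hMts haM hbM, pcomm u' v', hpol])
    have hL := Φ.mem_inner_levi hQ (mul_mem hg₂ hg₁)
    have hlm : ∀ w w' : ι → F, w' ∈ Φ.W hQ → act (g₂ * g₁) w = w' → Φ.leviMap (g₂ * g₁) 1 w = w' :=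
      fun w w' hw' hww => by
        rw [Φ.leviMap_of_mem hQ (by rw [hww]; exact hw'), hww, inv_one, one_smul]
    refine ⟨_, ⟨_, _, hL, rfl⟩, ?_, hu'0, ?_, hvn⟩
    · rw [hL.dual x, hU]
      exact ⟨a, haM, hlm _ _ hu' (by rw [act_mul, hg₁a, hg₂u])⟩
    · rw [hL.dual x, hU]
      exact ⟨b, hbM, hlm _ _ hv' (by rw [act_mul, hg₂b])⟩
  have hB : ∀ U ∈ Φ.duals hQ x, {p | mem p U}.ncard ≤
      (Fintype.card F ^ 3 - 1) * (Fintype.card F ^ 3 - Fintype.card F) := by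
    rintro U ⟨g, c, hg, rfl⟩
    let L : (ι → F) →ₗ[F] ι → F :=
      { toFun := Φ.leviMap g c
        map_add' := fun p r => by simp only [leviMap, proj, act_add, padd_left hQ]; module
        map_smul' := fun k p => Φ.leviMap_smul hQ g c k p }
    have hinjL : ∀ p ∈ M, ∀ r ∈ M, L p = L r → p = r := fun p hp r hr hpr => hg.map_injOn (hMW hp) (hMW hr) hpr
    have hker : M ⊓ LinearMap.ker L = ⊥ := (Submodule.eq_bot_iff _).2 fun v ⟨hv, hv'⟩ =>
      hinjL v hv 0 M.zero_mem (by rw [map_zero]; exact hv')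
    have hfr : Module.finrank F (M.map L) = 3 := by
      have h1 := LinearMap.finrank_range_add_finrank_ker (L.comp M.subtype)
      have h2 : LinearMap.ker (L.comp M.subtype) = ⊥ := LinearMap.ker_eq_bot'.2 fun v hv =>
        Subtype.ext (hinjL v.1 v.2 0 M.zero_mem (by rw [map_zero]; exact hv))
      rw [h2, finrank_bot, add_zero, LinearMap.range_comp, Submodule.range_subtype, hM3] at h1
      exact h1
    refine le_trans (Set.ncard_le_ncard ?_ (Set.toFinite _)) (pairs_card hQ hfr)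
    intro p hp
    obtain ⟨h1, h2, h3, h4⟩ := hp
    rw [hg.dual x, hU] at h1 h3
    exact ⟨h1, h2, h3, h4⟩
  have hTC : T.ncard ≤ (Φ.duals hQ x).ncard *
      ((Fintype.card F ^ 3 - 1) * (Fintype.card F ^ 3 - Fintype.card F)) := by
    have hfin : (Φ.duals hQ x).Finite := Set.toFinite _
    haveI : Fintype ((ι → F) × (ι → F)) := Fintype.ofFinite _
    have hsub : T.toFinset ⊆ hfin.toFinset.biUnion fun U => {p | mem p U}.toFinset := fun t ht => by
      obtain ⟨U, hU, htU⟩ := hcov t (Set.mem_toFinset.1 ht)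
      exact Finset.mem_biUnion.2 ⟨U, hfin.mem_toFinset.2 hU, Set.mem_toFinset.2 htU⟩
    have h2 := Finset.card_le_card hsub
    rw [← Set.ncard_eq_toFinset_card'] at h2
    refine h2.trans (Finset.card_biUnion_le.trans ?_)
    rw [Set.ncard_eq_toFinset_card (Φ.duals hQ x) hfin, ← smul_eq_mul]
    exact Finset.sum_le_card_nsmul _ _ _ fun U hU => by
      rw [← Set.ncard_eq_toFinset_card']
      exact hB U (hfin.mem_toFinset.1 hU)
  -- the lower bound for `T`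
  set q := Fintype.card F with hqdef
  have hS := sphere_lower_ts_six hQ (Φ.W_nd hQ) hW6 hMW hMts (by omega)
  rw [← hqdef] at hS
  have hTlow : ((sphere Q (Φ.W hQ) 0).ncard - 1) * (q * (q ^ 3 + q ^ 2 - q - 1)) ≤ T.ncard := by
    haveI : Fintype ↥(sphere Q (Φ.W hQ) 0 \ {0}) := Fintype.ofFinite _
    let emb : (Σ a : ↥(sphere Q (Φ.W hQ) 0 \ {0}),
        ↥({v : ι → F | v ∈ Φ.W hQ ∧ Q v = 0 ∧ pol Q v a.1 = 0 ∧ ∀ k : F, v ≠ k • a.1})) → T :=
      fun s => ⟨(s.1.1, s.2.1), s.1.2, s.2.2⟩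
    have hinj : Function.Injective emb := by
      rintro ⟨a, v⟩ ⟨a', v'⟩ h
      obtain ⟨ha, hv⟩ := Prod.mk.inj (congrArg Subtype.val h :)
      obtain rfl : a = a' := Subtype.ext ha
      obtain rfl : v = v' := Subtype.ext hv
      rfl
    have h1 := Nat.card_le_card_of_injective emb hinj
    rw [Nat.card_sigma, Nat.card_coe_set_eq T] at h1
    refine le_trans ?_ h1
    rw [← Set.ncard_sdiff_singleton_of_mem
      (show (0 : ι → F) ∈ sphere Q (Φ.W hQ) 0 from ⟨(Φ.W hQ).zero_mem, qzero hQ⟩),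
      ← Nat.card_coe_set_eq, Nat.card_eq_fintype_card, ← smul_eq_mul, ← Finset.card_univ]
    refine Finset.card_nsmul_le_sum _ _ _ fun u _ => ?_
    obtain ⟨f', hf', hQf', huf⟩ := exists_partner hQ (Φ.W_nd hQ) u.2.1.1 u.2.2 u.2.1.2
    rw [Nat.card_coe_set_eq]
    refine le_trans ?_ (card_orth_singular hQ u.2.1.1 hf' u.2.1.2 hQf' huf)
    have h3 := card_sphere hQ u.2.1.1 hf' u.2.1.2 hQf' huf 0
    rw [hW6, show 6 - 2 = 4 from rfl, ← hqdef] at h3
    rw [← hqdef]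
    refine Nat.mul_le_mul_left _ ?_
    have h4 : (q - 1) * q ^ 2 + q * (2 * q - 1) ≤
        (sphere Q (pairPerp hQ (Φ.W hQ) u.1 f') 0).ncard := by
      rw [h3] at hS
      exact Nat.le_of_mul_le_mul_left (Nat.le_of_add_le_add_left hS) (by omega)
    have h5 : q ^ 3 + q ^ 2 - q = (q - 1) * q ^ 2 + q * (2 * q - 1) := by
      obtain ⟨r, hr⟩ : ∃ r, q = r + 1 := ⟨q - 1, by omega⟩
      rw [hr, Nat.add_sub_cancel, show 2 * (r + 1) - 1 = 2 * r + 1 by omega]
      have : (r + 1) ^ 3 + (r + 1) ^ 2 = r * (r + 1) ^ 2 + (r + 1) * (2 * r + 1) + (r + 1) := by ring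
      omega
    omega
  by_contra hlt
  obtain ⟨r, hr⟩ : ∃ r, q = r + 1 := ⟨q - 1, by omega⟩
  rw [hr] at hS hTlow hTC hlt hq
  rw [Nat.add_sub_cancel, show 2 * (r + 1) - 1 = 2 * r + 1 by omega] at hS
  have e1 : (r + 1) ^ 3 - (r + 1) = r * (r + 1) * (r + 2) := by
    have : (r + 1) ^ 3 = r * (r + 1) * (r + 2) + (r + 1) := by ring
    omega
  have e2 : (r + 1) ^ 3 + (r + 1) ^ 2 - (r + 1) - 1 = (r + 2) * (r * (r + 2)) := by
    have : (r + 1) ^ 3 + (r + 1) ^ 2 = (r + 2) * (r * (r + 2)) + (r + 1) + 1 := by ring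
    omega
  have e3 : ((r + 1) ^ 3 - 1) * ((r + 1) ^ 2 + 1) ≤ (sphere Q (Φ.W hQ) 0).ncard - 1 := by
    have h6 : (r + 1) ^ 3 - 1 = r * ((r + 1) ^ 2 + (r + 1) + 1) := by
      have : (r + 1) ^ 3 = r * ((r + 1) ^ 2 + (r + 1) + 1) + 1 := by ring
      omega
    rw [h6]
    have h7 : r * (r + 1) ^ 4 + (r + 1) * (r * (r + 1) ^ 2 + (r + 1) * (2 * r + 1)) =
        r * ((r + 1) ^ 2 + (r + 1) + 1) * ((r + 1) ^ 2 + 1) + 1 := by ring
    omega
  rw [e1] at hTC
  rw [e2] at hTlow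
  have e4 : ((r + 1) ^ 3 - 1) * ((r + 1) ^ 2 + 1) * ((r + 1) * ((r + 2) * (r * (r + 2)))) ≤
      (Φ.duals hQ x).ncard * (((r + 1) ^ 3 - 1) * (r * (r + 1) * (r + 2))) :=
    (Nat.mul_le_mul_right _ e3).trans (hTlow.trans hTC)
  have hpos : 0 < ((r + 1) ^ 3 - 1) * (r * (r + 1) * (r + 2)) := by
    refine Nat.mul_pos ?_ (Nat.mul_pos (Nat.mul_pos (by omega) (by omega)) (by omega))
    have : 2 ≤ (r + 1) ^ 3 := le_trans (by omega) (Nat.le_self_pow (by norm_num) _)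
    omega
  refine hlt (Nat.le_of_mul_le_mul_right ?_ hpos)
  calc (r + 1 + 1) * ((r + 1) ^ 2 + 1) * (((r + 1) ^ 3 - 1) * (r * (r + 1) * (r + 2)))
      = ((r + 1) ^ 3 - 1) * ((r + 1) ^ 2 + 1) * ((r + 1) * ((r + 2) * (r * (r + 2)))) := by ring
    _ ≤ _ := e4

end Frame

end CfsgLib.PGroup.OrthIndex
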