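import Cfsg.Agent.Lib.PGroup.OrthIndex.NoTriv
import Cfsg.Agent.Lib.PGroup.OrthIndex.TsCount

/-!
A proper subgroup of the Eichler group has at least as many cosets as there are singular points.
-/

set_option autoImplicit false
set_option linter.unusedSectionVars false

namespace CfsgLib.PGroup.OrthIndex

open scoped Matrix
open Matrix Cfsg.Geo CfsgLib.Perm.Asch CfsgLib.Perm.Trans CfsgLib.Perm.Trans.Quad

variable {ι : Type} [Fintype ι] [DecidableEq ι] {F : Type*} [Field F] [Fintype F]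
variable {Q : (ι → F) → F}

local notation "pol" => QuadraticMap.polar

variable (hQ : IsNondegenerateQuadraticForm Q)
include hQ
variable {X : Type*} [MulAction ↥(eGroup Q) X]

theorem singular_count_eight (hq : 4 ≤ Fintype.card F) (hn : Fintype.card ι = 8) :
    (sphere Q (⊤ : Submodule F (ι → F)) 0).ncard - 1 ≤
      (Fintype.card F ^ 3 + 1) * (Fintype.card F ^ 4 - 1) := by
  have h1 := sphere_zero_upper_eight hQ (P := (⊤ : Submodule F (ι → F))) (ndOn_top hQ)
    (by rw [finrank_top, Module.finrank_fintype_fun_eq_card]; omega)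
  obtain ⟨r, hr⟩ : ∃ r, Fintype.card F = r + 1 := ⟨Fintype.card F - 1, by omega⟩
  rw [hr] at h1 ⊢
  rw [Nat.add_sub_cancel, show 2 * (r + 1) - 1 = 2 * r + 1 by omega] at h1
  have e : r * (r + 1) ^ 6 + (r + 1) * (r * (r + 1) ^ 4 + (r + 1) * (r * (r + 1) ^ 2 + (r + 1) * (2 * r + 1))) =
      ((r + 1) ^ 3 + 1) * (r * ((r + 2) * ((r + 1) ^ 2 + 1))) + 1 := by ring
  have e2 : (r + 1) ^ 4 - 1 = r * ((r + 2) * ((r + 1) ^ 2 + 1)) := by
    have : (r + 1) ^ 4 = r * ((r + 2) * ((r + 1) ^ 2 + 1)) + 1 := by ring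
    omega
  rw [e2]
  omega

omit hQ in
theorem plane_count {q : ℕ} (hq : 1 ≤ q) : (q - 1) * ((q + 1) * (q ^ 2 + 1)) = q ^ 4 - 1 := by
  obtain ⟨r, rfl⟩ : ∃ r, q = r + 1 := ⟨q - 1, by omega⟩
  rw [Nat.add_sub_cancel]
  have : (r + 1) ^ 4 = r * ((r + 1 + 1) * ((r + 1) ^ 2 + 1)) + 1 := by ring
  omega

namespace Frame

variable (Φ : Frame Q)

/-- A vector with Ts star next to a full one forces many points. -/
theorem no_ts_full (hq : 4 ≤ Fintype.card F) (hP : Φ.P = ⊤) (hn : Fintype.card ι = 8) [Finite X]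
    (hsmall : Nat.card X * (Fintype.card F - 1) < (sphere Q (⊤ : Submodule F (ι → F)) 0).ncard - 1)
    {x : X} (he : Ts hQ x Φ.e) (hf : Full hQ x Φ.f) : False := by
  classical
  haveI : Fintype X := Fintype.ofFinite X
  haveI : Fintype (ι → F) := Fintype.ofFinite _
  obtain ⟨N, hN4, hN, heN, hiff⟩ := id he
  set M := orthIn hQ N Φ.f with hM
  have hMW : M ≤ Φ.W hQ := fun m hm => (mem_pairPerp hQ).2
    ⟨by rw [hP]; exact Submodule.mem_top, pol_eq_zero_of_ts hQ hN hm.1 heN, hm.2⟩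
  have hMfull : ∀ c ∈ M, Full hQ x c := fun c hc => by
    have hfc : ∀ a ∈ Φ.W hQ, Star hQ x Φ.f a := fun a ha => hf.star (by rw [pcomm]; exact Φ.pol_f hQ ha)
    refine Φ.full_mid hQ hP (hMW hc) (hN c hc.1) (fun t => (hiff _).2 (N.smul_mem t hc.1))
      (fun t => hfc _ ((Φ.W hQ).smul_mem t (hMW hc))) fun a ha hac => ?_
    exact Φ.star_mid' hQ (hMW hc) (hN c hc.1) ha hac (hfc a ha)
      (fun t => hfc _ ((Φ.W hQ).smul_mem t (hMW hc))) ((hiff _).2 hc.1)
  -- a totally singular solid of full vectors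
  set K := M ⊔ Submodule.span F {Φ.f} with hK
  have hf0 : Φ.f ≠ 0 := fun h => one_ne_zero (Φ.hef.symm.trans (by rw [h, pzero_right hQ]))
  have hKd : 4 ≤ Module.finrank F K := by
    have hdisj : M ⊓ Submodule.span F {Φ.f} = ⊥ := (Submodule.eq_bot_iff _).2 fun v ⟨hv, hv'⟩ => by
      obtain ⟨k, rfl⟩ := Submodule.mem_span_singleton.1 hv'
      have := Φ.pol_e' hQ (hMW hv)
      rw [psmul_left hQ, Φ.hfe hQ, mul_one] at this
      rw [this, zero_smul]
    have h1 := Submodule.finrank_sup_add_finrank_inf_eq M (Submodule.span F {Φ.f})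
    rw [hdisj, finrank_bot, add_zero, finrank_span_singleton hf0] at h1
    have h2 := finrank_orthIn hQ N Φ.f
    rw [← hM] at h2
    rw [hK]
    omega
  have hKfull : ∀ z ∈ K, z ≠ 0 → Q z = 0 ∧ Full hQ x z := fun z hz _ => by
    obtain ⟨m, hm, w, hw, rfl⟩ := Submodule.mem_sup.1 hz
    obtain ⟨k, rfl⟩ := Submodule.mem_span_singleton.1 hw
    refine ⟨by rw [qadd hQ, hN m hm.1, qsmul hQ, Φ.hQf, psmul_right hQ,
      show pol Q m Φ.f = 0 from hm.2]; ring, ?_⟩
    by_cases hm0 : m = 0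
    · rw [hm0, zero_add]
      exact hf.smul Φ.hQf k
    obtain ⟨w, hw, hwm⟩ := ((Φ.W_nd hQ) m (hMW hm) hm0).1
    set a := (-k / pol Q w m) • w with ha
    have haW : a ∈ Φ.W hQ := (Φ.W hQ).smul_mem _ hw
    have hfa : pol Q Φ.f a = 0 := by rw [pcomm]; exact Φ.pol_f hQ haW
    have h1 := (hMfull m hm).map_of_fix (g := el hQ Φ.f a) (hf a hfa) (hN m hm.1)
    rw [act_el hQ Φ.hQf hfa, Φ.pol_f hQ (hMW hm)] at h1
    have hma : pol Q m a = -k := by rw [pcomm, ha, psmul_left hQ, div_mul_cancel₀ _ hwm]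
    rw [hma] at h1
    convert h1 using 2
    module
  -- double counting of the vectors that are not full
  set Z := (sphere Q (⊤ : Submodule F (ι → F)) 0 \ {0}).toFinset with hZ
  set O := (Finset.univ.filter fun y : X => ∃ g : ↥(eGroup Q), g • x = y) with hO
  set q := Fintype.card F with hqdef
  have hZc : Z.card = (sphere Q (⊤ : Submodule F (ι → F)) 0).ncard - 1 := by
    rw [hZ, ← Set.ncard_eq_toFinset_card', Set.ncard_sdiff_singleton_of_mem
      (show (0 : ι → F) ∈ sphere Q (⊤ : Submodule F (ι → F)) 0 from ⟨Submodule.mem_top, qzero hQ⟩)]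
  have hrow : ∀ z ∈ Z, q ^ 3 * ((q + 1) * (q ^ 2 + 1)) ≤ (O.filter fun y => ¬ Full hQ y z).card := by
    intro z hz
    obtain ⟨⟨-, hQz⟩, hz0⟩ := Set.mem_toFinset.1 hz
    obtain ⟨g, hg, hge⟩ := exists_move hQ (by omega) (Φ.e_ne hQ) hz0 Φ.hQe hQz
    have hcount := Φ.duals_count hQ (Ω := {y : X | (∃ g : ↥(eGroup Q), g • x = y) ∧ ¬ Full hQ y Φ.e})
      (Set.toFinite _) x (fun k c hk a ha => ⟨⟨el hQ Φ.e a * k, mul_smul _ _ _⟩, fun hfull => by
        have h1 : ∀ u ∈ Φ.dual hQ (k • x), u = 0 := fun u hu => by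
          rw [← Φ.dual_el hQ ha] at hu
          exact eq_zero_of_separated hQ (Φ.W_nd hQ) hu.1 fun b hb => hu.2 b hb (hfull b (Φ.pol_e hQ hb))
        have h2 : (Φ.dual hQ (k • x)).ncard ≤ 1 := (Set.ncard_le_one (Set.toFinite _)).2
          fun u hu v hv => by rw [h1 u hu, h1 v hv]
        rw [hk.dual_ncard x, Φ.dual_of_ts_ncard hQ hP hn he, ← hqdef] at h2
        have : 2 ^ 3 ≤ q ^ 3 := Nat.pow_le_pow_left (by omega) 3
        omega⟩)
    rw [Φ.dual_of_ts_ncard hQ hP hn he, ← hqdef, mul_comm] at hcount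
    refine le_trans (Nat.mul_le_mul_left _ (Φ.duals_big hQ hq hP hn he)) (hcount.trans ?_)
    rw [← Set.ncard_coe_finset]
    refine Set.ncard_le_ncard_of_injOn (fun y => (⟨g, hg⟩ : ↥(eGroup Q)) • y) ?_
      (MulAction.injective _).injOn (Set.toFinite _)
    rintro y ⟨⟨k, hk⟩, hy⟩
    simp only [Finset.coe_filter, Set.mem_setOf_eq, hO, Finset.mem_filter, Finset.mem_univ, true_and]
    refine ⟨⟨(⟨g, hg⟩ : ↥(eGroup Q)) * k, by rw [mul_smul, hk]⟩, fun hfull => hy ?_⟩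
    have h1 := hfull.map (⟨g, hg⟩ : ↥(eGroup Q))⁻¹ hQz
    rw [inv_smul_smul, show z = act (⟨g, hg⟩ : ↥(eGroup Q)) Φ.e from hge.symm, act_inv_act] at h1
    exact h1
  have hcol : ∀ y ∈ O, (Z.filter fun z => ¬ Full hQ y z).card ≤ Z.card - (q ^ 4 - 1) := by
    intro y hy
    obtain ⟨g, rfl⟩ := (Finset.mem_filter.1 hy).2
    have h1 : q ^ 4 - 1 ≤ (Z.filter fun z => Full hQ (g • x) z).card := by
      have h2 : ((K : Set (ι → F)) \ {0}).ncard ≤ (Z.filter fun z => Full hQ (g • x) z).card := by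
        rw [← Set.ncard_coe_finset]
        refine Set.ncard_le_ncard_of_injOn (act g) ?_ (act_injective g).injOn (Set.toFinite _)
        rintro v ⟨hv, hv0⟩
        obtain ⟨hQv, hFv⟩ := hKfull v hv hv0
        simp only [Finset.coe_filter, Set.mem_setOf_eq, hZ, Set.mem_toFinset]
        refine ⟨⟨⟨Submodule.mem_top, by rw [Q_act (Q := Q), hQv]⟩, fun h0 => hv0 (act_injective g ?_)⟩, hFv.map g hQv⟩
        rw [Set.mem_singleton_iff.1 h0, act_zero]
      have h3 : (K : Set (ι → F)).ncard = q ^ Module.finrank F K := by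
        rw [hqdef, ← natCard_submodule hQ, ← Nat.card_coe_set_eq]
        rfl
      rw [Set.ncard_sdiff_singleton_of_mem (show (0 : ι → F) ∈ (K : Set (ι → F)) from K.zero_mem), h3] at h2
      have h4 : q ^ 4 ≤ q ^ Module.finrank F K := Nat.pow_le_pow_right (by omega) hKd
      omega
    have h5 := Finset.card_filter_add_card_filter_not (s := Z) (fun z => Full hQ (g • x) z)
    omega
  have hsum : ∑ z ∈ Z, (O.filter fun y => ¬ Full hQ y z).card =
      ∑ y ∈ O, (Z.filter fun z => ¬ Full hQ y z).card := by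
    simp only [Finset.card_filter]
    exact Finset.sum_comm
  have h1 := Finset.card_nsmul_le_sum _ _ _ hrow
  have h2 := Finset.sum_le_card_nsmul _ _ _ hcol
  rw [smul_eq_mul] at h1 h2
  have hOX : O.card ≤ Nat.card X := by rw [Nat.card_eq_fintype_card]; exact Finset.card_le_univ _
  have h3 : Z.card * (q ^ 3 * ((q + 1) * (q ^ 2 + 1))) ≤ Nat.card X * (Z.card - (q ^ 4 - 1)) :=
    (h1.trans (hsum.le.trans h2)).trans (Nat.mul_le_mul_right _ hOX)
  have h4 := Nat.mul_le_mul_right (q - 1) h3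
  have hZ0 : 0 < Z.card := by omega
  have h5 : Z.card * (q ^ 3 * (q ^ 4 - 1)) ≤ Nat.card X * (q - 1) * (Z.card - (q ^ 4 - 1)) := by
    rw [← plane_count (show 1 ≤ q by omega)] at h4 ⊢
    calc Z.card * (q ^ 3 * ((q - 1) * ((q + 1) * (q ^ 2 + 1))))
        = Z.card * (q ^ 3 * ((q + 1) * (q ^ 2 + 1))) * (q - 1) := by ring
      _ ≤ _ := h4
      _ = _ := by ring
  have hpos : 0 < q ^ 4 - 1 := by
    have : 2 ^ 4 ≤ q ^ 4 := Nat.pow_le_pow_left (by omega) 4
    omega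
  rcases Nat.eq_zero_or_pos (Z.card - (q ^ 4 - 1)) with h0 | h0
  · rw [h0, mul_zero] at h5
    have : 0 < Z.card * (q ^ 3 * (q ^ 4 - 1)) := Nat.mul_pos hZ0 (Nat.mul_pos (pow_pos (by omega) 3) hpos)
    omega
  have h6 : Z.card * (q ^ 3 * (q ^ 4 - 1)) < Z.card * (Z.card - (q ^ 4 - 1)) :=
    lt_of_le_of_lt h5 (Nat.mul_lt_mul_of_pos_right (by rw [hZc]; exact hsmall) h0)
  have h7 := Nat.lt_of_mul_lt_mul_left h6
  have h8 := singular_count_eight hQ hq hn
  rw [← hqdef] at h8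
  have h9 : (q ^ 3 + 1) * (q ^ 4 - 1) = q ^ 3 * (q ^ 4 - 1) + (q ^ 4 - 1) := by ring
  omega

end Frame

/-- It is impossible that all stars are totally singular solids. -/
theorem no_all_ts (hq : 4 ≤ Fintype.card F) (hn : Fintype.card ι = 8) [Finite X]
    (hsmall : Nat.card X * (Fintype.card F - 1) < (sphere Q (⊤ : Submodule F (ι → F)) 0).ncard - 1)
    {x : X} (hall : ∀ z, Q z = 0 → z ≠ 0 → Ts hQ x z) : False := by
  classical
  obtain ⟨e, -, he0, hQe⟩ := exists_singular_mem hQ (⊤ : Submodule F (ι → F))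
    (by rw [finrank_top, Module.finrank_fintype_fun_eq_card]; omega)
  obtain ⟨Φ, hP, hΦe⟩ := exists_frame hQ (by omega) hQe he0
  subst hΦe
  have hW := Φ.W_finrank hQ
  rw [hP, finrank_top, Module.finrank_fintype_fun_eq_card, hn] at hW
  have hallg : ∀ (g : ↥(eGroup Q)) z, Q z = 0 → z ≠ 0 → Ts hQ (g • x) z := fun g z hz hz0 => by
    have := (hall (act g⁻¹ z) (by rw [Q_act (Q := Q), hz])
      (fun h => hz0 (act_injective g⁻¹ (by rw [h, act_zero])))).map hQ g (by rw [Q_act (Q := Q), hz])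
    rwa [act_act_inv] at this
  obtain ⟨c₀, hc₀, hc₁⟩ := exists_sq_ne_one (F := F) hq
  obtain ⟨τ, hτe, hτf, hτy⟩ := exists_torus hQ hP Φ.hQe Φ.hQf Φ.hef (by
    show 3 ≤ Module.finrank F (Φ.W hQ)
    omega) hc₀
  set l := c₀ ^ 2 with hl
  have hl0 : l ≠ 0 := pow_ne_zero 2 hc₀
  have hτW : ∀ w ∈ Φ.W hQ, act τ w = w := fun w hw => hτy w (Φ.pol_e' hQ hw) (Φ.pol_f hQ hw)
  -- the torus fixes no point
  have hnofix : ∀ g : ↥(eGroup Q), τ • g • x ≠ g • x := fun g hfix => by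
    set y := g • x
    obtain ⟨A, hA4, hA, -, hAiff⟩ := hallg g Φ.e Φ.hQe (Φ.e_ne hQ)
    obtain ⟨B, hB4, hB, -, hBiff⟩ := hallg g Φ.f Φ.hQf
      (fun h => one_ne_zero (Φ.hef.symm.trans (by rw [h, pzero_right hQ])))
    obtain ⟨s, hs, hQs, hs0, hsA, hsB⟩ : ∃ s ∈ Φ.W hQ, Q s = 0 ∧ s ≠ 0 ∧ s ∉ A ∧ s ∉ B := by
      by_contra hcon
      simp only [not_exists, not_and, not_not, ne_eq] at hcon
      have hsub : sphere Q (Φ.W hQ) 0 ⊆ (A : Set (ι → F)) ∪ B := fun v hv => by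
        by_cases hv0 : v = 0
        · exact Or.inl (by rw [hv0]; exact A.zero_mem)
        by_cases hvA : v ∈ A
        · exact Or.inl hvA
        · exact Or.inr (hcon v hv.1 hv.2 hv0 hvA)
      have h1 := (Set.ncard_le_ncard hsub (Set.toFinite _)).trans (Set.ncard_union_le _ _)
      have h2 : ∀ K : Submodule F (ι → F), Module.finrank F K = 4 →
          (K : Set (ι → F)).ncard = Fintype.card F ^ 4 := fun K hK => by
        rw [← hK, ← natCard_submodule hQ, ← Nat.card_coe_set_eq]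
        rfl
      rw [h2 A hA4, h2 B hB4] at h1
      have h3 := sphere_lower hQ (Φ.W_nd hQ) (by omega) 0
      rw [show Module.finrank F (Φ.W hQ) - 2 = 4 by omega] at h3
      have h4 : 3 * Fintype.card F ^ 4 ≤ (Fintype.card F - 1) * Fintype.card F ^ 4 :=
        Nat.mul_le_mul_right _ (by omega)
      have h5 : 0 < Fintype.card F ^ 4 := pow_pos Fintype.card_pos 4
      omega
    obtain ⟨M, hM4, hM, hsM, hMiff⟩ := hallg g s hQs hs0
    have hsub : M ≤ Φ.W hQ := fun v hv => by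
      have hτv : act τ v ∈ M := by
        have h1 := ((hMiff v).2 hv).map_of_fix hfix hQs
        rw [hτW s hs] at h1
        exact (hMiff _).1 h1
      set a := pol Q v Φ.f with ha
      set b := pol Q v Φ.e with hb
      set r := v - a • Φ.e - b • Φ.f with hr
      have hrW : r ∈ Φ.W hQ := Φ.rest_mem hQ hP v
      have hd : v = a • Φ.e + b • Φ.f + r := by rw [hr]; abel
      have hτd : act τ v - v = ((l - 1) * a) • Φ.e + ((l⁻¹ - 1) * b) • Φ.f := by
        conv_lhs => rw [hd]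
        simp only [act_add, act_smul, hτe, hτf, hτW r hrW]
        module
      have hQd := hM _ (M.sub_mem hτv hv)
      rw [hτd, qadd hQ, qsmul hQ, qsmul hQ, Φ.hQe, Φ.hQf, psmul_left hQ, psmul_right hQ, Φ.hef] at hQd
      have hab : a * b = 0 := by
        have h1 : l - 1 ≠ 0 := sub_ne_zero.2 hc₁
        have h2 : l⁻¹ - 1 ≠ 0 := sub_ne_zero.2 fun h => hc₁ (inv_eq_one.1 h)
        have h3 : (l - 1) * (l⁻¹ - 1) * (a * b) = 0 := by linear_combination hQd
        exact (mul_eq_zero.1 h3).resolve_left (mul_ne_zero h1 h2)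
      have hnoe : ∀ k : F, k • Φ.e ∈ M → k = 0 := fun k hk => by
        by_contra hk0
        have h1 := (((hMiff _).2 hk).swap_smul hQ hQs Φ.hQe)
        have h2 := A.smul_mem k⁻¹ ((hAiff _).1 h1)
        rw [smul_smul, inv_mul_cancel₀ hk0, one_smul] at h2
        exact hsA h2
      have hnof : ∀ k : F, k • Φ.f ∈ M → k = 0 := fun k hk => by
        by_contra hk0
        have h1 := (((hMiff _).2 hk).swap_smul hQ hQs Φ.hQf)
        have h2 := B.smul_mem k⁻¹ ((hBiff _).1 h1)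
        rw [smul_smul, inv_mul_cancel₀ hk0, one_smul] at h2
        exact hsB h2
      have hmem : ((l - 1) * a) • Φ.e + ((l⁻¹ - 1) * b) • Φ.f ∈ M := hτd ▸ M.sub_mem hτv hv
      have h0 : a = 0 ∧ b = 0 := by
        rcases mul_eq_zero.1 hab with h | h
        · rw [h, mul_zero, zero_smul, zero_add] at hmem
          exact ⟨h, (mul_eq_zero.1 (hnof _ hmem)).resolve_left (sub_ne_zero.2 fun h => hc₁ (inv_eq_one.1 h))⟩
        · rw [h, mul_zero, zero_smul, add_zero] at hmem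
          exact ⟨(mul_eq_zero.1 (hnoe _ hmem)).resolve_left (sub_ne_zero.2 hc₁), h⟩
      rw [hd, h0.1, h0.2, zero_smul, zero_smul, zero_add, zero_add]
      exact hrW
    have := two_mul_finrank_le hQ (Φ.W_nd hQ) hsub hM
    omega
  -- hence every dual occurs in two orbits
  have hTs : Ts hQ x Φ.e := hall Φ.e Φ.hQe (Φ.e_ne hQ)
  have hex : ∀ U : Φ.duals hQ x, ∃ p : ↥(eGroup Q) × F, Φ.Levi hQ p.1 p.2 ∧ U.1 = Φ.dual hQ (p.1 • x) :=
    fun ⟨U, g, c, hg, hU⟩ => ⟨(g, c), hg, hU⟩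
  choose rep hrep hU using hex
  have hmemP : ∀ k : ↥(eGroup Q), k ∈ inner hQ Φ.P := fun k => by rw [hP, inner_top hQ]; trivial
  have hτdual : ∀ g : ↥(eGroup Q), Φ.dual hQ (τ • g • x) = Φ.dual hQ (g • x) := fun g => by
    obtain ⟨M, hMW, -, -, hM⟩ := Φ.dual_of_ts hQ hP hn (hallg g Φ.e Φ.hQe (Φ.e_ne hQ))
    have hL : Φ.Levi hQ τ l := ⟨hmemP τ, hl0, hτe⟩
    rw [hL.dual (g • x), hM]
    ext v
    constructor
    · rintro ⟨u, hu, rfl⟩
      rw [Φ.leviMap_of_mem hQ (by rw [hτW u (hMW hu)]; exact hMW hu), hτW u (hMW hu)]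
      exact M.smul_mem _ hu
    · intro hv
      refine ⟨l • v, M.smul_mem l hv, ?_⟩
      rw [Φ.leviMap_of_mem hQ (by rw [hτW _ (hMW (M.smul_mem l hv))]; exact hMW (M.smul_mem l hv)),
        hτW _ (hMW (M.smul_mem l hv)), smul_smul, inv_mul_cancel₀ hl0, one_smul]
  let tw : Bool → ↥(eGroup Q) := fun b => if b then τ else 1
  let toX : Bool × (Σ U : Φ.duals hQ x, Φ.W hQ ⧸ Φ.stab hQ (tw false • (rep U).1 • x)) → X :=
    fun p => el hQ Φ.e (Quotient.out p.2.2).1 • tw p.1 • (rep p.2.1).1 • x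
  have htw : ∀ b U, Φ.dual hQ (tw b • (rep U).1 • x) = U.1 := fun b U => by
    cases b
    · rw [hU U]; simp [tw]
    · rw [hU U]; exact hτdual _
  have hinj : Function.Injective toX := by
    rintro ⟨b, U, a⟩ ⟨b', V, a'⟩ h
    have h' : el hQ Φ.e (Quotient.out a).1 • tw b • (rep U).1 • x =
        el hQ Φ.e (Quotient.out a').1 • tw b' • (rep V).1 • x := h
    obtain rfl : U = V := Subtype.ext (by
      have := congrArg (Φ.dual hQ) h'
      rwa [Frame.dual_el hQ Φ (Quotient.out a).2, Frame.dual_el hQ Φ (Quotient.out a').2, htw, htw] at this)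
    have hW' : ∀ p r : Φ.W hQ, el hQ Φ.e p.1 = el hQ Φ.e r.1 * el hQ Φ.e (p.1 - r.1) := fun p r => by
      rw [← el_add hQ Φ.hQe (Φ.pol_e hQ r.2) (Φ.pol_e hQ ((Φ.W hQ).sub_mem p.2 r.2)), add_sub_cancel]
    have hno : ∀ p r : Φ.W hQ, el hQ Φ.e p.1 • τ • (rep U).1 • x = el hQ Φ.e r.1 • (rep U).1 • x → False := by
      intro p r hh
      rw [hW' r p, mul_smul, smul_left_cancel_iff] at hh
      set a₀ := r.1 - p.1
      have ha₀ : a₀ ∈ Φ.W hQ := (Φ.W hQ).sub_mem r.2 p.2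
      have h1l : (1 : F) - l ≠ 0 := sub_ne_zero.2 (Ne.symm hc₁)
      set w := (1 - l)⁻¹ • a₀ with hw
      have hwW : w ∈ Φ.W hQ := (Φ.W hQ).smul_mem _ ha₀
      refine hnofix (el hQ Φ.e w * (rep U).1) ?_
      rw [mul_smul]
      have hconj : τ * el hQ Φ.e w = el hQ Φ.e (l • w) * τ := by
        rw [← el_smul_left hQ Φ.hQe l (Φ.pol_e hQ hwW)]
        have := el_conj hQ τ Φ.hQe (Φ.pol_e hQ hwW)
        rw [hτe, hτW w hwW] at this
        rw [← this, inv_mul_cancel_right]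
      rw [← mul_smul τ, hconj, mul_smul, hh, ← mul_smul,
        ← el_add hQ Φ.hQe (Φ.pol_e hQ ((Φ.W hQ).smul_mem l hwW)) (Φ.pol_e hQ ha₀)]
      congr 2
      rw [show a₀ = (1 - l) • w by rw [hw, smul_smul, mul_inv_cancel₀ h1l, one_smul], ← add_smul,
        add_sub_cancel, one_smul]
    have key : ∀ p r : Φ.W hQ, el hQ Φ.e p.1 • tw b • (rep U).1 • x = el hQ Φ.e r.1 • tw b • (rep U).1 • x →
        -p + r ∈ Φ.stab hQ (tw false • (rep U).1 • x) := fun p r hh => by
      rw [hW' r p, mul_smul, smul_left_cancel_iff] at hh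
      refine (Φ.mem_stab hQ).2 ?_
      rw [Submodule.coe_add, Submodule.coe_neg, neg_add_eq_sub]
      cases b
      · exact hh.symm
      · have hl' : τ * el hQ Φ.e (r.1 - p.1) = el hQ Φ.e (l • (r.1 - p.1)) * τ := by
          rw [← el_smul_left hQ Φ.hQe l (Φ.pol_e hQ ((Φ.W hQ).sub_mem r.2 p.2))]
          have := el_conj hQ τ Φ.hQe (Φ.pol_e hQ ((Φ.W hQ).sub_mem r.2 p.2))
          rw [hτe, hτW _ ((Φ.W hQ).sub_mem r.2 p.2)] at this
          rw [← this, inv_mul_cancel_right]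
        obtain ⟨M, hMW, -, -, hM⟩ := Φ.dual_of_ts hQ hP hn (hallg (rep U).1 Φ.e Φ.hQe (Φ.e_ne hQ))
        simp only [tw, Bool.false_eq_true, ↓reduceIte, one_smul]
        refine Φ.fix_of_dual hQ ((Φ.W hQ).sub_mem r.2 p.2) fun u hu => ?_
        have hu' : u ∈ Φ.dual hQ (τ • (rep U).1 • x) := by rw [hτdual]; exact hu
        exact hu'.2 _ ((Φ.W hQ).sub_mem r.2 p.2) hh.symm
    obtain rfl : b = b' := by
      cases b <;> cases b' <;> simp only [tw, Bool.false_eq_true, ↓reduceIte, one_smul] at h' ⊢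
      · exact (hno _ _ h'.symm).elim
      · exact (hno _ _ h').elim
    have hq' : a = a' := by
      rw [← Quotient.out_eq a, ← Quotient.out_eq a']
      exact Quotient.sound (QuotientAddGroup.leftRel_apply.2 (key _ _ h'))
    rw [hq']
  haveI : Fintype (Φ.duals hQ x) := Fintype.ofFinite _
  have h1 := Nat.card_le_card_of_injective toX hinj
  rw [Nat.card_prod, Nat.card_sigma, Nat.card_eq_fintype_card (α := Bool), Fintype.card_bool,
    Finset.sum_congr rfl (fun U _ => (show Nat.card (Φ.W hQ ⧸ Φ.stab hQ (tw false • (rep U).1 • x)) =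
      Fintype.card F ^ 3 by
      rw [← Frame.dual_card, htw, hU U, Φ.dual_of_ts_ncard hQ hP hn (hallg _ _ Φ.hQe (Φ.e_ne hQ))])),
    Finset.sum_const, Finset.card_univ, smul_eq_mul, ← Nat.card_eq_fintype_card, Nat.card_coe_set_eq] at h1
  have h4 := singular_count_eight hQ hq hn
  set q := Fintype.card F
  have h2 : 2 * ((q + 1) * (q ^ 2 + 1) * q ^ 3) ≤ Nat.card X :=
    le_trans (Nat.mul_le_mul_left _ (Nat.mul_le_mul_right _ (Φ.duals_big hQ hq hP hn hTs))) h1
  have h3 := Nat.mul_le_mul_right (q - 1) h2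
  have h5 : 2 * (q ^ 3 * (q ^ 4 - 1)) ≤ Nat.card X * (q - 1) := by
    rw [← plane_count (show 1 ≤ q by omega)]
    calc 2 * (q ^ 3 * ((q - 1) * ((q + 1) * (q ^ 2 + 1))))
        = 2 * ((q + 1) * (q ^ 2 + 1) * q ^ 3) * (q - 1) := by ring
      _ ≤ _ := h3
  have h6 : (q ^ 3 + 1) * (q ^ 4 - 1) = q ^ 3 * (q ^ 4 - 1) + (q ^ 4 - 1) := by ring
  have h7 : q ^ 4 - 1 ≤ q ^ 3 * (q ^ 4 - 1) := Nat.le_mul_of_pos_left _ (pow_pos (by omega) 3)
  change Nat.card X * (q - 1) < _ at hsmall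
  omega

/-- A proper subgroup of the Eichler group has index at least the number of singular points. -/
theorem index_bound (hq : 4 ≤ Fintype.card F) (hn : 8 ≤ Fintype.card ι) {H : Subgroup ↥(eGroup Q)}
    (hH : H ≠ ⊤) :
    (sphere Q (⊤ : Submodule F (ι → F)) 0).ncard - 1 ≤ H.index * (Fintype.card F - 1) := by
  classical
  by_contra hlt
  rw [not_le] at hlt
  set X := ↥(eGroup Q) ⧸ H
  have hsmall : Nat.card X * (Fintype.card F - 1) < (sphere Q (⊤ : Submodule F (ι → F)) 0).ncard - 1 := hlt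
  set x : X := QuotientGroup.mk 1
  have hnofull : ¬ ∀ z, Q z = 0 → z ≠ 0 → Full hQ x z := fun h => by
    refine hH (eq_top_iff.2 fun g _ => ?_)
    have h1 : (QuotientGroup.mk (g * 1) : X) = QuotientGroup.mk 1 := fix_of_all_full hQ h g
    rwa [QuotientGroup.eq, mul_one, mul_one, inv_mem_iff] at h1
  have hcl : ∀ z, Q z = 0 → z ≠ 0 →
      Full hQ x z ∨ Hyp hQ x z ∨ (Fintype.card ι = 8 ∧ Ts hQ x z) := fun z hz hz0 => by
    obtain ⟨Φ, hP, rfl⟩ := exists_frame hQ (by omega) hz hz0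
    rcases Φ.classify hQ hq hn hP hsmall x with h | h | h | h
    · exact Or.inl h
    · exact (not_triv hQ hq hn hsmall x Φ.hQe (Φ.e_ne hQ) h).elim
    · exact Or.inr (Or.inl h)
    · exact Or.inr (Or.inr h)
  have hfull : ∃ z, Q z = 0 ∧ z ≠ 0 ∧ Full hQ x z := by
    by_contra hnone
    simp only [not_exists, not_and] at hnone
    by_cases hhyp : ∃ z, Q z = 0 ∧ z ≠ 0 ∧ Hyp hQ x z
    · obtain ⟨z, hz, hz0, hh⟩ := hhyp
      obtain ⟨Φ, hP, rfl⟩ := exists_frame hQ (by omega) hz hz0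
      have hW := Φ.W_finrank hQ
      rw [hP, finrank_top, Module.finrank_fintype_fun_eq_card] at hW
      have hf0 : Φ.f ≠ 0 := fun h => one_ne_zero (Φ.hef.symm.trans (by rw [h, pzero_right hQ]))
      rcases hcl Φ.f Φ.hQf hf0 with h | h | ⟨hn8, h⟩
      · exact hnone _ Φ.hQf hf0 h
      · obtain ⟨c, hc, hc0, hc'⟩ := Φ.full_of_hyp_hyp hQ hP hh h (by omega)
          fun w hw hw0 => by
            rcases hcl w hw hw0 with h' | h' | h'
            · exact Or.inr (Or.inr h')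
            · exact Or.inl h'
            · exact Or.inr (Or.inl h'.2)
        exact hnone c hc hc0 hc'
      · obtain ⟨c, hc, hc0, hc'⟩ := Φ.full_of_hyp_ts hQ hP hh h (by omega)
        exact hnone c hc hc0 hc'
    · simp only [not_exists, not_and] at hhyp
      have hts : ∀ z, Q z = 0 → z ≠ 0 → Fintype.card ι = 8 ∧ Ts hQ x z := fun z hz hz0 =>
        ((hcl z hz hz0).resolve_left (hnone z hz hz0)).resolve_left (hhyp z hz hz0)
      obtain ⟨z, -, hz0, hz⟩ := exists_singular_mem hQ (⊤ : Submodule F (ι → F))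
        (by rw [finrank_top, Module.finrank_fintype_fun_eq_card]; omega)
      exact no_all_ts hQ hq (hts z hz hz0).1 hsmall fun w hw hw0 => (hts w hw hw0).2
  have hspread : ∀ z w, Q z = 0 → Q w = 0 → Full hQ x z → pol Q z w ≠ 0 → Full hQ x w := by
    intro z w hz hw hzF hzw
    have hw' : Q ((pol Q z w)⁻¹ • w) = 0 := by rw [qsmul hQ, hw, mul_zero]
    have hzw' : pol Q z ((pol Q z w)⁻¹ • w) = 1 := by rw [psmul_right hQ, inv_mul_cancel₀ hzw]
    set Φ : Frame Q := topFrame hQ (by omega) hz hw' hzw'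
    have hW := Φ.W_finrank hQ
    rw [show Φ.P = ⊤ from rfl, finrank_top, Module.finrank_fintype_fun_eq_card] at hW
    refine Full.of_smul hw (inv_ne_zero hzw) ?_
    rcases hcl Φ.f hw' (fun h => one_ne_zero (hzw'.symm.trans (by
        show pol Q z Φ.f = 0
        rw [h, pzero_right hQ]))) with h | h | ⟨hn8, h⟩
    · exact h
    · exact Φ.full_of_full_hyp hQ rfl hzF (by omega) h
    · exact ((Φ.symm (Φ.hfe hQ)).no_ts_full hQ hq rfl hn8 hsmall h hzF).elim
  obtain ⟨z, hz, hz0, hzF⟩ := hfull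
  refine hnofull fun w hw hw0 => ?_
  by_cases hzw : pol Q z w = 0
  · obtain ⟨t, ht, hzt, htw⟩ := exists_common_nonorth hQ hz0 hw0 hz hzw
    exact hspread t w ht hw (hspread z t hz ht hzF hzt) htw
  · exact hspread z w hz hw hzF hzw

end CfsgLib.PGroup.OrthIndex
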