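import Cfsg.Agent.Lib.PGroup.OrthIndex.Geometry

/-!
Transitivity of the Eichler transformations of a subspace, and sizes of the orbits.
-/

set_option autoImplicit false
set_option linter.unusedSectionVars false

namespace CfsgLib.PGroup.OrthIndex

open scoped Matrix
open Matrix Cfsg.Geo CfsgLib.Perm.Asch CfsgLib.Perm.Trans CfsgLib.Perm.Trans.Quad

variable {ι : Type} [Fintype ι] [DecidableEq ι] {F : Type*} [Field F] [Fintype F]
variable {Q : (ι → F) → F}

local notation "pol" => QuadraticMap.polar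

variable (hQ : IsNondegenerateQuadraticForm Q)
include hQ

/-- The group generated by the Eichler transformations with both vectors in `P`. -/
noncomputable def inner (P : Submodule F (ι → F)) : Subgroup ↥(eGroup Q) :=
  Subgroup.closure {g | ∃ s a, s ∈ P ∧ a ∈ P ∧ Q s = 0 ∧ pol Q s a = 0 ∧ g = el hQ s a}

theorem el_mem_inner {P : Submodule F (ι → F)} {s a : ι → F} (hs : s ∈ P) (ha : a ∈ P) (hQs : Q s = 0)
    (hsa : pol Q s a = 0) : el hQ s a ∈ inner hQ P :=
  Subgroup.subset_closure ⟨s, a, hs, ha, hQs, hsa, rfl⟩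

theorem inner_mono {P P' : Submodule F (ι → F)} (h : P ≤ P') : inner hQ P ≤ inner hQ P' :=
  Subgroup.closure_mono fun _ ⟨s, a, hs, ha, h1, h2, h3⟩ => ⟨s, a, h hs, h ha, h1, h2, h3⟩

theorem inner_fix {P : Submodule F (ι → F)} {g : ↥(eGroup Q)} (hg : g ∈ inner hQ P) {z : ι → F}
    (hz : ∀ y ∈ P, pol Q z y = 0) : act g z = z := by
  induction hg using Subgroup.closure_induction with
  | mem g hg =>
    obtain ⟨s, a, hs, ha, hQs, hsa, rfl⟩ := hg
    rw [act_el hQ hQs hsa, hz s hs, hz a ha]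
    module
  | one => exact act_one z
  | mul a b _ _ iha ihb => rw [act_mul, ihb, iha]
  | inv a _ iha =>
    conv_lhs => rw [← iha]
    rw [act_inv_act]

theorem inner_maps {P : Submodule F (ι → F)} {g : ↥(eGroup Q)} (hg : g ∈ inner hQ P) :
    ∀ {v : ι → F}, v ∈ P → act g v ∈ P := by
  induction hg using Subgroup.closure_induction with
  | mem g hg =>
    obtain ⟨s, a, hs, ha, hQs, hsa, rfl⟩ := hg
    intro v hv
    rw [act_el hQ hQs hsa]
    exact P.sub_mem (P.sub_mem (P.add_mem hv (P.smul_mem _ ha)) (P.smul_mem _ hs)) (P.smul_mem _ hs)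
  | one =>
    intro v hv
    rwa [act_one]
  | mul a b _ _ iha ihb =>
    intro v hv
    rw [act_mul]
    exact iha (ihb hv)
  | inv a _ iha =>
    intro v hv
    have hinj : Function.Injective (fun w : P => (⟨act a w.1, iha w.2⟩ : P)) := fun w w' h =>
      Subtype.ext (act_injective a (congrArg Subtype.val h))
    obtain ⟨w, hw⟩ := (Finite.injective_iff_surjective.1 hinj) ⟨v, hv⟩
    have hw' : act a w.1 = v := congrArg Subtype.val hw
    rw [← hw', act_inv_act]
    exact w.2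

/-- One Eichler transformation moving `v` to `v'`. -/
theorem step {P : Submodule F (ι → F)} {u v v' s : ι → F} (hv : v ∈ P) (hv' : v' ∈ P) (hs : s ∈ P)
    (hQs : Q s = 0) (hQ' : Q v = Q v') (hu : pol Q u v = pol Q u v') (hsu : pol Q s u = 0)
    (hsv : pol Q v s = pol Q v' s) (hne : pol Q v s ≠ 0) :
    ∃ g ∈ inner hQ P, act g u = u ∧ act g v = v' := by
  have h1 : pol Q s ((pol Q v s)⁻¹ • (v' - v)) = 0 := by
    rw [psmul_right hQ, psub_right hQ, pcomm s v', pcomm s v, hsv, sub_self, mul_zero]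
  refine ⟨el hQ s ((pol Q v s)⁻¹ • (v' - v)),
    el_mem_inner hQ hs (P.smul_mem _ (P.sub_mem hv' hv)) hQs h1, ?_, ?_⟩
  · rw [act_el hQ hQs h1, pcomm u s, hsu, psmul_right hQ, psub_right hQ, hu, sub_self]
    module
  · rw [act_el hQ hQs h1, psmul_right hQ, qsmul hQ, psub_right hQ, qsub hQ, pself hQ v, smul_smul,
      mul_inv_cancel₀ hne, one_smul, pcomm v' v, hQ']
    match_scalars <;> field_simp <;> ring

/-- The Eichler transformations of `P` fixing `u` are transitive on the vectors outside the line of `u`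
with given value and given product with `u`. -/
theorem move' {P : Submodule F (ι → F)} (hflex : Flexible Q P) (hP : NdOn Q P)
    (hd : 6 ≤ Module.finrank F P) {u v v' : ι → F} (hu : u ∈ P) (hv : v ∈ P) (hv' : v' ∈ P)
    (hvn : ∀ c : F, v ≠ c • u) (hvn' : ∀ c : F, v' ≠ c • u) (hQ' : Q v = Q v')
    (huv : pol Q u v = pol Q u v') : ∃ g ∈ inner hQ P, act g u = u ∧ act g v = v' := by
  have hne : ∀ {w : ι → F}, w ∈ P → (∀ c : F, w ≠ c • u) →
      ∃ x ∈ P, pol Q x u = 0 ∧ (pfl hQ w) x ≠ 0 := fun {w} hw hwn => by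
    by_contra hcon
    simp only [not_exists, not_and, not_not, ne_eq] at hcon
    obtain ⟨c, hc⟩ := mem_span_of_orth hQ hP hu hw hcon
    exact hwn c hc
  obtain ⟨t, t', htP, ht'P, hQt, hQt', htt, htu, htu'⟩ := exists_pair_orth hQ hP (by omega) hu
  obtain ⟨s₁, hs₁, hQs₁, hs₁u, hvs₁, hs₁t⟩ := exists_two_nonzero' hQ hflex hP (by omega) hu _ (pfl hQ t)
    (hne hv hvn) ⟨t', ht'P, htu', by
      show pol Q t' t ≠ 0
      rw [pcomm, htt]; exact one_ne_zero⟩
  have hs₁n : ∃ x ∈ P, pol Q x u = 0 ∧ (pfl hQ s₁) x ≠ 0 := ⟨t, htP, htu, by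
    show pol Q t s₁ ≠ 0
    rw [pcomm]; exact hs₁t⟩
  obtain ⟨s₂, hs₂, hQs₂, hs₂u, hvs₂, hss⟩ := exists_two_nonzero' hQ hflex hP (by omega) hu _ _
    (hne hv' hvn') hs₁n
  change pol Q s₁ v ≠ 0 at hvs₁
  change pol Q s₂ v' ≠ 0 at hvs₂
  change pol Q s₂ s₁ ≠ 0 at hss
  set f := (pol Q s₂ s₁)⁻¹ • s₂ with hf
  have hQf : Q f = 0 := by rw [hf, qsmul hQ, hQs₂, mul_zero]
  have hfP : f ∈ P := P.smul_mem _ hs₂
  have hs₁f : pol Q s₁ f = 1 := by rw [hf, psmul_right hQ, pcomm s₁ s₂, inv_mul_cancel₀ hss]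
  have hfu : pol Q f u = 0 := by rw [hf, psmul_left hQ, hs₂u, mul_zero]
  have hP0nd := pair_nd hQ hs₁ hfP hQs₁ hQf hs₁f hP
  have hP0d := pair_finrank hQ hs₁ hfP hQs₁ hQf hs₁f
  have hu0 : u ∈ pairPerp hQ P s₁ f := (mem_pairPerp hQ).2
    ⟨hu, by rw [pcomm, hs₁u], by rw [pcomm, hfu]⟩
  obtain ⟨y, hy, hyu, hQy⟩ := exists_affine_value hQ hP0nd (by omega) hu0 (pol Q v u)
    (Q v - (pol Q v' s₂ / pol Q s₂ s₁) * pol Q v s₁) (fun h => by rw [h, pzero_right hQ])
  obtain ⟨hyP, hys, hyf⟩ := (mem_pairPerp hQ).1 hy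
  set v₁ := (pol Q v' s₂ / pol Q s₂ s₁) • s₁ + pol Q v s₁ • f + y with hv₁
  have hv₁P : v₁ ∈ P := P.add_mem (P.add_mem (P.smul_mem _ hs₁) (P.smul_mem _ hfP)) hyP
  have e1 : pol Q v₁ s₁ = pol Q v s₁ := by
    rw [hv₁, padd_left hQ, padd_left hQ, psmul_left hQ, psmul_left hQ, pol_self_singular hQ hQs₁,
      pcomm f s₁, hs₁f, hys]
    ring
  have hys₂ : pol Q y s₂ = 0 := by
    rw [show s₂ = pol Q s₂ s₁ • f by rw [hf, smul_smul, mul_inv_cancel₀ hss, one_smul], psmul_right hQ,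
      hyf, mul_zero]
  have e2 : pol Q v₁ s₂ = pol Q v' s₂ := by
    rw [hv₁, padd_left hQ, padd_left hQ, psmul_left hQ, psmul_left hQ, hys₂, pcomm s₁ s₂,
      div_mul_cancel₀ _ hss, hf, psmul_left hQ, pol_self_singular hQ hQs₂]
    ring
  have e3 : Q v₁ = Q v := by
    rw [hv₁, qadd hQ, qadd hQ, qsmul hQ, qsmul hQ, hQs₁, hQf, padd_left hQ, psmul_left hQ, psmul_left hQ,
      psmul_left hQ, psmul_right hQ, hs₁f, hQy, pcomm s₁ y, pcomm f y, hys, hyf]
    ring
  have e4 : pol Q u v₁ = pol Q u v := by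
    rw [hv₁, padd_right hQ, padd_right hQ, psmul_right hQ, psmul_right hQ, pcomm u s₁, hs₁u, pcomm u f,
      hfu, pcomm u y, hyu, pcomm v u]
    ring
  obtain ⟨g₁, hg₁, hg₁u, hg₁v⟩ := step hQ (u := u) hv hv₁P hs₁ hQs₁ e3.symm e4.symm hs₁u e1.symm
    (by rwa [pcomm])
  obtain ⟨g₂, hg₂, hg₂u, hg₂v⟩ := step hQ (u := u) hv₁P hv' hs₂ hQs₂ (e3.trans hQ') (e4.trans huv) hs₂u
    e2 (by rw [e2, pcomm]; exact hvs₂)
  exact ⟨g₂ * g₁, mul_mem hg₂ hg₁, by rw [act_mul, hg₁u, hg₂u], by rw [act_mul, hg₁v, hg₂v]⟩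

theorem move (hq : 4 ≤ Fintype.card F) {P : Submodule F (ι → F)} (hP : NdOn Q P)
    (hd : 6 ≤ Module.finrank F P) {u v v' : ι → F} (hu : u ∈ P) (hv : v ∈ P) (hv' : v' ∈ P)
    (hvn : ∀ c : F, v ≠ c • u) (hvn' : ∀ c : F, v' ≠ c • u) (hQ' : Q v = Q v')
    (huv : pol Q u v = pol Q u v') : ∃ g ∈ inner hQ P, act g u = u ∧ act g v = v' :=
  move' hQ (Or.inl hq) hP hd hu hv hv' hvn hvn' hQ' huv

/-- The Eichler transformations of `P` scale a hyperbolic pair. -/
theorem exists_scale (hq : 4 ≤ Fintype.card F) {P : Submodule F (ι → F)} (hP : NdOn Q P)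
    (hd : 6 ≤ Module.finrank F P) {e f : ι → F} (he : e ∈ P) (hf : f ∈ P) (hQe : Q e = 0) (hQf : Q f = 0)
    (hef : pol Q e f = 1) {c : F} (hc : c ≠ 0) :
    ∃ g ∈ inner hQ P, act g e = c • e ∧ act g f = c⁻¹ • f := by
  have he0 : e ≠ 0 := fun h => one_ne_zero (hef.symm.trans (by rw [h, pzero_left hQ]))
  obtain ⟨g₁, hg₁, -, hg₁e⟩ := move hQ hq hP hd P.zero_mem he (P.smul_mem c he)
    (fun k => by rwa [smul_zero]) (fun k => by rw [smul_zero]; exact smul_ne_zero hc he0)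
    (by rw [qsmul hQ, hQe, mul_zero]) (by rw [pzero_left hQ, pzero_left hQ])
  have h1 : pol Q (c • e) (act g₁ f) = 1 := by rw [← hg₁e, pol_act, hef]
  have hn : ∀ w : ι → F, pol Q (c • e) w = 1 → ∀ k : F, w ≠ k • c • e := fun w hw k hk =>
    one_ne_zero (hw.symm.trans (by
      rw [hk, psmul_right hQ, pol_self_singular hQ (by rw [qsmul hQ, hQe, mul_zero]), mul_zero]))
  have h2 : pol Q (c • e) (c⁻¹ • f) = 1 := by
    rw [psmul_left hQ, psmul_right hQ, hef, mul_one, mul_inv_cancel₀ hc]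
  obtain ⟨g₂, hg₂, hg₂e, hg₂f⟩ := move hQ hq hP hd (P.smul_mem c he) (inner_maps hQ hg₁ hf)
    (P.smul_mem c⁻¹ hf) (hn _ h1) (hn _ h2) (by rw [Q_act (Q := Q), hQf, qsmul hQ, hQf, mul_zero])
    (h1.trans h2.symm)
  exact ⟨g₂ * g₁, mul_mem hg₂ hg₁, by rw [act_mul, hg₁e, hg₂e], by rw [act_mul, hg₂f]⟩

/-- The vectors of `P` of a given value. -/
def sphere (Q : (ι → F) → F) (P : Submodule F (ι → F)) (c : F) : Set (ι → F) := {v | v ∈ P ∧ Q v = c}

theorem mem_sphere {P : Submodule F (ι → F)} {c : F} {v : ι → F} :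
    v ∈ sphere Q P c ↔ v ∈ P ∧ Q v = c := Iff.rfl

theorem natCard_submodule (K : Submodule F (ι → F)) :
    Nat.card K = Fintype.card F ^ Module.finrank F K := by
  rw [Module.natCard_eq_pow_finrank (K := F), Nat.card_eq_fintype_card]

/-- Splitting the vectors of a given value along a hyperbolic pair. -/
theorem card_sphere {P : Submodule F (ι → F)} {e f : ι → F} (he : e ∈ P) (hf : f ∈ P) (hQe : Q e = 0)
    (hQf : Q f = 0) (hef : pol Q e f = 1) (c : F) :
    (sphere Q P c).ncard = (Fintype.card F - 1) * Fintype.card F ^ (Module.finrank F P - 2) +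
      Fintype.card F * (sphere Q (pairPerp hQ P e f) c).ncard := by
  classical
  set P₀ := pairPerp hQ P e f with hP₀
  have hfe : pol Q f e = 1 := by rw [pcomm, hef]
  have hcoord : ∀ (α β : F) (y : ι → F), y ∈ P₀ →
      pol Q (α • e + β • f + y) e = β ∧ pol Q (α • e + β • f + y) f = α ∧
        Q (α • e + β • f + y) = α * β + Q y := fun α β y hy => by
    obtain ⟨-, hye, hyf⟩ := (mem_pairPerp hQ).1 hy
    refine ⟨?_, ?_, ?_⟩
    · rw [padd_left hQ, padd_left hQ, psmul_left hQ, psmul_left hQ, pol_self_singular hQ hQe, hfe, hye]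
      ring
    · rw [padd_left hQ, padd_left hQ, psmul_left hQ, psmul_left hQ, pol_self_singular hQ hQf, hef, hyf]
      ring
    · rw [qadd hQ, qadd hQ, qsmul hQ, qsmul hQ, hQe, hQf, padd_left hQ, psmul_left hQ, psmul_left hQ,
        psmul_left hQ, psmul_right hQ, hef, pcomm e y, pcomm f y, hye, hyf]
      ring
  let toV : (Fˣ × P₀) ⊕ (F × sphere Q P₀ c) → sphere Q P c := fun z => match z with
    | .inl (b, y) => ⟨((c - Q y.1) / (b : F)) • e + (b : F) • f + y.1,
        P.add_mem (P.add_mem (P.smul_mem _ he) (P.smul_mem _ hf)) ((mem_pairPerp hQ).1 y.2).1, by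
          rw [(hcoord _ _ _ y.2).2.2, div_mul_cancel₀ _ b.ne_zero, sub_add_cancel]⟩
    | .inr (a, y) => ⟨a • e + (0 : F) • f + y.1,
        P.add_mem (P.add_mem (P.smul_mem _ he) (P.smul_mem _ hf)) ((mem_pairPerp hQ).1 y.2.1).1, by
          rw [(hcoord _ _ _ y.2.1).2.2, y.2.2]; ring⟩
  have hbij : Function.Bijective toV := by
    constructor
    · rintro (⟨b, y⟩ | ⟨a, y⟩) (⟨b', y'⟩ | ⟨a', y'⟩) h <;> have h' := congrArg Subtype.val h <;>
        simp only [toV] at h'
      · have hb := congrArg (fun v => pol Q v e) h'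
        simp only [(hcoord _ _ _ y.2).1, (hcoord _ _ _ y'.2).1] at hb
        obtain rfl : b = b' := Units.ext hb
        have ha := congrArg (fun v => pol Q v f) h'
        simp only [(hcoord _ _ _ y.2).2.1, (hcoord _ _ _ y'.2).2.1] at ha
        rw [ha] at h'
        exact congrArg Sum.inl (Prod.ext rfl (Subtype.ext (add_left_cancel h')))
      · have hb := congrArg (fun v => pol Q v e) h'
        simp only [(hcoord _ _ _ y.2).1, (hcoord _ _ _ y'.2.1).1] at hb
        exact absurd hb b.ne_zero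
      · have hb := congrArg (fun v => pol Q v e) h'
        simp only [(hcoord _ _ _ y.2.1).1, (hcoord _ _ _ y'.2).1] at hb
        exact absurd hb.symm b'.ne_zero
      · have ha := congrArg (fun v => pol Q v f) h'
        simp only [(hcoord _ _ _ y.2.1).2.1, (hcoord _ _ _ y'.2.1).2.1] at ha
        subst ha
        exact congrArg Sum.inr (Prod.ext rfl (Subtype.ext (add_left_cancel h')))
    · rintro ⟨v, hvP, hQv⟩
      have hy := pair_proj hQ he hf hQe hQf hef hvP
      set y := v - pol Q v f • e - pol Q v e • f with hy'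
      have hv : v = pol Q v f • e + pol Q v e • f + y := by rw [hy']; abel
      have hQy : pol Q v f * pol Q v e + Q y = c := by
        conv_rhs => rw [← hQv, hv]
        rw [(hcoord _ _ _ hy).2.2]
      by_cases hb : pol Q v e = 0
      · refine ⟨.inr (pol Q v f, ⟨y, hy, by rw [← hQy, hb]; ring⟩), Subtype.ext ?_⟩
        show pol Q v f • e + (0 : F) • f + y = v
        conv_rhs => rw [hv, hb]
      · refine ⟨.inl (Units.mk0 _ hb, ⟨y, hy⟩), Subtype.ext ?_⟩
        show ((c - Q y) / pol Q v e) • e + pol Q v e • f + y = v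
        conv_rhs => rw [hv]
        rw [← hQy, add_sub_cancel_right, mul_div_cancel_right₀ _ hb]
  rw [← Nat.card_coe_set_eq, ← Nat.card_congr (Equiv.ofBijective toV hbij), Nat.card_sum, Nat.card_prod,
    Nat.card_prod, Nat.card_units, natCard_submodule hQ, Nat.card_eq_fintype_card (α := F),
    Nat.card_coe_set_eq]
  have := pair_finrank_eq hQ he hf hQe hQf hef
  rw [← hP₀] at this
  rw [show Module.finrank F P - 2 = Module.finrank F P₀ by omega]

/-- The vectors with given value and given product with a non-zero `u`, outside the line of `u`. -/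
theorem card_slice_ge {P : Submodule F (ι → F)} (hP : NdOn Q P) (hd : 5 ≤ Module.finrank F P)
    {u : ι → F} (hu : u ∈ P) (hu0 : u ≠ 0) (c β : F) :
    (Fintype.card F - 1) * Fintype.card F ^ (Module.finrank F P - 3) ≤
      {v : ι → F | v ∈ P ∧ Q v = c ∧ pol Q v u = β ∧ ∀ k : F, v ≠ k • u}.ncard := by
  classical
  obtain ⟨s, s', hs, hs', hQs, hQs', hss, hsu, hsu'⟩ := exists_pair_orth hQ hP hd hu
  set P₀ := pairPerp hQ P s s' with hP₀
  have hP₀nd : NdOn Q P₀ := pair_nd hQ hs hs' hQs hQs' hss hP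
  have hP₀d := pair_finrank_eq hQ hs hs' hQs hQs' hss
  have hu₀ : u ∈ P₀ := (mem_pairPerp hQ).2 ⟨hu, by rw [pcomm, hsu], by rw [pcomm, hsu']⟩
  obtain ⟨z, hz, hzu⟩ := (hP₀nd u hu₀ hu0).1
  set y₀ := (β / pol Q z u) • z with hy₀
  have hy₀u : pol Q y₀ u = β := by rw [hy₀, psmul_left hQ, div_mul_cancel₀ _ hzu]
  have hy₀P : y₀ ∈ P₀ := P₀.smul_mem _ hz
  let toV : Fˣ × orthIn hQ P₀ u → {v : ι → F | v ∈ P ∧ Q v = c ∧ pol Q v u = β ∧ ∀ k : F, v ≠ k • u} :=
    fun w => ⟨(w.1 : F) • s' + ((c - Q (y₀ + w.2.1)) / (w.1 : F)) • s + (y₀ + w.2.1), by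
      obtain ⟨hw, hwu⟩ := (mem_orthIn hQ).1 w.2.2
      obtain ⟨hyP, hys, hys'⟩ := (mem_pairPerp hQ).1 (P₀.add_mem hy₀P hw)
      refine ⟨P.add_mem (P.add_mem (P.smul_mem _ hs') (P.smul_mem _ hs)) hyP, ?_, ?_, fun k hk => ?_⟩
      · rw [qadd hQ, qadd hQ, qsmul hQ, qsmul hQ, hQs', hQs, padd_left hQ, psmul_left hQ, psmul_left hQ,
          psmul_left hQ, psmul_right hQ, pcomm s' s, hss, pcomm s' (y₀ + w.2.1), pcomm s (y₀ + w.2.1), hys,
          hys']
        field_simp
        ring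
      · rw [padd_left hQ, padd_left hQ, psmul_left hQ, psmul_left hQ, hsu, hsu', padd_left hQ, hy₀u, hwu]
        ring
      · have := congrArg (fun v => pol Q v s) hk
        simp only [padd_left hQ, psmul_left hQ] at this
        rw [pcomm s' s, hss, pol_self_singular hQ hQs, pcomm u s, hsu, mul_zero, mul_one, mul_zero,
          add_zero] at this
        rw [← padd_left hQ, hys, add_zero] at this
        exact w.1.ne_zero this⟩
  have hinj : Function.Injective toV := by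
    rintro ⟨b, y⟩ ⟨b', y'⟩ h
    have h' : (b : F) • s' + ((c - Q (y₀ + y.1)) / (b : F)) • s + (y₀ + y.1) =
        (b' : F) • s' + ((c - Q (y₀ + y'.1)) / (b' : F)) • s + (y₀ + y'.1) := congrArg Subtype.val h
    have hP0 : ∀ w : orthIn hQ P₀ u, pol Q (y₀ + w.1) s = 0 ∧ pol Q (y₀ + w.1) s' = 0 := fun w =>
      ((mem_pairPerp hQ).1 (P₀.add_mem hy₀P w.2.1)).2
    have hb := congrArg (fun v => pol Q v s) h'
    simp only [padd_left hQ, psmul_left hQ, pcomm s' s, hss, pol_self_singular hQ hQs] at hb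
    rw [← padd_left hQ, (hP0 y).1, ← padd_left hQ, (hP0 y').1] at hb
    simp only [mul_one, mul_zero, add_zero] at hb
    obtain rfl : b = b' := Units.ext hb
    have ha := congrArg (fun v => pol Q v s') h'
    simp only [padd_left hQ, psmul_left hQ, hss, pol_self_singular hQ hQs'] at ha
    rw [← padd_left hQ, (hP0 y).2, ← padd_left hQ, (hP0 y').2] at ha
    simp only [mul_one, mul_zero, add_zero, zero_add] at ha
    rw [ha] at h'
    exact Prod.ext rfl (Subtype.ext (add_left_cancel (add_left_cancel h')))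
  have h1 := Nat.card_le_card_of_injective toV hinj
  rw [Nat.card_prod, Nat.card_units, natCard_submodule hQ, Nat.card_eq_fintype_card (α := F),
    Nat.card_coe_set_eq] at h1
  refine le_trans (Nat.mul_le_mul_left _ (Nat.pow_le_pow_right Fintype.card_pos ?_)) h1
  have := finrank_orthIn hQ P₀ u
  rw [← hP₀] at hP₀d
  omega

end CfsgLib.PGroup.OrthIndex
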