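import Cfsg.Agent.Lib.PGroup.OrthIndex.Types

/-!
No singular vector has a trivial star at a point of an action on few points.
-/

set_option autoImplicit false
set_option linter.unusedSectionVars false

namespace CfsgLib.PGroup.OrthIndex

open scoped Matrix
open Matrix Cfsg.Geo CfsgLib.Perm.Asch CfsgLib.Perm.Trans CfsgLib.Perm.Trans.Quad

variable {ι : Type} [Fintype ι] [DecidableEq ι] {F : Type*} [Field F] [Fintype F]
variable {Q : (ι → F) → F}

local notation "pol" => QuadraticMap.polar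

variable (hQ : IsNondegenerateQuadraticForm Q)
include hQ
variable {X : Type*} [MulAction ↥(eGroup Q) X]

omit hQ in
theorem exists_sq_ne_one (hq : 4 ≤ Fintype.card F) : ∃ c : F, c ≠ 0 ∧ c ^ 2 ≠ 1 := by
  classical
  obtain ⟨c, hc⟩ : ∃ c : F, c ∉ ({0, 1, -1} : Finset F) := by
    refine not_forall.1 fun hall => ?_
    have h1 : Fintype.card F ≤ ({0, 1, -1} : Finset F).card := Finset.card_le_card fun t _ => hall t
    have h2 : ({0, 1, -1} : Finset F).card ≤ 3 := Finset.card_le_three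
    omega
  simp only [Finset.mem_insert, Finset.mem_singleton, not_or] at hc
  exact ⟨c, hc.1, fun h => (sq_eq_one_iff.1 h).elim hc.2.1 hc.2.2⟩

namespace Frame

variable (Φ : Frame Q)

/-- The orbit of the unipotent radical of a trivial star has `q ^ d` points and is the only one. -/
theorem triv_orbit (hq : 4 ≤ Fintype.card F) (hP : Φ.P = ⊤) [Finite X]
    (hsmall : Nat.card X * (Fintype.card F - 1) < (sphere Q (⊤ : Submodule F (ι → F)) 0).ncard - 1)
    {x : X} (h : Triv hQ x Φ.e) {g : ↥(eGroup Q)} {c : F} (hg : Φ.Levi hQ g c) :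
    ∃ a ∈ Φ.W hQ, g • x = el hQ Φ.e a • x := by
  classical
  by_contra hcon
  simp only [not_exists, not_and] at hcon
  have hW := Φ.W_finrank hQ
  rw [hP, finrank_top, Module.finrank_fintype_fun_eq_card] at hW
  have h4 := Φ.W_four hQ
  have hfree : ∀ y : X, Triv hQ y Φ.e → ∀ a ∈ Φ.W hQ, el hQ Φ.e a • y = y → a = 0 := fun y hy a ha hay => by
    obtain ⟨k, rfl⟩ := hy a ⟨Φ.pol_e hQ ha, hay⟩
    by_contra hne
    exact Φ.not_line hQ ha hne k rfl
  have htriv : Triv hQ (g • x) Φ.e := fun a ha => by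
    have hinv : act g⁻¹ Φ.e = c⁻¹ • Φ.e := by
      apply act_injective g
      rw [act_act_inv, act_smul, hg.2.2, smul_smul, inv_mul_cancel₀ hg.2.1, one_smul]
    have h1 := ha.map g⁻¹ Φ.hQe
    rw [inv_smul_smul, hinv] at h1
    have hpol : pol Q Φ.e (act g⁻¹ a) = 0 := by
      have := h1.1
      rw [psmul_left hQ, mul_eq_zero] at this
      exact this.resolve_left (inv_ne_zero hg.2.1)
    obtain ⟨k, hk⟩ := h _ (Star.of_smul_left Φ.hQe h1 hpol)
    have h2 := congrArg (act g) hk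
    rw [act_smul, act_act_inv, act_smul, hg.2.2, smul_smul] at h2
    refine ⟨c * (k * c), ?_⟩
    rw [mul_smul c, ← h2, smul_smul, mul_inv_cancel₀ hg.2.1, one_smul]
  let toX : (Φ.W hQ) ⊕ (Φ.W hQ) → X := fun p => match p with
    | .inl a => el hQ Φ.e a.1 • x
    | .inr a => el hQ Φ.e a.1 • g • x
  have hsub : ∀ (a b : Φ.W hQ), el hQ Φ.e a.1 = el hQ Φ.e b.1 * el hQ Φ.e (a.1 - b.1) := fun a b => by
    rw [← el_add hQ Φ.hQe (Φ.pol_e hQ b.2) (Φ.pol_e hQ ((Φ.W hQ).sub_mem a.2 b.2)), add_sub_cancel]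
  have hcross : ∀ a b : Φ.W hQ, el hQ Φ.e a.1 • x = el hQ Φ.e b.1 • g • x → False := fun a b hh => by
    rw [hsub a b, mul_smul, smul_left_cancel_iff] at hh
    exact hcon _ ((Φ.W hQ).sub_mem a.2 b.2) hh.symm
  have hinj : Function.Injective toX := by
    rintro (a | a) (b | b) hh <;> simp only [toX] at hh
    · rw [hsub a b, mul_smul, smul_left_cancel_iff] at hh
      exact congrArg Sum.inl (Subtype.ext (sub_eq_zero.1 (hfree x h _ ((Φ.W hQ).sub_mem a.2 b.2) hh)))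
    · exact (hcross a b hh).elim
    · exact (hcross b a hh.symm).elim
    · rw [hsub a b, mul_smul, smul_left_cancel_iff] at hh
      exact congrArg Sum.inr (Subtype.ext (sub_eq_zero.1 (hfree _ htriv _ ((Φ.W hQ).sub_mem a.2 b.2) hh)))
  have hle := Nat.card_le_card_of_injective toX hinj
  rw [Nat.card_sum, natCard_submodule hQ] at hle
  obtain ⟨d, hd⟩ : ∃ d, Module.finrank F (Φ.W hQ) = d + 2 := ⟨_, (Nat.sub_add_cancel (by omega)).symm⟩
  have h1 := sphere_zero_upper_two hQ (P := (⊤ : Submodule F (ι → F))) (ndOn_top hQ) (d := d)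
    (by rw [finrank_top, Module.finrank_fintype_fun_eq_card]; omega)
  obtain ⟨r, hr⟩ : ∃ r, Fintype.card F = r + 1 := ⟨Fintype.card F - 1, by omega⟩
  rw [hd, hr] at hle
  rw [hr] at h1 hsmall hq
  rw [Nat.add_sub_cancel] at hsmall h1
  have h2 : r * (r + 1) ^ (d + 2) + (r + 1) * (r * (r + 1) ^ d + (r + 1) * (r + 1) ^ d) ≤
      2 * (r + 1) ^ (d + 2) * r := by
    calc r * (r + 1) ^ (d + 2) + (r + 1) * (r * (r + 1) ^ d + (r + 1) * (r + 1) ^ d)
        = (r * (r + 1) + 2 * r + 1) * (r + 1) ^ (d + 1) := by ring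
      _ ≤ (2 * (r + 1) * r) * (r + 1) ^ (d + 1) := Nat.mul_le_mul_right _ (by nlinarith)
      _ = _ := by ring
  have h3 := Nat.mul_le_mul_right r hle
  rw [← two_mul] at h3
  omega

/-- A trivial star yields a point with trivial star fixed by everything stabilising the pair. -/
theorem triv_normal (hq : 4 ≤ Fintype.card F) (hP : Φ.P = ⊤) [Finite X]
    (hsmall : Nat.card X * (Fintype.card F - 1) < (sphere Q (⊤ : Submodule F (ι → F)) 0).ncard - 1)
    {x : X} (h : Triv hQ x Φ.e) :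
    ∃ g : ↥(eGroup Q), Triv hQ (g • x) Φ.e ∧ ∀ (k : ↥(eGroup Q)) (c : F), c ≠ 0 → act k Φ.e = c • Φ.e →
      act k Φ.f = c⁻¹ • Φ.f → k • g • x = g • x := by
  obtain ⟨c₀, hc₀, hc₁⟩ := exists_sq_ne_one (F := F) hq
  have hW := Φ.W_finrank hQ
  have h4 := Φ.W_four hQ
  obtain ⟨τ, hτe, hτf, hτy⟩ := exists_torus hQ hP Φ.hQe Φ.hQf Φ.hef (by
    show 3 ≤ Module.finrank F (Φ.W hQ)
    omega) hc₀
  set l := c₀ ^ 2 with hl
  have hl0 : l ≠ 0 := pow_ne_zero 2 hc₀
  have hmem : ∀ k : ↥(eGroup Q), k ∈ inner hQ Φ.P := fun k => by rw [hP, inner_top hQ]; trivial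
  obtain ⟨a₀, ha₀, hτx⟩ := Φ.triv_orbit hQ hq hP hsmall h (g := τ) (c := l) ⟨hmem τ, hl0, hτe⟩
  have hτW : ∀ w ∈ Φ.W hQ, act τ w = w := fun w hw => hτy w (Φ.pol_e' hQ hw) (Φ.pol_f hQ hw)
  have hτel : ∀ w ∈ Φ.W hQ, τ * el hQ Φ.e w = el hQ Φ.e (l • w) * τ := fun w hw => by
    rw [← el_smul_left hQ Φ.hQe l (Φ.pol_e hQ hw)]
    have := el_conj hQ τ Φ.hQe (Φ.pol_e hQ hw)
    rw [hτe, hτW w hw] at this
    rw [← this, inv_mul_cancel_right]
  have h1l : (1 : F) - l ≠ 0 := sub_ne_zero.2 (Ne.symm hc₁)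
  set w := (1 - l)⁻¹ • a₀ with hw
  have hwW : w ∈ Φ.W hQ := (Φ.W hQ).smul_mem _ ha₀
  have hfix : τ • el hQ Φ.e w • x = el hQ Φ.e w • x := by
    rw [← mul_smul, hτel w hwW, mul_smul, hτx, ← mul_smul,
      ← el_add hQ Φ.hQe (Φ.pol_e hQ ((Φ.W hQ).smul_mem l hwW)) (Φ.pol_e hQ ha₀)]
    congr 2
    rw [show a₀ = (1 - l) • w by rw [hw, smul_smul, mul_inv_cancel₀ h1l, one_smul], ← add_smul,
      add_sub_cancel, one_smul]
  have htriv : Triv hQ (el hQ Φ.e w • x) Φ.e := fun a ha => h a ⟨ha.1, by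
    have h2 := ha.2
    rwa [← mul_smul, ← el_add hQ Φ.hQe ha.1 (Φ.pol_e hQ hwW), add_comm,
      el_add hQ Φ.hQe (Φ.pol_e hQ hwW) ha.1, mul_smul, smul_left_cancel_iff] at h2⟩
  refine ⟨el hQ Φ.e w, htriv, fun k c hc hke hkf => ?_⟩
  obtain ⟨a, ha, hka⟩ := Φ.triv_orbit hQ hq hP hsmall htriv (g := k) (c := c) ⟨hmem k, hc, hke⟩
  have hcomm : τ * k = k * τ := ext_act fun v => by
    obtain ⟨y, hy, hyv⟩ : ∃ y ∈ Φ.W hQ, v = pol Q v Φ.f • Φ.e + pol Q v Φ.e • Φ.f + y :=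
      ⟨_, Φ.rest_mem hQ hP v, by abel⟩
    have hky : act k y ∈ Φ.W hQ := (mem_pairPerp hQ).2 ⟨by rw [hP]; exact Submodule.mem_top, by
      have h2 := pol_act k y Φ.e
      rw [hke, psmul_right hQ, Φ.pol_e' hQ hy, mul_eq_zero] at h2
      exact h2.resolve_left hc, by
      have h2 := pol_act k y Φ.f
      rw [hkf, psmul_right hQ, Φ.pol_f hQ hy, mul_eq_zero] at h2
      exact h2.resolve_left (inv_ne_zero hc)⟩
    rw [hyv]
    simp only [act_mul, act_add, act_smul, hke, hkf, hτe, hτf, hτW y hy, hτW _ hky, smul_smul]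
    module
  have h2 : el hQ Φ.e (l • a) • el hQ Φ.e w • x = el hQ Φ.e a • el hQ Φ.e w • x := by
    conv_lhs => rw [← hfix]
    rw [← mul_smul, ← hτel a ha, mul_smul, ← hka, ← mul_smul, hcomm, mul_smul, hfix]
  have h3 : el hQ Φ.e (l • a - a) • el hQ Φ.e w • x = el hQ Φ.e w • x := by
    have hsplit : el hQ Φ.e (l • a) = el hQ Φ.e a * el hQ Φ.e (l • a - a) := by
      rw [← el_add hQ Φ.hQe (Φ.pol_e hQ ha)
        (Φ.pol_e hQ ((Φ.W hQ).sub_mem ((Φ.W hQ).smul_mem l ha) ha)), add_sub_cancel]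
    rw [hsplit, mul_smul] at h2
    exact smul_left_cancel _ h2
  obtain ⟨j, hj⟩ := htriv _ ⟨Φ.pol_e hQ ((Φ.W hQ).sub_mem ((Φ.W hQ).smul_mem l ha) ha), h3⟩
  have h4 : l • a - a = 0 := by
    by_contra hne
    exact Φ.not_line hQ ((Φ.W hQ).sub_mem ((Φ.W hQ).smul_mem l ha) ha) hne j hj
  have h5 : a = 0 := by
    have : (l - 1) • a = 0 := by rw [sub_smul, one_smul, h4]
    exact (smul_eq_zero.1 this).resolve_left (sub_ne_zero.2 hc₁)
  rw [hka, h5, el_zero hQ Φ.hQe, one_smul]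

/-- With a trivial star normalised, the second vector of the pair is full. -/
theorem triv_full (hq : 4 ≤ Fintype.card F) (hn : 8 ≤ Fintype.card ι) (hP : Φ.P = ⊤) [Finite X]
    (hsmall : Nat.card X * (Fintype.card F - 1) < (sphere Q (⊤ : Submodule F (ι → F)) 0).ncard - 1)
    {x : X} (h : Triv hQ x Φ.e) (hfix : ∀ (k : ↥(eGroup Q)) (c : F), c ≠ 0 → act k Φ.e = c • Φ.e →
      act k Φ.f = c⁻¹ • Φ.f → k • x = x) : Full hQ x Φ.f := by
  have hW := Φ.W_finrank hQ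
  rw [hP, finrank_top, Module.finrank_fintype_fun_eq_card] at hW
  have hin : ∀ k ∈ inner hQ (Φ.W hQ), k • x = x := fun k hk => hfix k 1 one_ne_zero
    (by rw [one_smul]; exact inner_fix hQ hk fun y hy => Φ.pol_e hQ hy)
    (by rw [inv_one, one_smul]; exact inner_fix hQ hk fun y hy => by rw [pcomm]; exact Φ.pol_f hQ hy)
  have key : ∀ s ∈ Φ.W hQ, Q s = 0 → Star hQ x Φ.f s := fun s hs hQs => by
    rcases eq_or_ne s 0 with rfl | hs0
    · exact Star.zero Φ.hQf x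
    have hse : pol Q s Φ.e = 0 := Φ.pol_e' hQ hs
    have hnoe : ∀ k : F, k ≠ 0 → ¬ Star hQ x s (k • Φ.e) := fun k hk hstar => by
      obtain ⟨j, hj⟩ := h _ (hstar.swap_smul hQ hQs Φ.hQe)
      exact Φ.not_line hQ ((Φ.W hQ).smul_mem k hs) (smul_ne_zero hk hs0) j hj
    obtain ⟨s', hs', hQs', hss⟩ := exists_partner hQ (Φ.W_nd hQ) hs hs0 hQs
    set W₀ := pairPerp hQ (Φ.W hQ) s s' with hW₀
    have hW₀d := pair_finrank_eq hQ hs hs' hQs hQs' hss
    rw [← hW₀] at hW₀d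
    have hW₀star : ∀ w ∈ W₀, Star hQ x s w := fun w hw => by
      obtain ⟨hwW, hws, -⟩ := (mem_pairPerp hQ).1 hw
      exact ⟨by rw [pcomm, hws], hin _ (el_mem_inner hQ hs hwW hQs (by rw [pcomm, hws]))⟩
    obtain ⟨ΦS, hSP, hSe⟩ := exists_frame hQ (by omega) hQs hs0
    obtain ⟨u, hsu, -, hu⟩ : Hyp hQ x s := by
      rcases ΦS.classify hQ hq hn hSP hsmall x with hc | hc | hc | ⟨-, hc⟩
      · rw [hSe] at hc
        exact (hnoe 1 one_ne_zero (by rw [one_smul]; exact hc.star hse)).elim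
      · rw [hSe] at hc
        obtain ⟨w, hw, hw0, hQw⟩ := exists_singular_mem hQ W₀ (by omega)
        obtain ⟨k, hk⟩ := hc _ (hW₀star w hw)
        obtain ⟨-, -, hws'⟩ := (mem_pairPerp hQ).1 hw
        rw [hk, psmul_left hQ, hss, mul_one] at hws'
        rw [hws', zero_smul] at hk
        exact (hw0 hk).elim
      · rwa [hSe] at hc
      · rw [hSe] at hc
        obtain ⟨M, -, hM, -, hiff⟩ := hc
        obtain ⟨w, hw, hQw⟩ := exists_qvalue hQ (pair_nd hQ hs hs' hQs hQs' hss (Φ.W_nd hQ)) (by rw [← hW₀]; omega) 1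
        exact (one_ne_zero (hQw.symm.trans (hM w ((hiff w).1 (hW₀star w hw))))).elim
    have hstar : ∀ a b : F, a * pol Q Φ.e u + b * pol Q Φ.f u = 0 → Star hQ x s (a • Φ.e + b • Φ.f) :=
      fun a b hab => by
        have hp : pol Q s (a • Φ.e + b • Φ.f) = 0 := by
          rw [padd_right hQ, psmul_right hQ, psmul_right hQ, hse, Φ.pol_f hQ hs]; ring
        exact ⟨hp, hu _ hp (by rw [padd_left hQ, psmul_left hQ, psmul_left hQ, hab])⟩
    rcases eq_or_ne (pol Q Φ.e u) 0 with he0 | he0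
    · exact (hnoe 1 one_ne_zero (by
        have := hstar 1 0 (by rw [he0]; ring)
        rwa [zero_smul, add_zero] at this)).elim
    rcases eq_or_ne (pol Q Φ.f u) 0 with hf0 | hf0
    · have := hstar 0 1 (by rw [hf0]; ring)
      rw [zero_smul, zero_add] at this
      have h1 := this.swap_smul hQ hQs Φ.hQf
      rwa [one_smul] at h1
    exfalso
    obtain ⟨c, hc, hc2⟩ := exists_sq_ne_one (F := F) hq
    obtain ⟨g, -, hge, hgf⟩ := exists_scale hQ hq Φ.nd Φ.six Φ.he Φ.hf Φ.hQe Φ.hQf Φ.hef hc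
    have hgW : act g s ∈ Φ.W hQ := (mem_pairPerp hQ).2 ⟨by rw [hP]; exact Submodule.mem_top, by
      have h2 := pol_act g s Φ.e
      rw [hge, psmul_right hQ, hse, mul_eq_zero] at h2
      exact h2.resolve_left hc, by
      have h2 := pol_act g s Φ.f
      rw [hgf, psmul_right hQ, Φ.pol_f hQ hs, mul_eq_zero] at h2
      exact h2.resolve_left (inv_ne_zero hc)⟩
    obtain ⟨k, hk, -, hks⟩ := move hQ hq (Φ.W_nd hQ) (by omega) (Φ.W hQ).zero_mem hgW hs
      (fun j => by rw [smul_zero]; exact fun h0 => hs0 (act_injective g (by rw [h0, act_zero])))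
      (fun j => by rwa [smul_zero]) (by rw [Q_act (Q := Q)]) (by rw [pzero_left hQ, pzero_left hQ])
    have hkgx : (k * g) • x = x := by rw [mul_smul, hfix g c hc hge hgf, hin k hk]
    have h1 := (hstar (pol Q Φ.f u) (-pol Q Φ.e u) (by ring)).map_of_fix hkgx hQs
    rw [act_mul, hks, act_add, act_smul, act_smul, act_mul, act_mul, hge, hgf, act_smul, act_smul,
      inner_fix hQ hk (fun y hy => Φ.pol_e hQ hy),
      inner_fix hQ hk (fun y hy => by rw [pcomm]; exact Φ.pol_f hQ hy)] at h1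
    have h2 := h1.sub hQs (hstar (pol Q Φ.f u * c⁻¹) (-pol Q Φ.e u * c⁻¹) (by ring))
    rw [show pol Q Φ.f u • c • Φ.e + (-pol Q Φ.e u) • c⁻¹ • Φ.f -
        ((pol Q Φ.f u * c⁻¹) • Φ.e + (-pol Q Φ.e u * c⁻¹) • Φ.f) = (pol Q Φ.f u * (c - c⁻¹)) • Φ.e by
      module] at h2
    refine hnoe _ (mul_ne_zero hf0 fun h0 => hc2 ?_) h2
    rw [sub_eq_zero] at h0
    rw [sq]
    nth_rewrite 2 [h0]
    exact mul_inv_cancel₀ hc
  intro a ha
  have ha' := Φ.rest_mem hQ hP a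
  set y := a - pol Q a Φ.f • Φ.e - pol Q a Φ.e • Φ.f with hy
  have hWall : ∀ w ∈ Φ.W hQ, Star hQ x Φ.f w := mem_of_singular hQ (Φ.W_nd hQ) (by omega)
    (S := {w | Star hQ x Φ.f w}) (fun p hp r hr => Star.add Φ.hQf hp hr) key
  have haf : pol Q a Φ.f = 0 := by rw [pcomm]; exact ha
  have hdec : a = pol Q a Φ.e • Φ.f + y := by rw [hy, haf]; module
  rw [hdec]
  exact ((Star.self Φ.hQf x _).add Φ.hQf (hWall y ha')).2

end Frame

/-- No star is trivial. -/
theorem not_triv (hq : 4 ≤ Fintype.card F) (hn : 8 ≤ Fintype.card ι) [Finite X]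
    (hsmall : Nat.card X * (Fintype.card F - 1) < (sphere Q (⊤ : Submodule F (ι → F)) 0).ncard - 1)
    (x : X) {z : ι → F} (hz : Q z = 0) (hz0 : z ≠ 0) : ¬ Triv hQ x z := by
  classical
  intro htr
  obtain ⟨Φ, hP, rfl⟩ := exists_frame hQ (by omega) hz hz0
  obtain ⟨g₀, htriv, hfix⟩ := Φ.triv_normal hQ hq hP hsmall htr
  have hfull := Φ.triv_full hQ hq hn hP hsmall htriv hfix
  set x₁ := g₀ • x with hx₁
  have hW := Φ.W_finrank hQ
  rw [hP, finrank_top, Module.finrank_fintype_fun_eq_card] at hW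
  have hnotFull : ∀ w ∈ Φ.W hQ, w ≠ 0 → Q w = 0 → ¬ Full hQ x₁ w := fun w hw hw0 hQw hFw => by
    have h1 := (hFw.star (Φ.pol_e' hQ hw)).swap hQw Φ.hQe
    obtain ⟨j, hj⟩ := htriv w h1
    exact Φ.not_line hQ hw hw0 j hj
  have hnotFe : ¬ Full hQ x₁ Φ.e := fun hFe => by
    obtain ⟨w, hw, hw0, -⟩ := exists_singular_mem hQ (Φ.W hQ) (by omega)
    obtain ⟨j, hj⟩ := htriv w (hFe.star (Φ.pol_e hQ hw))
    exact Φ.not_line hQ hw hw0 j hj
  -- the stabiliser fixes the line of `f`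
  have hline : ∀ g : ↥(eGroup Q), g • x₁ = x₁ → ∃ k : F, act g Φ.f = k • Φ.f := by
    intro g hg
    have hF' := hfull.map_of_fix hg Φ.hQf
    set f' := act g Φ.f with hf'
    have hQf' : Q f' = 0 := by rw [hf', Q_act (Q := Q), Φ.hQf]
    set α := pol Q f' Φ.f with hα
    set β := pol Q f' Φ.e with hβ
    set w := f' - α • Φ.e - β • Φ.f with hw
    have hwW : w ∈ Φ.W hQ := Φ.rest_mem hQ hP f'
    have hdec : f' = α • Φ.e + β • Φ.f + w := by rw [hw]; abel
    have hfix' : ∀ a, pol Q Φ.f a = 0 → ∀ v, Q v = 0 → act (el hQ Φ.f a) v = f' → Full hQ x₁ v :=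
      fun a ha v hv hav => by
        have h1 := hF'.map_of_fix (g := (el hQ Φ.f a)⁻¹) (inv_smul_eq_iff.2 (hfull a ha).symm) hQf'
        rwa [← hav, act_inv_act] at h1
    have hqsum : α * β + Q w = 0 := by
      rw [← hQf']
      conv_rhs => rw [hdec]
      rw [qadd hQ, qadd hQ, qsmul hQ, qsmul hQ, Φ.hQe, Φ.hQf, psmul_left hQ, psmul_right hQ, Φ.hef,
        padd_left hQ, psmul_left hQ, psmul_left hQ, Φ.pol_e hQ hwW, pcomm Φ.f w, Φ.pol_f hQ hwW]
      ring
    by_cases hα0 : α = 0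
    · by_cases hw0 : w = 0
      · refine ⟨β, ?_⟩
        conv_lhs => rw [hdec, hα0, hw0]
        simp
      exfalso
      have hQw : Q w = 0 := by rw [hα0, zero_mul, zero_add] at hqsum; exact hqsum
      obtain ⟨w', hw', hww'⟩ := ((Φ.W_nd hQ) w hwW hw0).1
      set a := (-β / pol Q w' w) • w' with ha
      have haW : a ∈ Φ.W hQ := (Φ.W hQ).smul_mem _ hw'
      have hfa : pol Q Φ.f a = 0 := by rw [pcomm]; exact Φ.pol_f hQ haW
      refine hnotFull w hwW hw0 hQw (hfix' a hfa w hQw ?_)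
      rw [act_el hQ Φ.hQf hfa, Φ.pol_f hQ hwW, hdec, hα0]
      have : pol Q w a = -β := by rw [pcomm, ha, psmul_left hQ, div_mul_cancel₀ _ hww']
      rw [this]
      module
    · exfalso
      set a := α⁻¹ • w with ha
      have hfa : pol Q Φ.f a = 0 := by rw [ha, psmul_right hQ, pcomm, Φ.pol_f hQ hwW, mul_zero]
      refine hnotFe (Full.of_smul Φ.hQe hα0 (hfix' a hfa (α • Φ.e) (by rw [qsmul hQ, Φ.hQe, mul_zero]) ?_))
      rw [act_el hQ Φ.hQf hfa, hdec, psmul_left hQ, psmul_left hQ, Φ.hef, Φ.pol_e hQ ((Φ.W hQ).smul_mem _ hwW),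
        ha, qsmul hQ, mul_one, mul_zero, smul_smul, mul_inv_cancel₀ hα0, one_smul, zero_smul, sub_zero]
      have hβ' : α⁻¹ ^ 2 * Q w * α = -β := by
        rw [show Q w = -(α * β) by linear_combination hqsum]
        field_simp
      rw [hβ']
      module
  -- the points are at least as many as the lines
  haveI : Fintype X := Fintype.ofFinite X
  have hmove : ∀ v : ↥(sphere Q (⊤ : Submodule F (ι → F)) 0 \ {0}), ∃ g : ↥(eGroup Q), act g Φ.f = v.1 := by
    rintro ⟨v, ⟨-, hQv⟩, hv0⟩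
    obtain ⟨g, hg, hgv⟩ := exists_move hQ (by omega) (fun h0 => one_ne_zero (Φ.hef.symm.trans
      (by rw [h0, pzero_right hQ]))) hv0 Φ.hQf hQv
    exact ⟨⟨g, hg⟩, hgv⟩
  choose gv hgv using hmove
  let rep : X → ↥(eGroup Q) := fun y => if h : ∃ g : ↥(eGroup Q), g • x₁ = y then h.choose else 1
  have hrep : ∀ v, ∃ k : Fˣ, v.1 = (k : F) • act (rep (gv v • x₁)) Φ.f := fun v => by
    have h1 : rep (gv v • x₁) • x₁ = gv v • x₁ := by
      have hex : ∃ g : ↥(eGroup Q), g • x₁ = gv v • x₁ := ⟨_, rfl⟩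
      simp only [rep, dif_pos hex]
      exact hex.choose_spec
    obtain ⟨k, hk⟩ := hline ((rep (gv v • x₁))⁻¹ * gv v) (by rw [mul_smul, inv_smul_eq_iff, h1])
    have h2 : v.1 = k • act (rep (gv v • x₁)) Φ.f := by
      rw [← act_smul, ← hk, act_mul, act_act_inv, hgv]
    have hk0 : k ≠ 0 := fun h0 => v.2.2 (by
      rw [h0, zero_smul] at h2
      exact h2)
    exact ⟨Units.mk0 k hk0, h2⟩
  choose kv hkv using hrep
  have h1 := Nat.card_le_card_of_injective (fun v => (gv v • x₁, kv v)) fun v v' h => by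
    obtain ⟨hy, hk⟩ := Prod.mk.inj h
    exact Subtype.ext (by rw [hkv v, hkv v', hy, hk])
  rw [Nat.card_coe_set_eq, Nat.card_prod, Nat.card_units, Nat.card_eq_fintype_card (α := F),
    Set.ncard_sdiff_singleton_of_mem
      (show (0 : ι → F) ∈ sphere Q (⊤ : Submodule F (ι → F)) 0 from ⟨Submodule.mem_top, qzero hQ⟩)] at h1
  omega

end CfsgLib.PGroup.OrthIndex
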