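import Cfsg.Agent.Lib.PGroup.OrthIndex.Move
import Mathlib.Analysis.Fourier.FiniteAbelian.PontryaginDuality

/-!
Orbits of the unipotent radical at a hyperbolic pair, described by the dual of a stabiliser.
-/

set_option autoImplicit false
set_option linter.unusedSectionVars false

namespace CfsgLib.PGroup.OrthIndex

open scoped Matrix
open Matrix Cfsg.Geo CfsgLib.Perm.Asch CfsgLib.Perm.Trans CfsgLib.Perm.Trans.Quad

variable {ι : Type} [Fintype ι] [DecidableEq ι] {F : Type*} [Field F] [Fintype F]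
variable {Q : (ι → F) → F}

local notation "pol" => QuadraticMap.polar

omit [Fintype ι] [DecidableEq ι] in
theorem exists_primitive : ∃ ψ : AddChar F ℂ, ψ.IsPrimitive := by
  obtain ⟨ψ, hψ⟩ := (AddChar.exists_apply_ne_zero (a := (1 : F))).2 one_ne_zero
  exact ⟨ψ, AddChar.IsPrimitive.of_ne_one fun h => hψ (by rw [h, AddChar.one_apply])⟩

variable (F) in
/-- A primitive additive character of a finite field. -/
noncomputable def psi : AddChar F ℂ := (exists_primitive (F := F)).choose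

omit [Fintype ι] [DecidableEq ι] in
theorem psi_separates {a : F} (h : ∀ c : F, psi F (a * c) = 1) : a = 0 := by
  by_contra ha
  refine (exists_primitive (F := F)).choose_spec ha ?_
  ext c
  rw [AddChar.mulShift_apply, AddChar.one_apply]
  exact h c

/-- A hyperbolic pair in a nondegenerate subspace. -/
structure Frame (Q : (ι → F) → F) where
  P : Submodule F (ι → F)
  e : ι → F
  f : ι → F
  nd : NdOn Q P
  six : 6 ≤ Module.finrank F P
  he : e ∈ P
  hf : f ∈ P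
  hQe : Q e = 0
  hQf : Q f = 0
  hef : pol Q e f = 1

variable (hQ : IsNondegenerateQuadraticForm Q)
include hQ

namespace Frame

variable (Φ : Frame Q)

/-- The orthogonal of the pair in the subspace. -/
abbrev W : Submodule F (ι → F) := pairPerp hQ Φ.P Φ.e Φ.f

/-- The projection of the orthogonal of `e` to the orthogonal of the pair. -/
def proj (v : ι → F) : ι → F := v - pol Q v Φ.f • Φ.e

theorem hfe : pol Q Φ.f Φ.e = 1 := by rw [pcomm, Φ.hef]

theorem e_ne : Φ.e ≠ 0 := fun h => one_ne_zero (Φ.hef.symm.trans (by rw [h, pzero_left hQ]))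

theorem W_le : Φ.W hQ ≤ Φ.P := inf_le_left.trans inf_le_left

theorem pol_e {w : ι → F} (hw : w ∈ Φ.W hQ) : pol Q Φ.e w = 0 := by
  rw [pcomm, ((mem_pairPerp hQ).1 hw).2.1]

theorem pol_e' {w : ι → F} (hw : w ∈ Φ.W hQ) : pol Q w Φ.e = 0 := ((mem_pairPerp hQ).1 hw).2.1

theorem pol_f {w : ι → F} (hw : w ∈ Φ.W hQ) : pol Q w Φ.f = 0 := ((mem_pairPerp hQ).1 hw).2.2

theorem W_nd : NdOn Q (Φ.W hQ) := pair_nd hQ Φ.he Φ.hf Φ.hQe Φ.hQf Φ.hef Φ.nd

theorem W_finrank : Module.finrank F (Φ.W hQ) + 2 = Module.finrank F Φ.P :=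
  pair_finrank_eq hQ Φ.he Φ.hf Φ.hQe Φ.hQf Φ.hef

theorem W_four : 4 ≤ Module.finrank F (Φ.W hQ) := by
  have := Φ.W_finrank hQ
  have := Φ.six
  omega

theorem not_line {w : ι → F} (hw : w ∈ Φ.W hQ) (hw0 : w ≠ 0) (c : F) : w ≠ c • Φ.e := fun h => by
  have := Φ.pol_f hQ hw
  rw [h, psmul_left hQ, Φ.hef, mul_one] at this
  rw [this, zero_smul] at h
  exact hw0 h

theorem proj_mem {v : ι → F} (hv : v ∈ Φ.P) (hve : pol Q v Φ.e = 0) : Φ.proj v ∈ Φ.W hQ :=
  (mem_pairPerp hQ).2 ⟨Φ.P.sub_mem hv (Φ.P.smul_mem _ Φ.he),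
    by rw [proj, psub_left hQ, psmul_left hQ, pol_self_singular hQ Φ.hQe, hve]; ring,
    by rw [proj, psub_left hQ, psmul_left hQ, Φ.hef]; ring⟩

theorem proj_of_mem {w : ι → F} (hw : w ∈ Φ.W hQ) : Φ.proj w = w := by
  rw [proj, Φ.pol_f hQ hw, zero_smul, sub_zero]

theorem pol_proj {x v : ι → F} (hx : pol Q x Φ.e = 0) : pol Q x (Φ.proj v) = pol Q x v := by
  rw [proj, psub_right hQ, psmul_right hQ, hx, mul_zero, sub_zero]

theorem el_proj {v : ι → F} (hv : pol Q Φ.e v = 0) : el hQ Φ.e (Φ.proj v) = el hQ Φ.e v := by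
  have h2 : pol Q Φ.e (-(pol Q v Φ.f • Φ.e)) = 0 := by
    rw [pneg_right hQ, psmul_right hQ, pol_self_singular hQ Φ.hQe, mul_zero, neg_zero]
  rw [proj, sub_eq_add_neg, el_add hQ Φ.hQe hv h2, ← neg_smul, el_self hQ Φ.hQe, mul_one]

variable {Y : Type*} [MulAction ↥(eGroup Q) Y]

/-- The vectors of the orthogonal of the pair whose Eichler transformation at `e` fixes `y`. -/
def stab (y : Y) : AddSubgroup (Φ.W hQ) where
  carrier := {a | el hQ Φ.e a.1 • y = y}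
  zero_mem' := by
    show el hQ Φ.e (0 : ι → F) • y = y
    rw [el_zero hQ Φ.hQe, one_smul]
  add_mem' := fun {a b} ha hb => by
    show el hQ Φ.e (a.1 + b.1) • y = y
    rw [el_add hQ Φ.hQe (Φ.pol_e hQ a.2) (Φ.pol_e hQ b.2), mul_smul, hb, ha]
  neg_mem' := fun {a} ha => by
    show el hQ Φ.e (-a.1) • y = y
    rw [el_neg hQ Φ.hQe (Φ.pol_e hQ a.2), inv_smul_eq_iff, ha]

theorem mem_stab {y : Y} {a : Φ.W hQ} : a ∈ Φ.stab hQ y ↔ el hQ Φ.e a.1 • y = y := Iff.rfl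

/-- The annihilator of the stabiliser, which has the size of the orbit. -/
def dual (y : Y) : Set (ι → F) :=
  {u | u ∈ Φ.W hQ ∧ ∀ a ∈ Φ.W hQ, el hQ Φ.e a • y = y → psi F (pol Q a u) = 1}

theorem dual_mem {y : Y} {u : ι → F} (h : u ∈ Φ.dual hQ y) : u ∈ Φ.W hQ := h.1

theorem zero_mem_dual (y : Y) : (0 : ι → F) ∈ Φ.dual hQ y :=
  ⟨(Φ.W hQ).zero_mem, fun a _ _ => by rw [pzero_right hQ, AddChar.map_zero_eq_one]⟩

theorem add_mem_dual {y : Y} {u v : ι → F} (hu : u ∈ Φ.dual hQ y) (hv : v ∈ Φ.dual hQ y) :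
    u + v ∈ Φ.dual hQ y :=
  ⟨(Φ.W hQ).add_mem hu.1 hv.1, fun a ha h => by
    rw [padd_right hQ, AddChar.map_add_eq_mul, hu.2 a ha h, hv.2 a ha h, mul_one]⟩

theorem neg_mem_dual {y : Y} {u : ι → F} (hu : u ∈ Φ.dual hQ y) : -u ∈ Φ.dual hQ y :=
  ⟨(Φ.W hQ).neg_mem hu.1, fun a ha h => by
    rw [pneg_right hQ, AddChar.map_neg_eq_inv, hu.2 a ha h, inv_one]⟩

theorem eq_zero_of_separated {K : Submodule F (ι → F)} (hK : NdOn Q K) {u : ι → F} (hu : u ∈ K)
    (h : ∀ a ∈ K, psi F (pol Q a u) = 1) : u = 0 := by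
  by_contra hu0
  obtain ⟨a, ha, hau⟩ := (hK u hu hu0).1
  refine hau (psi_separates fun c => ?_)
  rw [mul_comm, ← psmul_left hQ]
  exact h _ (K.smul_mem c ha)

/-- A vector of `W` as a character of `W`. -/
noncomputable def pairing (u : Φ.W hQ) : AddChar (Φ.W hQ) ℂ where
  toFun a := psi F (pol Q a.1 u.1)
  map_zero_eq_one' := by
    show psi F (pol Q (0 : ι → F) u.1) = 1
    rw [pzero_left hQ, AddChar.map_zero_eq_one]
  map_add_eq_mul' := fun a b => by
    show psi F (pol Q (a.1 + b.1) u.1) = _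
    rw [padd_left hQ, AddChar.map_add_eq_mul]

theorem pairing_apply (u a : Φ.W hQ) : Φ.pairing hQ u a = psi F (pol Q a.1 u.1) := rfl

theorem pairing_bijective : Function.Bijective (Φ.pairing hQ) := by
  classical
  haveI : Fintype (Φ.W hQ) := Fintype.ofFinite _
  refine (Fintype.bijective_iff_injective_and_card _).2 ⟨fun u v h => ?_, AddChar.card_eq.symm⟩
  refine Subtype.ext (sub_eq_zero.1 (eq_zero_of_separated hQ (Φ.W_nd hQ) ((Φ.W hQ).sub_mem u.2 v.2) fun a ha => ?_))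
  have := DFunLike.congr_fun h ⟨a, ha⟩
  rw [pairing_apply, pairing_apply] at this
  rw [psub_right hQ, sub_eq_add_neg, AddChar.map_add_eq_mul, AddChar.map_neg_eq_inv, this, mul_inv_cancel₀]
  exact (AddChar.val_isUnit _ _).ne_zero

/-- The dual is the character group of the quotient by the stabiliser. -/
theorem dual_card (y : Y) :
    (Φ.dual hQ y).ncard = Nat.card (Φ.W hQ ⧸ Φ.stab hQ y) := by
  classical
  haveI : Fintype (Φ.W hQ ⧸ Φ.stab hQ y) := Fintype.ofFinite _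
  rw [← Nat.card_coe_set_eq, Nat.card_eq_fintype_card (α := _ ⧸ _), ← AddChar.card_eq (α := _ ⧸ _),
    ← Nat.card_eq_fintype_card]
  symm
  have hsurj := (Φ.pairing_bijective hQ).2
  let toU : AddChar (Φ.W hQ ⧸ Φ.stab hQ y) ℂ → Φ.dual hQ y := fun χ =>
    let u := (hsurj (χ.compAddMonoidHom (QuotientAddGroup.mk' (Φ.stab hQ y)))).choose
    ⟨u.1, u.2, fun a ha h => by
      have hu := DFunLike.congr_fun
        (hsurj (χ.compAddMonoidHom (QuotientAddGroup.mk' (Φ.stab hQ y)))).choose_spec ⟨a, ha⟩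
      rw [pairing_apply, AddChar.compAddMonoidHom_apply] at hu
      rw [hu, QuotientAddGroup.mk'_apply,
        (QuotientAddGroup.eq_zero_iff _).2 (show (⟨a, ha⟩ : Φ.W hQ) ∈ Φ.stab hQ y from h),
        AddChar.map_zero_eq_one]⟩
  refine Nat.card_congr (Equiv.ofBijective toU ⟨fun χ χ' h => ?_, fun u => ?_⟩)
  · have h1 : (hsurj (χ.compAddMonoidHom (QuotientAddGroup.mk' (Φ.stab hQ y)))).choose =
        (hsurj (χ'.compAddMonoidHom (QuotientAddGroup.mk' (Φ.stab hQ y)))).choose :=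
      Subtype.ext (congrArg Subtype.val h :)
    have h2 := congrArg (Φ.pairing hQ) h1
    rw [(hsurj _).choose_spec, (hsurj _).choose_spec] at h2
    ext q
    induction q using QuotientAddGroup.induction_on with
    | H a => exact DFunLike.congr_fun h2 a
  · let χ : AddChar (Φ.W hQ ⧸ Φ.stab hQ y) ℂ :=
      { toFun := fun q => Quotient.liftOn' q (fun a => psi F (pol Q a.1 u.1)) fun a b hab => by
          have h := u.2.2 _ (-a + b).2 (QuotientAddGroup.leftRel_apply.1 hab)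
          show psi F (pol Q a.1 u.1) = psi F (pol Q b.1 u.1)
          rw [show b.1 = a.1 + (-a + b).1 by rw [Submodule.coe_add, Submodule.coe_neg]; abel, padd_left hQ,
            AddChar.map_add_eq_mul, h, mul_one]
        map_zero_eq_one' := by
          show psi F (pol Q (0 : ι → F) u.1) = 1
          rw [pzero_left hQ, AddChar.map_zero_eq_one]
        map_add_eq_mul' := fun q q' => by
          induction q using QuotientAddGroup.induction_on with
          | H a =>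
            induction q' using QuotientAddGroup.induction_on with
            | H b =>
              show psi F (pol Q (a.1 + b.1) u.1) = _
              rw [padd_left hQ, AddChar.map_add_eq_mul]
              rfl }
    refine ⟨χ, Subtype.ext ?_⟩
    refine congrArg (fun w : Φ.W hQ => (w : ι → F))
      ((Φ.pairing_bijective hQ).1 (a₂ := (⟨u.1, u.2.1⟩ : Φ.W hQ)) ?_)
    rw [(hsurj _).choose_spec]
    ext a
    rfl

theorem dual_card_dvd (y : Y) :
    (Φ.dual hQ y).ncard ∣ Fintype.card F ^ Module.finrank F (Φ.W hQ) := by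
  rw [dual_card, ← natCard_submodule hQ]
  exact ⟨Nat.card (Φ.stab hQ y), AddSubgroup.card_eq_card_quotient_mul_card_addSubgroup _⟩

/-- Vectors orthogonal to the dual fix the point. -/
theorem fix_of_dual {y : Y} {a : ι → F} (ha : a ∈ Φ.W hQ)
    (h : ∀ u ∈ Φ.dual hQ y, psi F (pol Q a u) = 1) : el hQ Φ.e a • y = y := by
  classical
  haveI : Fintype (Φ.W hQ ⧸ Φ.stab hQ y) := Fintype.ofFinite _
  refine (Φ.mem_stab hQ (a := ⟨a, ha⟩)).1 ((QuotientAddGroup.eq_zero_iff _).1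
    (AddChar.forall_apply_eq_zero.1 fun χ => ?_))
  obtain ⟨u, hu⟩ := (Φ.pairing_bijective hQ).2 (χ.compAddMonoidHom (QuotientAddGroup.mk' (Φ.stab hQ y)))
  have hmem : u.1 ∈ Φ.dual hQ y := ⟨u.2, fun b hb hfix => by
    have := DFunLike.congr_fun hu ⟨b, hb⟩
    rw [pairing_apply, AddChar.compAddMonoidHom_apply] at this
    rw [this, QuotientAddGroup.mk'_apply,
      (QuotientAddGroup.eq_zero_iff _).2 (show (⟨b, hb⟩ : Φ.W hQ) ∈ Φ.stab hQ y from hfix),
      AddChar.map_zero_eq_one]⟩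
  have h1 := DFunLike.congr_fun hu ⟨a, ha⟩
  rw [pairing_apply, AddChar.compAddMonoidHom_apply] at h1
  rw [← h _ hmem, h1]
  rfl

theorem dual_el {y : Y} {a : ι → F} (ha : a ∈ Φ.W hQ) : Φ.dual hQ (el hQ Φ.e a • y) = Φ.dual hQ y := by
  ext u
  refine and_congr_right fun _ => forall₂_congr fun b hb => imp_congr_left ?_
  rw [← mul_smul, ← el_add hQ Φ.hQe (Φ.pol_e hQ hb) (Φ.pol_e hQ ha), add_comm,
    el_add hQ Φ.hQe (Φ.pol_e hQ ha) (Φ.pol_e hQ hb), mul_smul]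
  exact smul_left_cancel_iff _

/-- The elements used to move the duals: they preserve the subspace and the line of `e`. -/
def Levi (g : ↥(eGroup Q)) (c : F) : Prop := g ∈ inner hQ Φ.P ∧ c ≠ 0 ∧ act g Φ.e = c • Φ.e

/-- The induced map on the orthogonal of the pair. -/
def leviMap (g : ↥(eGroup Q)) (c : F) (u : ι → F) : ι → F := c⁻¹ • Φ.proj (act g u)

variable {hQ Φ}

theorem Levi.act_perp {g : ↥(eGroup Q)} {c : F} (hg : Φ.Levi hQ g c) {u : ι → F} (hu : u ∈ Φ.W hQ) :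
    pol Q (act g u) Φ.e = 0 := by
  have h := pol_act g u Φ.e
  rw [hg.2.2, psmul_right hQ, Φ.pol_e' hQ hu, mul_eq_zero] at h
  exact h.resolve_left hg.2.1

theorem Levi.maps {g : ↥(eGroup Q)} {c : F} (hg : Φ.Levi hQ g c) {u : ι → F} (hu : u ∈ Φ.W hQ) :
    Φ.leviMap g c u ∈ Φ.W hQ :=
  (Φ.W hQ).smul_mem _ (Φ.proj_mem hQ (inner_maps hQ hg.1 (Φ.W_le hQ hu)) (hg.act_perp hu))

theorem Levi.pol_map {g : ↥(eGroup Q)} {c : F} (hg : Φ.Levi hQ g c) {u v : ι → F} (hu : u ∈ Φ.W hQ)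
    (hv : v ∈ Φ.W hQ) : pol Q (Φ.leviMap g c u) (Φ.leviMap g c v) = c⁻¹ * c⁻¹ * pol Q u v := by
  have h1 : pol Q (Φ.proj (act g u)) Φ.e = 0 :=
    Φ.pol_e' hQ (Φ.proj_mem hQ (inner_maps hQ hg.1 (Φ.W_le hQ hu)) (hg.act_perp hu))
  rw [leviMap, leviMap, psmul_left hQ, psmul_right hQ, Φ.pol_proj hQ h1, pcomm,
    Φ.pol_proj hQ (hg.act_perp hv), pol_act, pcomm, mul_assoc]

theorem Levi.map_injOn {g : ↥(eGroup Q)} {c : F} (hg : Φ.Levi hQ g c) :
    Set.InjOn (Φ.leviMap g c) (Φ.W hQ : Set (ι → F)) := fun u hu v hv h => by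
  have hd : (u - v) ∈ Φ.W hQ := (Φ.W hQ).sub_mem hu hv
  refine sub_eq_zero.1 (eq_zero_of_separated hQ (Φ.W_nd hQ) hd fun a ha => ?_)
  have h0 : Φ.leviMap g c (u - v) = 0 := by
    have : Φ.leviMap g c (u - v) = Φ.leviMap g c u - Φ.leviMap g c v := by
      simp only [leviMap, proj, act_sub, psub_left hQ]
      module
    rw [this, h, sub_self]
  have h1 := hg.pol_map ha hd
  rw [h0, pzero_right hQ, eq_comm, mul_eq_zero] at h1
  rw [h1.resolve_left (mul_ne_zero (inv_ne_zero hg.2.1) (inv_ne_zero hg.2.1)), AddChar.map_zero_eq_one]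

theorem Levi.map_surjOn {g : ↥(eGroup Q)} {c : F} (hg : Φ.Levi hQ g c) {v : ι → F} (hv : v ∈ Φ.W hQ) :
    ∃ u ∈ Φ.W hQ, Φ.leviMap g c u = v := by
  let T : Φ.W hQ → Φ.W hQ := fun u => ⟨Φ.leviMap g c u.1, hg.maps u.2⟩
  have hinj : Function.Injective T := fun u u' h => Subtype.ext (hg.map_injOn u.2 u'.2 (congrArg Subtype.val h))
  obtain ⟨u, hu⟩ := Finite.injective_iff_surjective.1 hinj ⟨v, hv⟩
  exact ⟨u.1, u.2, congrArg Subtype.val hu⟩

/-- The dual of the image of a point. -/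
theorem Levi.dual {g : ↥(eGroup Q)} {c : F} (hg : Φ.Levi hQ g c) (y : Y) :
    Φ.dual hQ (g • y) = Φ.leviMap g c '' Φ.dual hQ y := by
  have he' : act g⁻¹ Φ.e = c⁻¹ • Φ.e := by
    apply act_injective g
    rw [act_act_inv, act_smul, hg.2.2, smul_smul, inv_mul_cancel₀ hg.2.1, one_smul]
  have hperp : ∀ a ∈ Φ.W hQ, pol Q (act g⁻¹ a) Φ.e = 0 := fun a ha => by
    have h := pol_act g⁻¹ a Φ.e
    rw [he', psmul_right hQ, Φ.pol_e' hQ ha, mul_eq_zero] at h
    exact h.resolve_left (inv_ne_zero hg.2.1)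
  set back : (ι → F) → ι → F := fun a => Φ.proj (c⁻¹ • act g⁻¹ a) with hback
  have hbackW : ∀ a ∈ Φ.W hQ, back a ∈ Φ.W hQ := fun a ha => Φ.proj_mem hQ
    (Φ.P.smul_mem _ (inner_maps hQ (inv_mem hg.1) (Φ.W_le hQ ha)))
    (by rw [psmul_left hQ, hperp a ha, mul_zero])
  have hpb : ∀ a ∈ Φ.W hQ, ∀ u ∈ Φ.W hQ, pol Q a (Φ.leviMap g c u) = pol Q (back a) u :=
    fun a ha u hu => by
      show pol Q a (c⁻¹ • Φ.proj (act g u)) = pol Q (Φ.proj (c⁻¹ • act g⁻¹ a)) u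
      rw [psmul_right hQ, Φ.pol_proj hQ (Φ.pol_e' hQ ha), pcomm (Φ.proj _) u,
        Φ.pol_proj hQ (Φ.pol_e' hQ hu), psmul_right hQ, pcomm u]
      conv_lhs => rw [← act_act_inv g a]
      rw [pol_act]
  have hfix : ∀ a ∈ Φ.W hQ, el hQ Φ.e a • g • y = g • y ↔ el hQ Φ.e (back a) • y = y := fun a ha => by
    have h2 : pol Q Φ.e (c⁻¹ • act g⁻¹ a) = 0 := by rw [psmul_right hQ, pcomm, hperp a ha, mul_zero]
    have h3 : g⁻¹ * el hQ Φ.e a * g = el hQ Φ.e (back a) := by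
      have := el_conj hQ g⁻¹ Φ.hQe (Φ.pol_e hQ ha)
      rw [inv_inv] at this
      rw [this, he', el_smul_left hQ Φ.hQe _ (by rw [pcomm, hperp a ha])]
      exact (Φ.el_proj hQ h2).symm
    rw [← h3, mul_smul, mul_smul, inv_smul_eq_iff]
  have hbinj : Set.InjOn back (Φ.W hQ : Set (ι → F)) := fun a ha b hb h => by
    refine sub_eq_zero.1 (eq_zero_of_separated hQ (Φ.W_nd hQ) ((Φ.W hQ).sub_mem ha hb) fun v hv => ?_)
    obtain ⟨u, hu, rfl⟩ := hg.map_surjOn hv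
    rw [pcomm, psub_left hQ, hpb a ha u hu, hpb b hb u hu, h, sub_self, AddChar.map_zero_eq_one]
  have hbsurj : ∀ b ∈ Φ.W hQ, ∃ a ∈ Φ.W hQ, back a = b := fun b hb => by
    let T : Φ.W hQ → Φ.W hQ := fun u => ⟨back u.1, hbackW _ u.2⟩
    obtain ⟨u, hu⟩ := Finite.injective_iff_surjective.1
      (show Function.Injective T from fun u u' h => Subtype.ext (hbinj u.2 u'.2 (congrArg Subtype.val h))) ⟨b, hb⟩
    exact ⟨u.1, u.2, congrArg Subtype.val hu⟩
  ext v
  constructor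
  · rintro ⟨hv, hv'⟩
    obtain ⟨u, hu, rfl⟩ := hg.map_surjOn hv
    refine ⟨u, ⟨hu, fun b hb hbf => ?_⟩, rfl⟩
    obtain ⟨a, ha, rfl⟩ := hbsurj b hb
    rw [← hpb a ha u hu]
    exact hv' a ha ((hfix a ha).2 hbf)
  · rintro ⟨u, hu, rfl⟩
    refine ⟨hg.maps hu.1, fun a ha haf => ?_⟩
    rw [hpb a ha u hu.1]
    exact hu.2 _ (hbackW a ha) ((hfix a ha).1 haf)

theorem Levi.dual_ncard {g : ↥(eGroup Q)} {c : F} (hg : Φ.Levi hQ g c) (y : Y) :
    (Φ.dual hQ (g • y)).ncard = (Φ.dual hQ y).ncard := by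
  rw [hg.dual y]
  exact Set.InjOn.ncard_image (hg.map_injOn.mono fun u hu => hu.1)

variable (hQ Φ)

/-- The duals of the images of a point. -/
def duals (y : Y) : Set (Set (ι → F)) := {U | ∃ g c, Φ.Levi hQ g c ∧ U = Φ.dual hQ (g • y)}

/-- Different duals give different orbits. -/
theorem duals_count {Ω : Set Y} (hΩ : Ω.Finite) (y : Y)
    (hy : ∀ g c, Φ.Levi hQ g c → ∀ a ∈ Φ.W hQ, el hQ Φ.e a • g • y ∈ Ω) :
    (Φ.duals hQ y).ncard * (Φ.dual hQ y).ncard ≤ Ω.ncard := by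
  classical
  have hex : ∀ U : Φ.duals hQ y, ∃ p : ↥(eGroup Q) × F, Φ.Levi hQ p.1 p.2 ∧ U.1 = Φ.dual hQ (p.1 • y) :=
    fun ⟨U, g, c, hg, hU⟩ => ⟨(g, c), hg, hU⟩
  choose rep hrep hU using hex
  have hcard : ∀ U : Φ.duals hQ y,
      Nat.card (Φ.W hQ ⧸ Φ.stab hQ ((rep U).1 • y)) = (Φ.dual hQ y).ncard := fun U => by
    rw [← dual_card, (hrep U).dual_ncard y]
  let toΩ : (Σ U : Φ.duals hQ y, Φ.W hQ ⧸ Φ.stab hQ ((rep U).1 • y)) → Ω := fun p =>
    ⟨el hQ Φ.e (Quotient.out p.2).1 • (rep p.1).1 • y, hy _ _ (hrep p.1) _ (Quotient.out p.2).2⟩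
  have hinj : Function.Injective toΩ := by
    rintro ⟨U, a⟩ ⟨V, b⟩ h
    have h' : el hQ Φ.e (Quotient.out a).1 • (rep U).1 • y = el hQ Φ.e (Quotient.out b).1 • (rep V).1 • y :=
      congrArg Subtype.val h
    obtain rfl : U = V := Subtype.ext (by
      rw [hU U, hU V]
      have := congrArg (Φ.dual hQ) h'
      rwa [dual_el hQ Φ (Quotient.out a).2, dual_el hQ Φ (Quotient.out b).2] at this)
    refine Sigma.ext rfl (heq_of_eq ?_)
    rw [← Quotient.out_eq a, ← Quotient.out_eq b]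
    refine Quotient.sound (QuotientAddGroup.leftRel_apply.2 ((Φ.mem_stab hQ).2 ?_))
    rw [Submodule.coe_add, Submodule.coe_neg, el_add hQ Φ.hQe
      (by rw [pneg_right hQ, Φ.pol_e hQ (Quotient.out a).2, neg_zero]) (Φ.pol_e hQ (Quotient.out b).2),
      el_neg hQ Φ.hQe (Φ.pol_e hQ (Quotient.out a).2), mul_smul, ← h', inv_smul_smul]
  haveI := hΩ.to_subtype
  haveI : Fintype (Φ.duals hQ y) := Fintype.ofFinite _
  have h1 := Nat.card_le_card_of_injective toΩ hinj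
  rw [Nat.card_sigma, Finset.sum_congr rfl (fun U _ => hcard U), Finset.sum_const, Finset.card_univ,
    smul_eq_mul, Nat.card_coe_set_eq] at h1
  rwa [← Nat.card_coe_set_eq, Nat.card_eq_fintype_card]

/-- Many tuples inside the duals force many points. -/
theorem duals_tuples {Ω : Set Y} (hΩ : Ω.Finite) (y : Y)
    (hy : ∀ g c, Φ.Levi hQ g c → ∀ a ∈ Φ.W hQ, el hQ Φ.e a • g • y ∈ Ω) {τ : Type*} [Finite τ]
    (mem : τ → Set (ι → F) → Prop) (T : Set τ) (hT : ∀ t ∈ T, ∃ U ∈ Φ.duals hQ y, mem t U) (B : ℕ)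
    (hB : ∀ U ∈ Φ.duals hQ y, {t | mem t U}.ncard ≤ B) :
    T.ncard * (Φ.dual hQ y).ncard ≤ Ω.ncard * B := by
  classical
  haveI : Fintype τ := Fintype.ofFinite _
  have hfin : (Φ.duals hQ y).Finite := Set.toFinite _
  have h1 : T.ncard ≤ (Φ.duals hQ y).ncard * B := by
    have hsub : T.toFinset ⊆ hfin.toFinset.biUnion fun U => {t | mem t U}.toFinset := fun t ht => by
      obtain ⟨U, hU, htU⟩ := hT t (Set.mem_toFinset.1 ht)
      exact Finset.mem_biUnion.2 ⟨U, hfin.mem_toFinset.2 hU, Set.mem_toFinset.2 htU⟩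
    have h2 := Finset.card_le_card hsub
    rw [← Set.ncard_eq_toFinset_card'] at h2
    refine h2.trans (Finset.card_biUnion_le.trans ?_)
    rw [Set.ncard_eq_toFinset_card (Φ.duals hQ y) hfin, ← smul_eq_mul]
    exact Finset.sum_le_card_nsmul _ _ _ fun U hU => by
      rw [← Set.ncard_eq_toFinset_card']
      exact hB U (hfin.mem_toFinset.1 hU)
  calc T.ncard * (Φ.dual hQ y).ncard ≤ (Φ.duals hQ y).ncard * B * (Φ.dual hQ y).ncard :=
        Nat.mul_le_mul_right _ h1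
    _ = (Φ.duals hQ y).ncard * (Φ.dual hQ y).ncard * B := by ring
    _ ≤ Ω.ncard * B := Nat.mul_le_mul_right _ (Φ.duals_count hQ hΩ y hy)

end Frame

end CfsgLib.PGroup.OrthIndex
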