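import Cfsg.Agent.Lib.PGroup.OrthIndex.Dichotomy

/-!
The four possible stars of a singular vector at a point of an action on few points.
-/

set_option autoImplicit false
set_option linter.unusedSectionVars false

namespace CfsgLib.PGroup.OrthIndex

open scoped Matrix
open Matrix Cfsg.Geo CfsgLib.Perm.Asch CfsgLib.Perm.Trans CfsgLib.Perm.Trans.Quad

variable {ι : Type} [Fintype ι] [DecidableEq ι] {F : Type*} [Field F] [Fintype F]
variable {Q : (ι → F) → F}

local notation "pol" => QuadraticMap.polar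

variable (hQ : IsNondegenerateQuadraticForm Q)
variable {X : Type*} [MulAction ↥(eGroup Q) X]

/-- All Eichler transformations with centre `z` fix `x`. -/
def Full (x : X) (z : ι → F) : Prop := ∀ a, pol Q z a = 0 → el hQ z a • x = x

/-- No Eichler transformation with centre `z` fixes `x`. -/
def Triv (x : X) (z : ι → F) : Prop := ∀ a, Star hQ x z a → ∃ k : F, a = k • z

/-- The Eichler transformations with centre `z` orthogonal to some vector fix `x`. -/
def Hyp (x : X) (z : ι → F) : Prop :=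
  ∃ u, pol Q z u = 0 ∧ (∀ k : F, u ≠ k • z) ∧ ∀ a, pol Q z a = 0 → pol Q a u = 0 → el hQ z a • x = x

/-- The Eichler transformations with centre `z` fixing `x` belong to a totally singular solid. -/
def Ts (x : X) (z : ι → F) : Prop :=
  ∃ M : Submodule F (ι → F), Module.finrank F M = 4 ∧ (∀ v ∈ M, Q v = 0) ∧ z ∈ M ∧
    ∀ a, Star hQ x z a ↔ a ∈ M

include hQ

/-- Totally singular subspaces are orthogonal to themselves. -/
theorem pol_eq_zero_of_ts {M : Submodule F (ι → F)} (hM : ∀ v ∈ M, Q v = 0) {a b : ι → F} (ha : a ∈ M)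
    (hb : b ∈ M) : pol Q a b = 0 := by
  rw [QuadraticMap.polar, hM _ (M.add_mem ha hb), hM a ha, hM b hb]
  ring

theorem Star.swap_smul {x : X} {z a : ι → F} {c : F} (hz : Q z = 0) (hQa : Q a = 0)
    (h : Star hQ x z (c • a)) : Star hQ x a (c • z) := by
  rcases eq_or_ne c 0 with rfl | hc
  · rw [zero_smul]
    exact Star.zero hQa x
  · have hza : pol Q z a = 0 := by
      have := h.1
      rw [psmul_right hQ, mul_eq_zero] at this
      exact this.resolve_left hc
    exact Star.of_smul_left hQa (h.swap hz (by rw [qsmul hQ, hQa, mul_zero])) (by rw [pcomm, hza])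

variable {hQ}

theorem Full.star {x : X} {z a : ι → F} (h : Full hQ x z) (ha : pol Q z a = 0) : Star hQ x z a :=
  ⟨ha, h a ha⟩

theorem Full.smul {x : X} {z : ι → F} (hz : Q z = 0) (h : Full hQ x z) (c : F) : Full hQ x (c • z) := by
  intro a ha
  rcases eq_or_ne c 0 with rfl | hc
  · rw [zero_smul, el_zero_left hQ, one_smul]
  · rw [psmul_left hQ, mul_eq_zero] at ha
    rw [el_smul_left hQ hz c (ha.resolve_left hc)]
    exact h _ (by rw [psmul_right hQ, ha.resolve_left hc, mul_zero])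

theorem Full.of_smul {x : X} {z : ι → F} (hz : Q z = 0) {c : F} (hc : c ≠ 0) (h : Full hQ x (c • z)) :
    Full hQ x z := by
  have := h.smul (by rw [qsmul hQ, hz, mul_zero]) c⁻¹
  rwa [smul_smul, inv_mul_cancel₀ hc, one_smul] at this

theorem Full.map {x : X} {z : ι → F} (g : ↥(eGroup Q)) (hz : Q z = 0) (h : Full hQ x z) :
    Full hQ (g • x) (act g z) := fun a ha => by
  have ha' : pol Q z (act g⁻¹ a) = 0 := by rw [← pol_act g, act_act_inv, ha]
  have := ((h.star ha').map g hz).2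
  rwa [act_act_inv] at this

theorem Full.map_of_fix {x : X} {z : ι → F} {g : ↥(eGroup Q)} (hg : g • x = x) (hz : Q z = 0)
    (h : Full hQ x z) : Full hQ x (act g z) := by
  have := h.map g hz
  rwa [hg] at this

variable (hQ)

/-- Every element fixes a point at which all singular vectors are full. -/
theorem fix_of_all_full {x : X} (h : ∀ z, Q z = 0 → z ≠ 0 → Full hQ x z) (g : ↥(eGroup Q)) : g • x = x := by
  have hle : (⊤ : Subgroup ↥(eGroup Q)) ≤ MulAction.stabilizer ↥(eGroup Q) x := by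
    rw [← closure_el hQ, Subgroup.closure_le]
    rintro _ ⟨u, a, hu, hua, rfl⟩
    show el hQ u a • x = x
    rcases eq_or_ne u 0 with rfl | hu0
    · rw [el_zero_left hQ, one_smul]
    · exact h u hu hu0 a hua
  exact hle (Subgroup.mem_top g)

namespace Frame

variable (Φ : Frame Q)

/-- The frame with the two vectors exchanged. -/
def symm (Φ : Frame Q) (hfe : pol Q Φ.f Φ.e = 1) : Frame Q :=
  ⟨Φ.P, Φ.f, Φ.e, Φ.nd, Φ.six, Φ.hf, Φ.he, Φ.hQf, Φ.hQe, hfe⟩

theorem mem_W_symm {w : ι → F} : w ∈ (Φ.symm (Φ.hfe hQ)).W hQ ↔ w ∈ Φ.W hQ := by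
  show w ∈ pairPerp hQ Φ.P Φ.f Φ.e ↔ w ∈ pairPerp hQ Φ.P Φ.e Φ.f
  rw [mem_pairPerp, mem_pairPerp]
  tauto

/-- The part of a vector orthogonal to the pair. -/
theorem rest_mem (hP : Φ.P = ⊤) (v : ι → F) :
    v - pol Q v Φ.f • Φ.e - pol Q v Φ.e • Φ.f ∈ Φ.W hQ :=
  pair_proj hQ Φ.he Φ.hf Φ.hQe Φ.hQf Φ.hef (by rw [hP]; exact Submodule.mem_top)

theorem full_of_W (hP : Φ.P = ⊤) {x : X} (h : ∀ a ∈ Φ.W hQ, el hQ Φ.e a • x = x) : Full hQ x Φ.e :=
  fun a ha => by
    rw [← Φ.el_proj hQ ha]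
    exact h _ (Φ.proj_mem hQ (by rw [hP]; exact Submodule.mem_top) (by rw [pcomm, ha]))

/-- A vector of `W` is full as soon as its stars contain the pair and its orthogonal in `W`. -/
theorem full_mid (hP : Φ.P = ⊤) {x : X} {c : ι → F} (hc : c ∈ Φ.W hQ) (hQc : Q c = 0)
    (he : ∀ t : F, Star hQ x Φ.e (t • c)) (hf : ∀ t : F, Star hQ x Φ.f (t • c))
    (hW : ∀ a ∈ Φ.W hQ, pol Q a c = 0 → Star hQ x c a) : Full hQ x c := fun a ha => by
  have hy := Φ.rest_mem hQ hP a
  set y := a - pol Q a Φ.f • Φ.e - pol Q a Φ.e • Φ.f with hy'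
  have hyc : pol Q y c = 0 := by
    rw [hy', psub_left hQ, psub_left hQ, psmul_left hQ, psmul_left hQ, pcomm a c, ha, pcomm Φ.e c,
      Φ.pol_e' hQ hc, pcomm Φ.f c, Φ.pol_f hQ hc]
    ring
  have hdec : a = pol Q a Φ.f • Φ.e + pol Q a Φ.e • Φ.f + y := by rw [hy']; abel
  rw [hdec]
  exact (((he _).swap_smul hQ Φ.hQe hQc).add hQc ((hf _).swap_smul hQ Φ.hQf hQc) |>.add hQc (hW y hy hyc)).2

/-- Transfer from stars at the pair to a star at a vector of `W`. -/
theorem star_mid {x : X} {c a : ι → F} (hc : c ∈ Φ.W hQ) (hQc : Q c = 0) (ha : a ∈ Φ.W hQ)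
    (hac : pol Q a c = 0) (hea : Star hQ x Φ.e a) (he : ∀ t : F, Star hQ x Φ.e (t • c))
    (hf : Star hQ x Φ.f c) : Star hQ x c a := by
  have h1 := Star.split Φ.hQe Φ.hQf Φ.hef (by rw [pcomm, Φ.pol_f hQ ha]) (Φ.pol_e hQ hc) hac hQc hea hf
  have h2 := (h1.sub hQc (hf.swap Φ.hQf hQc)).add hQc ((he (Q a)).swap_smul hQ Φ.hQe hQc)
  rwa [show Φ.f + a - Q a • Φ.e - Φ.f + Q a • Φ.e = a by abel] at h2

/-- The same transfer with the two vectors exchanged. -/
theorem star_mid' {x : X} {c a : ι → F} (hc : c ∈ Φ.W hQ) (hQc : Q c = 0) (ha : a ∈ Φ.W hQ)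
    (hac : pol Q a c = 0) (hfa : Star hQ x Φ.f a) (hf : ∀ t : F, Star hQ x Φ.f (t • c))
    (he : Star hQ x Φ.e c) : Star hQ x c a :=
  (Φ.symm (Φ.hfe hQ)).star_mid hQ ((Φ.mem_W_symm hQ).2 hc) hQc ((Φ.mem_W_symm hQ).2 ha) hac hfa hf he

/-- The four possibilities. -/
theorem classify (hq : 4 ≤ Fintype.card F) (hn : 8 ≤ Fintype.card ι) (hP : Φ.P = ⊤) [Finite X]
    (hsmall : Nat.card X * (Fintype.card F - 1) < (sphere Q (⊤ : Submodule F (ι → F)) 0).ncard - 1) (x : X) :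
    Full hQ x Φ.e ∨ Triv hQ x Φ.e ∨ Hyp hQ x Φ.e ∨ (Fintype.card ι = 8 ∧ Ts hQ x Φ.e) := by
  have hPv : ∀ v : ι → F, v ∈ Φ.P := fun v => by rw [hP]; exact Submodule.mem_top
  have hproj : ∀ a, pol Q Φ.e a = 0 → Φ.proj a ∈ Φ.W hQ ∧ ∀ u ∈ Φ.W hQ, pol Q (Φ.proj a) u = pol Q a u :=
    fun a ha => ⟨Φ.proj_mem hQ (hPv a) (by rw [pcomm, ha]), fun u hu => by
      rw [pcomm, Φ.pol_proj hQ (Φ.pol_e' hQ hu), pcomm]⟩
  rcases Φ.dichotomy hQ hq hn hP hsmall x with h | h | ⟨u, hu, hu0, h⟩ | ⟨hn8, M, hMW, hMts, hM3, hU⟩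
  · refine Or.inl (Φ.full_of_W hQ hP fun a ha => Φ.fix_of_dual hQ ha fun u hu => ?_)
    rw [h, Set.mem_singleton_iff] at hu
    rw [hu, pzero_right hQ, AddChar.map_zero_eq_one]
  · refine Or.inr (Or.inl fun a ha => ?_)
    obtain ⟨ha', -⟩ := hproj a ha.1
    have h0 : Φ.proj a = 0 := eq_zero_of_separated hQ (Φ.W_nd hQ) ha' fun b hb => by
      rw [pcomm]
      exact (h b hb).2 _ ha' (by rw [Φ.el_proj hQ ha.1]; exact ha.2)
    exact ⟨pol Q a Φ.f, sub_eq_zero.1 h0⟩
  · refine Or.inr (Or.inr (Or.inl ⟨u, Φ.pol_e hQ hu, fun k => Φ.not_line hQ hu hu0 k, fun a ha hau => ?_⟩))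
    obtain ⟨ha', hpa⟩ := hproj a ha
    rw [← Φ.el_proj hQ ha]
    refine Φ.fix_of_dual hQ ha' fun v hv => ?_
    obtain ⟨k, rfl⟩ := h v hv
    rw [psmul_right hQ, hpa u hu, hau, mul_zero, AddChar.map_zero_eq_one]
  · refine Or.inr (Or.inr (Or.inr ⟨hn8, ?_⟩))
    have hdisj : M ⊓ Submodule.span F {Φ.e} = ⊥ := (Submodule.eq_bot_iff _).2 fun v ⟨hv, hv'⟩ => by
      obtain ⟨k, rfl⟩ := Submodule.mem_span_singleton.1 hv'
      by_contra hne
      exact Φ.not_line hQ (hMW hv) hne k rfl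
    have hfr := Submodule.finrank_sup_add_finrank_inf_eq M (Submodule.span F {Φ.e})
    rw [hdisj, finrank_bot, add_zero, hM3, finrank_span_singleton (Φ.e_ne hQ)] at hfr
    refine ⟨M ⊔ Submodule.span F {Φ.e}, hfr, fun v hv => ?_,
      Submodule.mem_sup_right (Submodule.mem_span_singleton_self _), fun a => ⟨fun ha => ?_, fun ha => ?_⟩⟩
    · obtain ⟨m, hm, w, hw, rfl⟩ := Submodule.mem_sup.1 hv
      obtain ⟨k, rfl⟩ := Submodule.mem_span_singleton.1 hw
      rw [qadd hQ, hMts m hm, qsmul hQ, Φ.hQe, psmul_right hQ, Φ.pol_e' hQ (hMW hm)]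
      ring
    · obtain ⟨ha', -⟩ := hproj a ha.1
      have horth : ∀ m ∈ M, pol Q m (Φ.proj a) = 0 := fun m hm => psi_separates fun c => by
        rw [mul_comm, ← psmul_left hQ, pcomm]
        exact (show c • m ∈ Φ.dual hQ x by rw [hU]; exact M.smul_mem c hm).2 _ ha'
          (by rw [Φ.el_proj hQ ha.1]; exact ha.2)
      have hle := finrank_orth_le hQ (Φ.W_nd hQ) hMW
        (L := M ⊔ Submodule.span F {Φ.proj a})
        (sup_le hMW ((Submodule.span_singleton_le_iff_mem _ _).2 ha')) fun v hv m hm => by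
          obtain ⟨m', hm', w, hw, rfl⟩ := Submodule.mem_sup.1 hv
          obtain ⟨k, rfl⟩ := Submodule.mem_span_singleton.1 hw
          rw [padd_left hQ, pol_eq_zero_of_ts hQ hMts hm' hm, psmul_left hQ, pcomm _ m, horth m hm]
          ring
      have hW := Φ.W_finrank hQ
      rw [hP, finrank_top, Module.finrank_fintype_fun_eq_card, hn8] at hW
      have hmem : Φ.proj a ∈ M := by
        have heq : M = M ⊔ Submodule.span F {Φ.proj a} :=
          Submodule.eq_of_le_of_finrank_le le_sup_left (by omega)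
        rw [heq]
        exact Submodule.mem_sup_right (Submodule.mem_span_singleton_self _)
      rw [show a = Φ.proj a + pol Q a Φ.f • Φ.e by rw [Frame.proj, sub_add_cancel]]
      exact Submodule.add_mem_sup hmem (Submodule.mem_span_singleton.2 ⟨_, rfl⟩)
    · obtain ⟨m, hm, w, hw, rfl⟩ := Submodule.mem_sup.1 ha
      obtain ⟨k, rfl⟩ := Submodule.mem_span_singleton.1 hw
      refine Star.add Φ.hQe ⟨Φ.pol_e hQ (hMW hm), Φ.fix_of_dual hQ (hMW hm) fun v hv => ?_⟩
        (Star.self Φ.hQe x k)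
      rw [hU] at hv
      rw [pol_eq_zero_of_ts hQ hMts hm hv, AddChar.map_zero_eq_one]

end Frame

/-- Every non-zero singular vector is the first vector of a frame of the whole space. -/
theorem exists_frame (hn : 6 ≤ Fintype.card ι) {z : ι → F} (hz : Q z = 0) (hz0 : z ≠ 0) :
    ∃ Φ : Frame Q, Φ.P = ⊤ ∧ Φ.e = z := by
  obtain ⟨f, -, hQf, hef⟩ := exists_partner hQ (ndOn_top hQ) Submodule.mem_top hz0 hz
  exact ⟨⟨⊤, z, f, ndOn_top hQ, by rwa [finrank_top, Module.finrank_fintype_fun_eq_card],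
    Submodule.mem_top, Submodule.mem_top, hz, hQf, hef⟩, rfl, rfl⟩

/-- A frame of the whole space on a given pair. -/
abbrev topFrame (hn : 6 ≤ Fintype.card ι) {e f : ι → F} (he : Q e = 0) (hf : Q f = 0) (hef : pol Q e f = 1) :
    Frame Q :=
  ⟨⊤, e, f, ndOn_top hQ, by rwa [finrank_top, Module.finrank_fintype_fun_eq_card],
    Submodule.mem_top, Submodule.mem_top, he, hf, hef⟩

end CfsgLib.PGroup.OrthIndex
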